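import Cfsg.Agent.MK.LD
import Cfsg.Agent.Local.FPF

/-! Local data: independence of the element and compatibility of two primes. -/

set_option autoImplicit false

namespace Cfsg.Agent.MK

open Subgroup Cfsg.Agent.M11 Cfsg.Agent.Local
open scoped Pointwise

variable {G : Type*} [Group G] [Finite G]

omit [Finite G] in
theorem cen_zp (x : G) : centralizer (zpowers x : Set G) = centralizer {x} := by
  ext g
  rw [mem_centralizer_iff, mem_centralizer_singleton_iff]
  constructor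
  · intro h; exact (h x (mem_zpowers x)).symm
  · rintro h _ ⟨k, rfl⟩; exact (Commute.zpow_right h k).eq.symm

theorem syl_zp {p : ℕ} (hsq : ¬ p * p ∣ Nat.card G) {x : G} (hx : orderOf x = p) {M : Subgroup G}
    (h : x ∈ M) : IsSylowIn p (zpowers x) M :=
  ⟨zpowers_le_of_mem h, isPGroup_zpowers_of_orderOf_eq hx, fun e => hsq (Dvd.dvd.trans (by
    rw [← card_mul_relIndex (zpowers_le_of_mem h), Nat.card_zpowers, hx]
    exact Nat.mul_dvd_mul_left p e) (card_subgroup_dvd_card M))⟩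

theorem relIndex_nrm {p : ℕ} [hp : Fact p.Prime] {P N : Subgroup G} (h : IsSylowIn p P N) :
    (normalizer (P : Set G)).relIndex N % p = 1 := by
  have h4 := card_sylow_modEq_one p N
  rw [Sylow.card_eq_index_normalizer h.toSylow] at h4
  change (normalizer ((P.subgroupOf N : Subgroup N) : Set N)).index % p = 1 % p at h4
  rwa [← subgroupOf_normalizer_eq h.le, Nat.mod_eq_of_lt hp.out.one_lt] at h4

/-- independent of the element -/
theorem LD.of_ord {p e X : ℕ} {x y : G} (h : LD p e X x) (hy : orderOf y = p) : LD p e X y := by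
  have := Fact.mk h.pr
  obtain ⟨g, -, hg⟩ := (syl_zp h.sq h.ord (mem_top x)).exists_conj (syl_zp h.sq hy (mem_top y))
  refine ⟨h.pr, h.sq, hy, ?_, ?_⟩
  · rw [← h.ccx, cc, cc, ← cen_zp, ← cen_zp, ← hg, centralizer_conj_smul, card_conj_smul]
  · rw [← h.nrm, ← hg, normalizer_conj_smul, card_conj_smul]

omit [Finite G] in
theorem cen_le_nrm (x : G) : centralizer {x} ≤ normalizer (zpowers x : Set G) :=
  cen_zp x ▸ centralizer_le_normalizer _

theorem LD.relIndex {p e X : ℕ} {x : G} (h : LD p e X x) :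
    (centralizer {x}).relIndex (normalizer (zpowers x : Set G)) = e := by
  have h1 := card_mul_relIndex (cen_le_nrm x)
  rw [h.nrm, ← h.ccx] at h1
  exact Nat.eq_of_mul_eq_mul_left (cc_pos x) h1

theorem LD.not_dvd {p e X : ℕ} {x : G} (h : LD p e X x) :
    ¬ p ∣ X ∧ ¬ p ∣ e ∧ e ∣ p - 1 ∧ 0 < X ∧ 0 < e := by
  have h1 := card_subgroup_dvd_card (normalizer (zpowers x : Set G))
  have h2 : 0 < Nat.card (normalizer (zpowers x : Set G)) := Nat.card_pos
  rw [h.nrm] at h1 h2
  refine ⟨fun k => h.sq (((Nat.mul_dvd_mul_left p k).mul_right e).trans h1),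
    fun k => h.sq ((mul_dvd_mul (dvd_mul_right p X) k).trans h1), ?_,
    Nat.pos_of_mul_pos_left (Nat.pos_of_mul_pos_right h2), Nat.pos_of_mul_pos_left h2⟩
  have key := card_dvd_of_injective _
    (QuotientGroup.kerLift_injective (zpowers x).normalizerMonoidHom)
  rwa [normalizerMonoidHom_ker, ← index, ← Subgroup.relIndex, IsCyclic.card_mulAut,
    Nat.card_zpowers, h.ord, Nat.totient_prime h.pr, cen_zp, h.relIndex] at key

theorem LD.dvd_of {p q e X f Y : ℕ} {x y : G} (h : LD p e X x) (k : LD q f Y y) (hpq : p ≠ q)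
    (hq : q ∣ X) : ∃ z, LD q f Y z ∧ Commute z x ∧ p ∣ Y := by
  obtain ⟨z, hz, hc⟩ := exists_of_prime_dvd_cc k.pr (g := x) (h.ccx ▸ hq.mul_left p)
  have h1 := orderOf_dvd_cc hc.symm.eq
  rw [h.ord, (k.of_ord hz).ccx] at h1
  exact ⟨z, k.of_ord hz, hc, ((Nat.coprime_primes h.pr k.pr).2 hpq).dvd_of_dvd_mul_left h1⟩

theorem LD.half {p q e X f Y : ℕ} {x y : G} (h : LD p e X x) (k : LD q f Y y) (hpq : p ≠ q)
    (hc : Commute y x) {m : ℕ}
    (hm : Nat.card ↥(normalizer (zpowers x : Set G) ⊓ normalizer (zpowers y : Set G)) = m) :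
    p * q * f ∣ m ∧ m ∣ q * Y * f ∧ (q * Y * f / m) % p = 1 := by
  have := Fact.mk h.pr
  have hx : x ∈ centralizer {y} := mem_centralizer_singleton_iff.2 hc.symm.eq
  have h1 := card_inf_mul_relIndex (normalizer (zpowers x : Set G)) (normalizer (zpowers y : Set G))
  rw [hm, k.nrm] at h1
  have hm0 : 0 < m := hm ▸ Nat.card_pos
  refine ⟨?_, Dvd.intro _ h1, by
    rw [← h1, Nat.mul_div_cancel_left _ hm0]
    exact relIndex_nrm (syl_zp h.sq h.ord (cen_le_nrm y hx))⟩
  have hn : normalizer (zpowers y : Set G) ≤ normalizer (centralizer {y} : Set G) :=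
    cen_zp y ▸ normalizer_le_normalizer_centralizer _
  have h2 : centralizer {y} ⊔ normalizer (zpowers x : Set G) ⊓ normalizer (zpowers y : Set G) =
      normalizer (zpowers y : Set G) := le_antisymm (sup_le (cen_le_nrm y) inf_le_right) fun g hg => by
    obtain ⟨n, hn1, hn2⟩ := (syl_zp h.sq h.ord hx).frattini (hn hg)
    rw [← mul_inv_cancel_left n g]
    exact mul_mem_sup hn1 ⟨hn2, Subgroup.mul_mem _ (Subgroup.inv_mem _ (cen_le_nrm y hn1)) hg⟩
  have h3 := relIndex_sup_of_le_normalizer (N := centralizer {y})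
    (A := normalizer (zpowers x : Set G) ⊓ normalizer (zpowers y : Set G)) (inf_le_right.trans hn)
  rw [h2, k.relIndex] at h3
  rw [← hm, ← card_inf_mul_relIndex (centralizer {y}), ← h3]
  refine Nat.mul_dvd_mul_right (((Nat.coprime_primes h.pr k.pr).2 hpq).mul_dvd_of_dvd_of_dvd ?_ ?_) f
  · exact h.ord ▸ orderOf_dvd_card_of_mem ⟨hx, le_normalizer (mem_zpowers x), cen_le_nrm y hx⟩
  · exact k.ord ▸ orderOf_dvd_card_of_mem ⟨mem_centralizer_singleton_iff.2 rfl,
      cen_le_nrm x (mem_centralizer_singleton_iff.2 hc.eq), le_normalizer (mem_zpowers y)⟩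

/-- compatibility of two primes -/
theorem LD.compat {p q e X f Y : ℕ} {x y : G} (h : LD p e X x) (k : LD q f Y y) (hpq : p ≠ q) :
    (q ∣ X ↔ p ∣ Y) ∧ (q ∣ X → ∃ m, p * q * f ∣ m ∧ p * q * e ∣ m ∧ m ∣ p * X * e ∧ m ∣ q * Y * f ∧
      (q * Y * f / m) % p = 1 ∧ (p * X * e / m) % q = 1) := by
  refine ⟨⟨fun hq => (h.dvd_of k hpq hq).choose_spec.2.2,
    fun hp => (k.dvd_of h hpq.symm hp).choose_spec.2.2⟩, fun hq => ?_⟩
  obtain ⟨z, k', hc, -⟩ := h.dvd_of k hpq hq
  obtain ⟨h1, h2, h3⟩ := h.half k' hpq hc rfl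
  obtain ⟨h4, h5, h6⟩ := k'.half h hpq.symm hc.symm (by rw [inf_comm])
  exact ⟨_, h1, mul_comm q p ▸ h4, h5, h2, h3, h6⟩

end Cfsg.Agent.MK
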