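import Cfsg.Agent.Char.Basic

/-! An invariant associative product on `ℂ ⊕ V` gives a subgroup of index `dim V + 1`. -/

set_option autoImplicit false
set_option linter.unusedSectionVars false

namespace Cfsg.Agent.MK.Alg

open Module

variable {G V : Type*} [Group G] [AddCommGroup V] [Module ℂ V] [FiniteDimensional ℂ V]

theorem common {W ι : Type*} [AddCommGroup W] [Module ℂ W] [FiniteDimensional ℂ W] (L : ι → End ℂ W)
    (hc : ∀ i j, L i * L j = L j * L i) (n : ℕ) : ∀ U : Submodule ℂ W, finrank ℂ U = n → U ≠ ⊥ →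
    (∀ i, ∀ v ∈ U, L i v ∈ U) → ∃ v : W, v ≠ 0 ∧ ∀ i, ∃ c : ℂ, L i v = c • v := by
  induction n using Nat.strong_induction_on with
  | _ n ih =>
    intro U hn hU hL
    by_cases h : ∀ i, ∃ c : ℂ, ∀ v ∈ U, L i v = c • v
    · obtain ⟨v, hv, h0⟩ := (Submodule.ne_bot_iff U).1 hU
      exact ⟨v, h0, fun i => (h i).imp fun c hc => hc v hv⟩
    push Not at h
    obtain ⟨i, hi⟩ := h
    have : Nontrivial U := Submodule.nontrivial_iff_ne_bot.2 hU
    obtain ⟨c, hc'⟩ := End.exists_eigenvalue ((L i).restrict (hL i))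
    obtain ⟨v, hv⟩ := hc'.exists_hasEigenvector
    have hv' : L i v = c • v := congrArg Subtype.val hv.apply_eq_smul
    obtain ⟨w, hw, hw'⟩ := hi c
    refine ih _ ?_ (U ⊓ (L i).eigenspace c) rfl (fun e => hv.2 (Subtype.ext ?_)) fun j x hx => ?_
    · rw [← hn]
      refine Submodule.finrank_lt_finrank_of_lt (lt_of_le_of_ne inf_le_left fun e => hw' ?_)
      exact End.mem_eigenspace_iff.1 (e.ge hw).2
    · exact (Submodule.mem_bot ℂ).1 (e ▸ (⟨v.2, End.mem_eigenspace_iff.2 hv'⟩ : v.1 ∈ U ⊓ _))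
    · refine ⟨hL j x hx.1, End.mem_eigenspace_iff.2 ?_⟩
      rw [← End.mul_apply, hc, End.mul_apply, End.mem_eigenspace_iff.1 hx.2, map_smul]

/-- The data: an invariant product and an invariant form with the associativity law. -/
structure Dat (ρ : Representation ℂ G V) (K : V →ₗ[ℂ] V →ₗ[ℂ] ℂ) (m : V →ₗ[ℂ] V →ₗ[ℂ] V) : Prop where
  irr : ∀ U : Submodule ℂ V, (∀ g : G, ∀ v ∈ U, ρ g v ∈ U) → U = ⊥ ∨ U = ⊤
  two : 2 ≤ finrank ℂ V
  Kinv : ∀ g x y, K (ρ g x) (ρ g y) = K x y
  minv : ∀ g x y, m (ρ g x) (ρ g y) = ρ g (m x y)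
  comm : ∀ x y, m x y = m y x
  Kcomm : ∀ x y, K x y = K y x
  Kass : ∀ x y z, K (m x y) z = K x (m y z)
  ass : ∀ x y z, m (m x y) z + K x y • z = m (m x z) y + K x z • y
  ne : ∃ x y, m x y ≠ 0

variable {ρ : Representation ℂ G V} {K : V →ₗ[ℂ] V →ₗ[ℂ] ℂ} {m : V →ₗ[ℂ] V →ₗ[ℂ] V}

theorem cancel (ρ : Representation ℂ G V) (g : G) (v : V) : ρ g (ρ g⁻¹ v) = v := by
  rw [← End.mul_apply, ← map_mul, mul_inv_cancel, map_one, End.one_apply]

theorem Dat.fix (D : Dat ρ K m) {v : V} (h : ∀ g, ρ g v = v) : v = 0 := by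
  rcases D.irr (ℂ ∙ v) (fun g w hw => by
    obtain ⟨c, rfl⟩ := Submodule.mem_span_singleton.1 hw
    rw [map_smul, h]
    exact hw) with e | e
  · exact Submodule.span_singleton_eq_bot.1 e
  · by_contra h0
    have h1 := finrank_span_singleton (K := ℂ) h0
    have := D.two
    rw [e, finrank_top] at h1
    omega

theorem Dat.fix' (D : Dat ρ K m) {f : V →ₗ[ℂ] ℂ} (h : ∀ g v, f (ρ g v) = f v) : f = 0 := by
  rcases D.irr (LinearMap.ker f) (fun g w hw => by rwa [LinearMap.mem_ker, h]) with e | e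
  · have h1 := LinearMap.finrank_le_finrank_of_injective (LinearMap.ker_eq_bot.1 e)
    have := D.two
    rw [finrank_self] at h1
    omega
  · exact LinearMap.ker_eq_top.1 e

/-- Left multiplication in `ℂ ⊕ V`. -/
noncomputable def LL (K : V →ₗ[ℂ] V →ₗ[ℂ] ℂ) (m : V →ₗ[ℂ] V →ₗ[ℂ] V) (x : V) : End ℂ (ℂ × V) :=
  ((K x).comp (LinearMap.snd ℂ ℂ V)).prod
    (LinearMap.coprod (LinearMap.toSpanSingleton ℂ V x) (m x))

omit [FiniteDimensional ℂ V] in
theorem LL_apply (x : V) (a : ℂ) (y : V) : LL K m x (a, y) = (K x y, a • x + m x y) := rfl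

theorem Dat.exists_hom (D : Dat ρ K m) : ∃ φ : V →ₗ[ℂ] ℂ, φ ≠ 0 ∧
    ∀ x y, φ (m x y) + K x y = φ x * φ y := by
  have hmul : ∀ x y v, LL K m x (LL K m y v) = LL K m (m x y) v + K x y • v := fun x y ⟨a, u⟩ => by
    simp only [LL_apply, map_add, map_smul, Prod.smul_mk, Prod.mk_add_mk, smul_eq_mul, D.Kass]
    refine Prod.ext (by simp only; ring) ?_
    have := D.ass y x u
    rw [D.comm y x, D.Kcomm y x, D.comm (m y u) x, D.comm (m x y) u] at this
    simp only [D.comm (m x y) u]
    linear_combination (norm := module) -this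
  obtain ⟨v, hv, h⟩ := common (LL K m) (fun x y => LinearMap.ext fun v => by
    rw [End.mul_apply, End.mul_apply, hmul, hmul, D.comm, D.Kcomm]) _ ⊤ rfl top_ne_bot
    fun _ _ _ => trivial
  choose c hc using h
  have hinj : ∀ {a b : ℂ}, a • v = b • v → a = b := fun e => smul_left_injective ℂ hv e
  obtain ⟨a, u⟩ := v
  let φ : V →ₗ[ℂ] ℂ :=
    { toFun := c
      map_add' := fun x y => hinj (by
        rw [add_smul, ← hc, ← hc, ← hc]
        simp only [LL_apply, map_add, LinearMap.add_apply, Prod.mk_add_mk, smul_add]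
        exact Prod.ext rfl (by simp only; abel))
      map_smul' := fun t x => hinj (by
        rw [RingHom.id_apply, smul_eq_mul, mul_smul, ← hc, ← hc]
        simp only [LL_apply, map_smul, LinearMap.smul_apply, Prod.smul_mk, smul_add, smul_comm a t]) }
  have hφ : ∀ x, φ x = c x := fun _ => rfl
  refine ⟨φ, fun e => ?_, fun x y => hinj ?_⟩
  · have h0 : ∀ x, m x u = -(a • x) := fun x => by
      have := hc x
      rw [← hφ, e, LinearMap.zero_apply, zero_smul, LL_apply] at this
      exact eq_neg_of_add_eq_zero_right (congrArg Prod.snd this)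
    by_cases ha : a = 0
    · obtain ⟨x, y, hxy⟩ := D.ne
      rcases D.irr (LinearMap.ker m) (fun g w hw => LinearMap.ext fun z => by
        rw [← cancel ρ g z, D.minv, LinearMap.mem_ker.1 hw]; simp) with e' | e'
      · refine hv (Prod.ext ha ((Submodule.mem_bot ℂ).1 (e' ▸ LinearMap.ext fun z => ?_)))
        rw [D.comm, h0, ha]; simp
      · exact hxy (by rw [LinearMap.ker_eq_top.1 e']; rfl)
    · have hu : u = 0 := D.fix fun g => by
        have h1 := h0 (ρ g u)
        have h2 := D.minv g u (ρ g⁻¹ u)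
        rw [cancel, h1, D.comm, h0, map_neg, map_smul, cancel] at h2
        exact smul_right_injective V ha (neg_injective h2)
      obtain ⟨x, y, hxy⟩ := D.ne
      have := h0 x
      rw [hu, map_zero, eq_comm, neg_eq_zero, smul_eq_zero, or_iff_right ha] at this
      exact hxy (by rw [this]; simp)
  · rw [add_smul, mul_smul, hφ, hφ, hφ, ← hc, ← hc y, ← hmul, hc y, map_smul, hc x, smul_comm]

theorem Dat.index [Finite G] (D : Dat ρ K m) : ∃ H : Subgroup G, H.index = finrank ℂ V + 1 := by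
  classical
  obtain ⟨φ, h0, hφ⟩ := D.exists_hom
  let : MulAction G (Dual ℂ V) := MulAction.compHom _ ρ.dual
  have hs : ∀ (g : G) (f : Dual ℂ V) v, (g • f) v = f (ρ g⁻¹ v) := fun _ _ _ => rfl
  refine ⟨MulAction.stabilizer G φ, ?_⟩
  have : Finite (MulAction.orbit G φ) := Set.finite_range _
  have := Fintype.ofFinite (MulAction.orbit G φ)
  rw [MulAction.index_stabilizer, ← Nat.card_coe_set_eq, Nat.card_eq_fintype_card]
  have hO : ∀ f : MulAction.orbit G φ, ∀ x y, f.1 (m x y) + K x y = f.1 x * f.1 y := by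
    rintro ⟨_, g, rfl⟩ x y
    simp only [hs]
    rw [← D.minv, ← hφ, D.Kinv]
  refine le_antisymm ?_ ?_
  · let : MulOneClass (ℂ × V) :=
      { mul := fun p q => (p.1 * q.1 + K p.2 q.2, p.1 • q.2 + q.1 • p.2 + m p.2 q.2)
        one := (1, 0)
        one_mul := fun p => Prod.ext (show 1 * p.1 + K 0 p.2 = _ by simp)
          (show (1 : ℂ) • p.2 + p.1 • (0 : V) + m 0 p.2 = _ by simp)
        mul_one := fun p => Prod.ext (show p.1 * 1 + K p.2 0 = _ by simp)
          (show p.1 • (0 : V) + (1 : ℂ) • p.2 + m p.2 0 = _ by simp) }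
    let F : MulAction.orbit G φ → (ℂ × V →* ℂ) := fun f =>
      { toFun := fun p => p.1 + f.1 p.2
        map_one' := show 1 + f.1 0 = 1 by simp
        map_mul' := fun p q => show p.1 * q.1 + K p.2 q.2 + f.1 (p.1 • q.2 + q.1 • p.2 + m p.2 q.2) = _ by
          simp only [map_add, map_smul, smul_eq_mul]
          linear_combination hO f p.2 q.2 }
    have hF : Function.Injective F := fun f f' e => Subtype.ext (LinearMap.ext fun v => by
      simpa [F] using DFunLike.congr_fun e (0, v))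
    have h1 := (linearIndependent_monoidHom (ℂ × V) ℂ).comp F hF
    have h2 : LinearIndependent ℂ fun f : MulAction.orbit G φ =>
        (LinearMap.coprod LinearMap.id f.1 : ℂ × V →ₗ[ℂ] ℂ) :=
      LinearIndependent.of_comp (LinearMap.ltoFun ℂ (ℂ × V) ℂ ℂ) h1
    have h3 := h2.fintype_card_le_finrank
    rw [Subspace.dual_finrank_eq, finrank_prod, finrank_self] at h3
    omega
  · let e : V →ₗ[ℂ] MulAction.orbit G φ → ℂ := LinearMap.pi fun f => f.1
    let s : (MulAction.orbit G φ → ℂ) →ₗ[ℂ] ℂ := ∑ f, LinearMap.proj f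
    have he : Function.Injective e := by
      rw [← LinearMap.ker_eq_bot]
      refine (D.irr _ fun g w hw => funext fun f => ?_).resolve_right fun e' => h0 ?_
      · have := congrFun hw (g⁻¹ • f)
        change (g⁻¹ • f.1) w = 0 at this
        rwa [hs, inv_inv] at this
      · exact LinearMap.ext fun v => congrFun (e'.ge trivial : e v = 0) ⟨φ, MulAction.mem_orbit_self φ⟩
    have hse : s.comp e = 0 := D.fix' fun g v => by
      simp only [s, e, LinearMap.comp_apply, LinearMap.sum_apply, LinearMap.proj_apply,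
        LinearMap.pi_apply]
      refine Fintype.sum_equiv (MulAction.toPerm g⁻¹) _ _ fun f => ?_
      change _ = (g⁻¹ • f.1) v
      rw [hs, inv_inv]
    have h1 : LinearMap.range e < ⊤ := lt_top_iff_ne_top.2 fun e' => by
      obtain ⟨v, hv⟩ : Pi.single ⟨φ, MulAction.mem_orbit_self φ⟩ 1 ∈ LinearMap.range e := e'.ge trivial
      have := LinearMap.congr_fun hse v
      rw [LinearMap.comp_apply, hv] at this
      simp [s, Pi.single_apply] at this
    have h2 := Submodule.finrank_lt_finrank_of_lt h1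
    rw [LinearMap.finrank_range_of_inj he, finrank_top, finrank_fintype_fun_eq_card] at h2
    omega

end Cfsg.Agent.MK.Alg
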