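import Cfsg.Agent.MK.AlgA

/-! Invariant forms from character sums, and the associativity law. -/

set_option autoImplicit false
set_option linter.unusedSectionVars false
set_option maxSynthPendingDepth 6

namespace Cfsg.Agent.MK.Alg

open Module Representation Cfsg.Agent.Char

variable {G V : Type*} [Group G] [AddCommGroup V] [Module ℂ V] [FiniteDimensional ℂ V]

theorem char_proj (σ : Representation ℂ G V) (E : End ℂ V) (hE : E * E = E)
    (hc : ∀ g, σ g * E = E * σ g) : ∃ S : Subrepresentation σ, S.toSubmodule = LinearMap.range E ∧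
      ∀ g, S.toRepresentation.character g = LinearMap.trace ℂ V (σ g * E) := by
  have h1 : ∀ g x, (σ g * E) x ∈ LinearMap.range E := fun g x => ⟨σ g x, by rw [hc]; rfl⟩
  refine ⟨⟨LinearMap.range E, fun g v ⟨w, hw⟩ => hw ▸ h1 g w⟩, rfl, fun g => ?_⟩
  rw [← LinearMap.trace_restrict_eq_of_forall_mem _ _ (h1 g)]
  unfold character
  congr 1
  refine LinearMap.ext fun ⟨_, w, rfl⟩ => Subtype.ext ?_
  change σ g (E w) = σ g ((E * E) w)
  rw [hE]

/-- Bilinear forms. -/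
noncomputable abbrev F2 (ρ : Representation ℂ G V) : Representation ℂ G (V →ₗ[ℂ] Dual ℂ V) :=
  ρ.linHom ρ.dual

/-- The flip of bilinear forms. -/
noncomputable def fl (V : Type*) [AddCommGroup V] [Module ℂ V] : End ℂ (V →ₗ[ℂ] Dual ℂ V) :=
  { toFun := fun f => f.flip, map_add' := fun _ _ => rfl, map_smul' := fun _ _ => rfl }

@[simp] theorem fl_apply (f : V →ₗ[ℂ] Dual ℂ V) (x y : V) : fl V f x y = f y x := rfl

theorem trace_fl {n : ℕ} (ρ : Representation ℂ G (Fin n → ℂ)) (g : G) :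
    LinearMap.trace ℂ _ (F2 ρ g * fl _) = ρ.character (g⁻¹ * g⁻¹) := by
  classical
  let e : ((Fin n → ℂ) →ₗ[ℂ] Dual ℂ (Fin n → ℂ)) ≃ₗ[ℂ] (Fin n × Fin n → ℂ) :=
    (LinearMap.toMatrix₂' ℂ).trans ((Matrix.ofLinearEquiv ℂ).symm.trans
      (LinearEquiv.curry ℂ ℂ (Fin n) (Fin n)).symm)
  rw [LinearMap.trace_eq_matrix_trace ℂ (Basis.ofEquivFun e), character, map_mul ρ,
    LinearMap.trace_eq_matrix_trace ℂ (Pi.basisFun ℂ (Fin n)),
    LinearMap.toMatrix_mul (Pi.basisFun ℂ (Fin n))]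
  simp only [Matrix.trace, Matrix.diag_apply, Matrix.mul_apply, LinearMap.toMatrix_apply]
  rw [Fintype.sum_prod_type]
  refine Finset.sum_congr rfl fun i _ => Finset.sum_congr rfl fun j _ => ?_
  have h : ∀ x y, (e.symm (Pi.single (i, j) 1)) x y = x i * y j := fun x y => by
    change Matrix.toLinearMap₂' ℂ (Matrix.of fun a b => (Pi.single (i, j) 1 : _ → ℂ) (a, b)) x y = _
    simp [Matrix.toLinearMap₂'_apply, Pi.single_apply, ite_and]
  simp only [Basis.ofEquivFun_repr_apply, Basis.coe_ofEquivFun, Pi.basisFun_repr, Pi.basisFun_apply]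
  exact h (ρ g⁻¹ (Pi.single j 1)) (ρ g⁻¹ (Pi.single i 1))

theorem exists_sub {n : ℕ} (ρ : Representation ℂ G (Fin n → ℂ)) (ε : ℂ) (hε : ε * ε = 1) :
    ∃ S : Subrepresentation (F2 ρ), (∀ f ∈ S.toSubmodule, ∀ x y, f x y = ε * f y x) ∧
      ∀ g, 2 * S.toRepresentation.character g =
        ρ.character g⁻¹ ^ 2 + ε * ρ.character (g⁻¹ * g⁻¹) := by
  obtain ⟨S, h1, h2⟩ := char_proj (F2 ρ) ((2 : ℂ)⁻¹ • (1 + ε • fl _)) (by
    ext f : 1
    refine LinearMap.ext fun x => LinearMap.ext fun y => ?_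
    simp
    linear_combination (f x y / 4) * hε) fun g => by
      ext f : 1
      refine LinearMap.ext fun x => LinearMap.ext fun y => ?_
      simp [linHom_apply, dual_apply, Dual.transpose_apply]
  refine ⟨S, fun f hf x y => ?_, fun g => ?_⟩
  · obtain ⟨f, rfl⟩ := h1.le hf
    simp
    linear_combination (-f x y / 2) * hε
  · rw [h2, mul_smul_comm, mul_add, mul_smul_comm, map_smul, map_add, map_smul, trace_fl, mul_one]
    have := char_linHom ρ ρ.dual g
    rw [char_dual, character] at this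
    rw [this]
    simp only [smul_eq_mul]
    ring

theorem sym_alt_char [Finite G] {χ : G → ℂ} (hχ : IsCharacter G χ) :
    ∃ S A : G → ℂ, IsCharacter G S ∧ IsCharacter G A ∧ (∀ g, 2 * S g = χ g ^ 2 + χ (g * g)) ∧
      ∀ g, 2 * A g = χ g ^ 2 - χ (g * g) := by
  obtain ⟨n, ρ, rfl⟩ := hχ
  obtain ⟨S, -, hS⟩ := exists_sub ρ 1 (by simp)
  obtain ⟨A, -, hA⟩ := exists_sub ρ (-1) (by simp)
  refine ⟨_, _, char_inv (isCharacter_of_rep S.toRepresentation),
    char_inv (isCharacter_of_rep A.toRepresentation), fun g => ?_, fun g => ?_⟩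
  · simpa using hS g⁻¹
  · simpa [sub_eq_add_neg] using hA g⁻¹

/-- Trilinear forms. -/
noncomputable abbrev F3 (ρ : Representation ℂ G V) := ρ.linHom (F2 ρ)

/-- Quadrilinear forms. -/
noncomputable abbrev F4 (ρ : Representation ℂ G V) := ρ.linHom (F3 ρ)

theorem cancel' (ρ : Representation ℂ G V) (g : G) (v : V) : ρ g⁻¹ (ρ g v) = v := by
  simp

theorem mem3 {ρ : Representation ℂ G V} {f : V →ₗ[ℂ] V →ₗ[ℂ] Dual ℂ V}
    (h : ∀ g x y z, f (ρ g x) (ρ g y) (ρ g z) = f x y z) : f ∈ (F3 ρ).invariants := fun g =>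
  LinearMap.ext fun x => LinearMap.ext fun y => LinearMap.ext fun z => h g⁻¹ x y z

theorem mem4 {ρ : Representation ℂ G V} {f : V →ₗ[ℂ] V →ₗ[ℂ] V →ₗ[ℂ] Dual ℂ V}
    (h : ∀ g x y z w, f (ρ g x) (ρ g y) (ρ g z) (ρ g w) = f x y z w) : f ∈ (F4 ρ).invariants :=
  fun g => LinearMap.ext fun x => LinearMap.ext fun y => LinearMap.ext fun z =>
    LinearMap.ext fun w => h g⁻¹ x y z w

theorem sym3 {ρ : Representation ℂ G V} (h3 : finrank ℂ (F3 ρ).invariants ≤ 1)
    {T : V →ₗ[ℂ] V →ₗ[ℂ] Dual ℂ V} (hT : ∀ g x y z, T (ρ g x) (ρ g y) (ρ g z) = T x y z)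
    (hs : ∀ x y z, T x y z = T x z y) (x y z : V) : T x y z = T y x z := by
  obtain ⟨v, hv⟩ := finrank_le_one_iff.1 h3
  obtain ⟨a, ha⟩ := hv ⟨T, mem3 hT⟩
  obtain ⟨b, hb⟩ := hv ⟨T.flip, mem3 fun g x y z => hT g y x z⟩
  have h1 : ∀ x y z, T x y z = a * v.1 x y z := fun x y z =>
    (congrArg (fun f : (F3 ρ).invariants => f.1 x y z) ha).symm
  have h2 : ∀ x y z, T y x z = b * v.1 x y z := fun x y z =>
    (congrArg (fun f : (F3 ρ).invariants => f.1 x y z) hb).symm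
  by_cases e : a = b
  · rw [h1, h2, e]
  have h4 : ∀ x y z, (a - b) * (T x y z + T y x z) = 0 := fun x y z => by
    linear_combination a * h2 x y z - b * h1 x y z + a * h2 y x z - b * h1 y x z
  have h5 : ∀ x y z, T x y z = -T y x z := fun x y z =>
    eq_neg_of_add_eq_zero_left ((mul_eq_zero.1 (h4 x y z)).resolve_left (sub_ne_zero.2 e))
  have h6 : ∀ x y z, T x y z = 0 := fun x y z => by
    linear_combination (h5 x y z - hs y x z - h5 y z x + hs z y x + h5 z x y - hs x z y) / 2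
  rw [h6, h6]

/-- The product of two bilinear forms. -/
noncomputable def pp (B : V →ₗ[ℂ] V →ₗ[ℂ] ℂ) : V →ₗ[ℂ] V →ₗ[ℂ] V →ₗ[ℂ] Dual ℂ V :=
  B.compr₂ (LinearMap.toSpanSingleton ℂ _ B)

/-- The form of two products. -/
noncomputable def qq (B : V →ₗ[ℂ] V →ₗ[ℂ] ℂ) (m : V →ₗ[ℂ] V →ₗ[ℂ] V) :
    V →ₗ[ℂ] V →ₗ[ℂ] V →ₗ[ℂ] Dual ℂ V :=
  m.compr₂ ((LinearMap.llcomp ℂ V (V →ₗ[ℂ] V) (V →ₗ[ℂ] ℂ)).flip m ∘ₗ LinearMap.llcomp ℂ V V ℂ ∘ₗ B)

/-- Exchange of the middle arguments. -/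
noncomputable def sw (f : V →ₗ[ℂ] V →ₗ[ℂ] V →ₗ[ℂ] Dual ℂ V) : V →ₗ[ℂ] V →ₗ[ℂ] V →ₗ[ℂ] Dual ℂ V :=
  (LinearMap.lflip (R := ℂ) (R₀ := ℂ) (M := V) (N := V) (P := Dual ℂ V)).toLinearMap ∘ₗ f

theorem law {ρ : Representation ℂ G V} (h4 : finrank ℂ (F4 ρ).invariants ≤ 4)
    {B : V →ₗ[ℂ] V →ₗ[ℂ] ℂ} {m : V →ₗ[ℂ] V →ₗ[ℂ] V} (hB : ∀ g x y, B (ρ g x) (ρ g y) = B x y)
    (hm : ∀ g x y, m (ρ g x) (ρ g y) = ρ g (m x y)) (hBs : ∀ x y, B x y = B y x)
    (hms : ∀ x y, m x y = m y x) {u v t : V} (hu : B u u ≠ 0) (huv : B u v = 0) (hvt : B v t ≠ 0) :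
    ∃ c : ℂ, ∀ x y z w, B (m x y) (m z w) - B (m x z) (m y w) =
      c * (B x y * B z w - B x z * B y w) := by
  let f : Fin 5 → (F4 ρ).invariants :=
    ![⟨pp B, mem4 fun g x y z w => show B _ _ * B _ _ = B _ _ * B _ _ by rw [hB, hB]⟩,
      ⟨sw (pp B), mem4 fun g x y z w => show B _ _ * B _ _ = B _ _ * B _ _ by rw [hB, hB]⟩,
      ⟨(sw (pp B)).flip, mem4 fun g x y z w => show B _ _ * B _ _ = B _ _ * B _ _ by rw [hB, hB]⟩,
      ⟨qq B m, mem4 fun g x y z w => show B (m _ _) (m _ _) = B (m _ _) (m _ _) by rw [hm, hm, hB]⟩,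
      ⟨sw (qq B m), mem4 fun g x y z w =>
        show B (m _ _) (m _ _) = B (m _ _) (m _ _) by rw [hm, hm, hB]⟩]
  have hf : ¬ LinearIndependent ℂ f := fun h => by
    have := h.fintype_card_le_finrank
    rw [Fintype.card_fin] at this
    omega
  obtain ⟨a, ha, i, hi⟩ := Fintype.not_linearIndependent_iff.1 hf
  have H : ∀ x y z w, a 0 * (B x y * B z w) + a 1 * (B x z * B y w) + a 2 * (B y z * B x w) +
      a 3 * B (m x y) (m z w) + a 4 * B (m x z) (m y w) = 0 := fun x y z w => by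
    rw [Fin.sum_univ_five] at ha
    exact congrArg (fun f : (F4 ρ).invariants => f.1 x y z w) ha
  by_cases e : a 3 = a 4
  swap
  · refine ⟨(a 1 - a 0) / (a 3 - a 4), fun x y z w => ?_⟩
    have := sub_ne_zero.2 e
    field_simp
    linear_combination H x y z w - H x z y w + a 2 * B x w * hBs z y
  have e1 : a 0 = a 1 := by
    have h1 := H u u v t
    have h2 := H u v u t
    rw [hBs v u] at h2
    simp only [huv, e] at h1 h2
    refine mul_right_cancel₀ (mul_ne_zero hu hvt) ?_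
    linear_combination h1 - h2
  by_cases e2 : a 4 = 0
  · have e3 : a 0 = 0 := by
      have h1 := H u u v t
      simp only [huv, e, e2] at h1
      refine mul_right_cancel₀ (mul_ne_zero hu hvt) ?_
      linear_combination h1
    have e4 : a 2 = 0 := by
      have h1 := H u u u u
      simp only [e, e2, ← e1, e3] at h1
      refine mul_right_cancel₀ (mul_ne_zero hu hu) ?_
      linear_combination h1
    exfalso
    fin_cases i <;> simp_all
  · refine ⟨(a 2 - a 1) / a 4, fun x y z w => ?_⟩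
    have h1 := H y z x w
    have h2 := H z y x w
    rw [hBs z y, hms z y, hBs z x, hBs y x, hms z x, hms y x] at *
    field_simp
    linear_combination h1 - h2

theorem index_succ [Fintype G] {χ : G → ℂ} (hχ : IsIrrCharacter G χ) {n : ℕ} (hn : χ 1 = n)
    (h2 : 2 ≤ n) (hr : ∀ g, χ g⁻¹ = χ g) (s2 : ∑ g, (χ g ^ 2 + χ (g * g)) ≠ 0)
    (s3 : ∑ g, χ g * (χ g ^ 2 + χ (g * g)) ≠ 0) (h3 : ∑ g, χ g ^ 3 = Nat.card G)
    (h4 : ∑ g, χ g ^ 4 = 4 * Nat.card G) : ∃ H : Subgroup G, H.index = n + 1 := by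
  obtain ⟨k, ρ, hρ, rfl⟩ := hχ
  have hc : (Nat.card G : ℂ) ≠ 0 := Nat.cast_ne_zero.2 Nat.card_pos.ne'
  have := invertibleOfNonzero hc
  have hk : finrank ℂ (Fin k → ℂ) = n := by exact_mod_cast (char_one ρ).symm.trans hn
  obtain ⟨-, hirr⟩ := (isIrreducible_iff ρ).1 hρ
  obtain ⟨S, hS, cS⟩ := exists_sub ρ 1 (by simp)
  simp only [one_mul, ← mul_inv_rev, hr] at hS cS
  have ex : ∀ {W : Type} [AddCommGroup W] [Module ℂ W] [FiniteDimensional ℂ W]
      (σ : Representation ℂ G W), ∑ g, 2 * σ.character g ≠ 0 → ∃ w, w ≠ 0 ∧ ∀ g, σ g w = w := by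
    intro W _ _ _ σ h
    refine ((Submodule.ne_bot_iff σ.invariants).1 fun e => h ?_).imp fun w hw => ⟨hw.2, hw.1⟩
    have := σ.card_inv_mul_sum_char_eq_finrank
    rw [e, finrank_bot, Nat.cast_zero, mul_eq_zero, or_iff_right (inv_ne_zero hc)] at this
    rw [← Finset.mul_sum, this, mul_zero]
  obtain ⟨⟨B, hBS⟩, hB0, hB⟩ := ex S.toRepresentation (by simpa only [cS] using s2)
  obtain ⟨T', hT0, hT⟩ := ex (ρ.linHom S.toRepresentation) (by
    simpa only [char_linHom, mul_left_comm (2 : ℂ), cS, hr] using s3)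
  replace hB : ∀ g x y, B (ρ g x) (ρ g y) = B x y := fun g x y => by
    have : B (ρ g⁻¹⁻¹ x) (ρ g⁻¹⁻¹ y) = B x y := congrArg (fun f : S.toSubmodule => f.1 x y) (hB g⁻¹)
    rwa [inv_inv] at this
  let T := S.toSubmodule.subtype ∘ₗ T'
  replace hT : ∀ g x y z, T (ρ g x) (ρ g y) (ρ g z) = T x y z := fun g x y z => by
    have : T (ρ g⁻¹⁻¹ x) (ρ g⁻¹⁻¹ y) (ρ g⁻¹⁻¹ z) = T x y z :=
      congrArg (fun f : _ →ₗ[ℂ] S.toSubmodule => (f x).1 y z) (hT g⁻¹)
    rwa [inv_inv] at this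
  have d3 : finrank ℂ (F3 ρ).invariants ≤ 1 := by
    have := (F3 ρ).card_inv_mul_sum_char_eq_finrank
    simp only [char_linHom, char_dual, hr, ← pow_two, ← pow_succ'] at this
    rw [h3, inv_mul_cancel₀ hc] at this
    exact le_of_eq (by exact_mod_cast this.symm)
  have d4 : finrank ℂ (F4 ρ).invariants ≤ 4 := by
    have := (F4 ρ).card_inv_mul_sum_char_eq_finrank
    simp only [char_linHom, char_dual, hr, ← pow_two, ← pow_succ'] at this
    rw [h4, mul_left_comm, inv_mul_cancel₀ hc, mul_one] at this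
    exact le_of_eq (by exact_mod_cast this.symm)
  have hBs := hS B hBS
  have hTs : ∀ x y z, T x y z = T x z y := fun x => hS _ (T' x).2
  have hT' := sym3 d3 hT hTs
  have hinj : Function.Injective B := by
    rw [← LinearMap.ker_eq_bot]
    refine (hirr _ fun g w hw => LinearMap.ext fun z => ?_).resolve_right fun e =>
      hB0 (Subtype.ext (LinearMap.ker_eq_top.1 e))
    rw [← cancel ρ g z, hB, LinearMap.mem_ker.1 hw]
    rfl
  let β := LinearMap.linearEquivOfInjective B hinj Subspace.dual_finrank_eq.symm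
  let m := T.compr₂ β.symm.toLinearMap
  have hm : ∀ x y z, B (m x y) z = T x y z := fun x y z =>
    LinearMap.congr_fun (β.apply_symm_apply (T x y)) z
  have ext : ∀ {x y}, (∀ z, B x z = B y z) → x = y := fun h => hinj (LinearMap.ext h)
  have hmi : ∀ g x y, m (ρ g x) (ρ g y) = ρ g (m x y) := fun g x y => ext fun z => by
    rw [← cancel ρ g z, hB, hm, hm, hT]
  have hms : ∀ x y, m x y = m y x := fun x y => ext fun z => by rw [hm, hm, hT']
  obtain ⟨u, hu⟩ : ∃ u, B u u ≠ 0 := by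
    by_contra! e
    refine hB0 (Subtype.ext (LinearMap.ext fun x => LinearMap.ext fun y => ?_))
    have := e (x + y)
    simp only [map_add, LinearMap.add_apply, e, hBs y x] at this
    change B x y = 0
    linear_combination this / 2
  obtain ⟨v, huv, hv⟩ := (Submodule.ne_bot_iff (LinearMap.ker (B u))).1 fun e => by
    have h1 := LinearMap.finrank_le_finrank_of_injective (LinearMap.ker_eq_bot.1 e)
    rw [finrank_self] at h1
    omega
  obtain ⟨t, ht⟩ : ∃ t, B v t ≠ 0 := by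
    by_contra! e
    exact hv (ext fun z => by rw [e, map_zero]; rfl)
  obtain ⟨c, hc⟩ := law d4 hB hmi hBs hms hu huv ht
  have as : ∀ x y z, B (m x y) z = B x (m y z) := fun x y z => by
    rw [hBs x, hm, hm, hT' x y z, hTs y x z]
  refine hk ▸ Dat.index (ρ := ρ) (K := (-c) • B) (m := m) ⟨hirr, hk ▸ h2, fun g x y => by simp [hB], hmi, hms,
    fun x y => by simp [hBs x y], fun x y z => by simp [as], fun x y z => ext fun w => ?_, ?_⟩
  · simp only [map_add, map_smul, LinearMap.add_apply, LinearMap.smul_apply, smul_eq_mul,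
      as (m _ _)]
    linear_combination hc x y z w
  · by_contra! e
    refine hT0 (LinearMap.ext fun x => Subtype.ext (LinearMap.ext fun y => LinearMap.ext fun z => ?_))
    change T x y z = 0
    rw [← hm, e, map_zero]
    rfl

end Cfsg.Agent.MK.Alg
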