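import Cfsg.Agent.MK.AlgB
import Cfsg.Agent.U45.Num
import Cfsg.Agent.U45.UCa

/-! Subgroups of index 23 and 24 from the small character degrees. -/

set_option autoImplicit false
set_option linter.unusedSectionVars false
set_option maxSynthPendingDepth 6

namespace Cfsg.Agent.MK.Alg

open Module Representation Cfsg.Agent.Char Cfsg.Agent.Zass Cfsg.Agent.M11
open scoped ComplexConjugate

variable {G : Type*} [Group G] [Fintype G] {χ : G → ℂ}

theorem fs_odd (hχ : IsIrrCharacter G χ) (ho : Odd (deg χ)) : fs χ ≠ -1 := by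
  intro h
  have hr : cj χ = χ := by
    rcases fs_cases hχ with e | e
    · exact e.1
    · rw [e.2] at h; norm_num at h
  have h1 := inner_irr_self hχ
  have hr' : ∀ g, χ g⁻¹ = χ g := fun g => (char_apply_inv (irr_isCharacter hχ) g).trans (congrFun hr g)
  rw [inner_char_right (irr_isCharacter hχ)] at h1
  obtain ⟨k, ρ, hρ, rfl⟩ := hχ
  have hk : deg ρ.character = k := deg_of_eq (by simp)
  have := invertibleOfNonzero (card_ne_zero' G)
  obtain ⟨-, hirr⟩ := (isIrreducible_iff ρ).1 hρ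
  obtain ⟨S, hS, cS⟩ := exists_sub ρ (-1) (by simp)
  simp only [← mul_inv_rev, hr'] at cS h1
  obtain ⟨⟨B, hBS⟩, hB, hB0⟩ := (Submodule.ne_bot_iff S.toRepresentation.invariants).1 fun e => by
    have h2 := S.toRepresentation.card_inv_mul_sum_char_eq_finrank
    rw [e, finrank_bot, Nat.cast_zero] at h2
    have h3 := Finset.sum_congr (s₁ := Finset.univ) rfl fun g _ => cS g
    simp only [Finset.sum_add_distrib, ← Finset.mul_sum, sq] at h3
    rw [fs] at h
    have : (2 : ℂ) = 0 := by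
      linear_combination 2 * h2 - (Nat.card G : ℂ)⁻¹ * h3 - h1 + h
    norm_num at this
  replace hB : ∀ g x y, B (ρ g x) (ρ g y) = B x y := fun g x y => by
    have : B (ρ g⁻¹⁻¹ x) (ρ g⁻¹⁻¹ y) = B x y := congrArg (fun f : S.toSubmodule => f.1 x y) (hB g⁻¹)
    rwa [inv_inv] at this
  have hM : (LinearMap.toMatrix₂' ℂ B).transpose = -LinearMap.toMatrix₂' ℂ B := by
    ext i j
    simpa using hS B hBS _ _
  have hd : (LinearMap.toMatrix₂' ℂ B).det = 0 := by
    have := congrArg Matrix.det hM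
    rw [Matrix.det_transpose, Matrix.det_neg, Fintype.card_fin, (show Odd k from hk ▸ ho).neg_one_pow] at this
    linear_combination this / 2
  obtain ⟨v, hv, hv0⟩ := Matrix.exists_vecMul_eq_zero_iff.2 hd
  rcases hirr (LinearMap.ker B) (fun g w hw => LinearMap.ext fun z => by
    rw [← cancel ρ g z, hB, LinearMap.mem_ker.1 hw]; rfl) with e | e
  · refine hv ((Submodule.mem_bot ℂ).1 (e ▸ LinearMap.ext fun z => ?_))
    rw [← Matrix.toLinearMap₂'_toMatrix' (R := ℂ) B, Matrix.toLinearMap₂'_apply', Matrix.dotProduct_mulVec, hv0]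
    simp
  · exact hB0 (Subtype.ext (LinearMap.ker_eq_top.1 e))

theorem dec (hu : ∀ ψ, IsIrrCharacter G ψ → deg ψ = deg χ → ψ = χ) {S : G → ℂ} (hS : IsCharacter G S) :
    ∃ (k a : ℕ) (r : Multiset (G → ℂ)), (∀ ψ ∈ r, IsIrrCharacter G ψ ∧ ψ ≠ 1 ∧ deg ψ ≠ deg χ) ∧
      S = k • 1 + a • χ + r.sum ∧ classInner S 1 = k ∧
      S 1 = (k + a * deg χ + (r.map deg).sum : ℕ) := by
  refine char_induction (P := fun S => ∃ (k a : ℕ) (r : Multiset (G → ℂ)),
    (∀ ψ ∈ r, IsIrrCharacter G ψ ∧ ψ ≠ 1 ∧ deg ψ ≠ deg χ) ∧ S = k • 1 + a • χ + r.sum ∧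
      classInner S 1 = k ∧ S 1 = (k + a * deg χ + (r.map deg).sum : ℕ)) ?_ (fun ψ hψ => ?_) ?_ hS
  · exact ⟨0, 0, 0, by simp, by simp, by simp [Char.inner_zero_left], by simp⟩
  · by_cases e : ψ = 1
    · exact ⟨1, 0, 0, by simp, by simp [e], by simp [e, inner_one_one], by simp [e]⟩
    by_cases e' : deg ψ = deg χ
    · exact ⟨0, 1, 0, by simp, by simp [hu ψ hψ e'], by simp [inner_irr_ne hψ irr_one e],
        by simp [irr_deg hψ, e']⟩
    · exact ⟨0, 0, {ψ}, by simp [hψ, e, e'], by simp, by simp [inner_irr_ne hψ irr_one e],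
        by simp [irr_deg hψ]⟩
  · rintro S S' ⟨k, a, r, h2, h3, h4, h5⟩ ⟨k', a', r', h2', h3', h4', h5'⟩
    refine ⟨k + k', a + a', r + r', fun ψ hψ => (Multiset.mem_add.1 hψ).elim (h2 ψ) (h2' ψ), ?_, ?_, ?_⟩
    · rw [h3, h3', Multiset.sum_add, add_smul, add_smul]; abel
    · rw [Char.inner_add_left, h4, h4', Nat.cast_add]
    · rw [Pi.add_apply, h5, h5', Multiset.map_add, Multiset.sum_add]; push_cast; ring

theorem cnt (p q r s : ℕ) (l : Multiset ℕ) : (∀ d ∈ l, d = p ∨ d = q ∨ d = r ∨ d = s) →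
    ∃ b c d e, l.sum = b * p + c * q + d * r + e * s ∧ l.card = b + c + d + e := by
  refine l.induction_on (fun _ => ⟨0, 0, 0, 0, by simp⟩) fun x l ih h => ?_
  obtain ⟨b, c, d, e, h1, h2⟩ := ih fun y hy => h y (Multiset.mem_cons_of_mem hy)
  rw [Multiset.sum_cons, Multiset.card_cons, h1, h2]
  rcases h x (Multiset.mem_cons_self _ _) with rfl | rfl | rfl | rfl
  exacts [⟨b + 1, c, d, e, by ring, by ring⟩, ⟨b, c + 1, d, e, by ring, by ring⟩,
    ⟨b, c, d + 1, e, by ring, by ring⟩, ⟨b, c, d, e + 1, by ring, by ring⟩]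

theorem idx_of (hχ : IsIrrCharacter G χ) (h2 : 2 ≤ deg χ) (hr : cj χ = χ) {θ η : G → ℂ}
    (hθ : IsIrrCharacter G θ) (hη : IsIrrCharacter G η) (n1 : χ ≠ 1) (n2 : θ ≠ 1) (n3 : η ≠ 1)
    (n4 : θ ≠ χ) (n5 : η ≠ χ) (n6 : θ ≠ η) (hS : ∀ g, 2 * (1 + χ + θ) g = χ g ^ 2 + χ (g * g))
    (hA : ∀ g, 2 * η g = χ g ^ 2 - χ (g * g)) : ∃ H : Subgroup G, H.index = deg χ + 1 := by
  have hc := card_ne_zero' G
  have hr' : ∀ g, conj (χ g) = χ g := congrFun hr
  have key : ∀ f f' : G → ℂ, ∑ g, f g * conj (f' g) = Nat.card G * classInner f f' := fun f f' => by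
    rw [classInner, mul_inv_cancel_left₀ hc]
  have hQ : ∀ g, χ g ^ 2 = (1 + χ + θ + η) g := fun g => by
    rw [Pi.add_apply]; linear_combination (-hS g - hA g) / 2
  have i := @inner_irr G _ _
  refine index_succ hχ (irr_deg hχ) h2 (fun g => (char_apply_inv (irr_isCharacter hχ) g).trans (hr' g))
    ?_ ?_ ?_ ?_
  · have := key (1 + χ + θ) 1
    simp only [Char.inner_add_left, i irr_one irr_one, i hχ irr_one, i hθ irr_one, n1, n2, Pi.one_apply,
      map_one, mul_one] at this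
    simp only [← hS, ← Finset.mul_sum, this]
    simp
  · have := key (1 + χ + θ) χ
    simp only [Char.inner_add_left, i irr_one hχ, i hχ hχ, i hθ hχ, n1.symm, n4, hr'] at this
    simp only [← hS, mul_left_comm _ (2 : ℂ), ← Finset.mul_sum, mul_comm (χ _), this]
    simp
  · have := key (1 + χ + θ + η) χ
    simp only [Char.inner_add_left, i irr_one hχ, i hχ hχ, i hθ hχ, i hη hχ, n1.symm, n4, n5, hr', ← hQ,
      ← pow_succ] at this
    simpa using this
  · have := key (1 + χ + θ + η) (1 + χ + θ + η)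
    simp only [Char.inner_add_left, Char.inner_add_right, i irr_one irr_one, i hχ irr_one, i hθ irr_one,
      i hη irr_one, i irr_one hχ, i hχ hχ, i hθ hχ, i hη hχ, i irr_one hθ, i hχ hθ, i hθ hθ, i hη hθ,
      i irr_one hη, i hχ hη, i hθ hη, i hη hη, n1, n2, n3, n4, n5, n6, n1.symm, n2.symm, n3.symm,
      n4.symm, n5.symm, n6.symm, ← hQ, map_pow, hr', ← pow_add] at this
    rw [this]
    norm_num [mul_comm]

theorem parts (hχ : IsIrrCharacter G χ) (hr : cj χ = χ) (hf : fs χ ≠ -1) :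
    ∃ S A : G → ℂ, IsCharacter G S ∧ IsCharacter G A ∧ (∀ g, 2 * S g = χ g ^ 2 + χ (g * g)) ∧
      (∀ g, 2 * A g = χ g ^ 2 - χ (g * g)) ∧ classInner S 1 = 1 ∧ classInner A 1 = 0 := by
  obtain ⟨S, A, hS, hA, e1, e2⟩ := sym_alt_char (irr_isCharacter hχ)
  have h1 : fs χ = 1 := by
    rcases fs_cases hχ with e | e
    · exact e.2.resolve_right hf
    · exact absurd hr e.1
  have h2 := inner_irr_self hχ
  have h3 := Finset.sum_congr (s₁ := Finset.univ) rfl fun g _ => e1 g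
  have h4 := Finset.sum_congr (s₁ := Finset.univ) rfl fun g _ => e2 g
  have hr' : ∀ g, conj (χ g) = χ g := congrFun hr
  simp only [classInner, fs, hr', Finset.sum_add_distrib, Finset.sum_sub_distrib, ← Finset.mul_sum,
    sq] at h1 h2 h3 h4
  refine ⟨S, A, hS, hA, e1, e2, ?_, ?_⟩ <;> simp only [classInner, Pi.one_apply, map_one, mul_one]
  · linear_combination ((Nat.card G : ℂ)⁻¹ * h3 + h1 + h2) / 2
  · linear_combination ((Nat.card G : ℂ)⁻¹ * h4 - h1 + h2) / 2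

theorem real_of (hχ : IsIrrCharacter G χ) (hu : ∀ ψ, IsIrrCharacter G ψ → deg ψ = deg χ → ψ = χ) :
    cj χ = χ := hu _ (cj_irr hχ) (deg_cj hχ)

theorem ar22 {a b c d e s : ℕ} (h : s = b * 45 + c * 230 + d * 231 + e * 231) :
    (a * 22 + s = 252 → a = 1 ∧ b + c + d + e = 1) ∧ (a * 22 + s = 231 → a = 0 ∧ b + c + d + e = 1) := by
  constructor <;> intro h' <;> (
    have : b ≤ 5 := by omega
    have : c + d + e ≤ 1 := by omega
    interval_cases b <;> omega)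

theorem ar23 {a b c d e s : ℕ} (h : s = b * 45 + c * 231 + d * 252 + e * 253) :
    (a * 23 + s = 275 → (a = 1 ∨ a = 10) ∧ b + c + d + e = 1) ∧
      (a * 23 + s = 253 → a = 0 ∧ b + c + d + e = 1 ∨ a = 11 ∧ b + c + d + e = 0) := by
  constructor <;> intro h' <;> (
    have : b ≤ 6 := by omega
    have : d ≤ 1 := by omega
    have : c + d + e ≤ 1 := by omega
    interval_cases b <;> interval_cases d <;> omega)

theorem idx23 (hχ : IsIrrCharacter G χ) (h22 : deg χ = 22)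
    (hu : ∀ ψ, IsIrrCharacter G ψ → deg ψ = 22 → ψ = χ)
    (hd : ∀ ψ, IsIrrCharacter G ψ → ψ ≠ 1 → deg ψ ≤ 252 → deg ψ ∈ [22, 45, 230, 231])
    (hf : fs χ ≠ -1) : ∃ H : Subgroup G, H.index = 23 := by
  have hu' : ∀ ψ, IsIrrCharacter G ψ → deg ψ = deg χ → ψ = χ := h22 ▸ hu
  have n1 : χ ≠ 1 := fun e => by rw [e, Small.deg_one] at h22; omega
  obtain ⟨S, A, hS, hA, e1, e2, i1, i2⟩ := parts hχ (real_of hχ hu') hf
  obtain ⟨k, a, r, h1, h2, h3, h4⟩ := dec hu' hS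
  obtain ⟨k', a', r', h1', h2', h3', h4'⟩ := dec hu' hA
  obtain rfl : k = 1 := by exact_mod_cast h3.symm.trans i1
  obtain rfl : k' = 0 := by exact_mod_cast h3'.symm.trans i2
  have d1 := e1 1
  have d2 := e2 1
  rw [mul_one, irr_deg hχ, h22] at d1 d2
  rw [h4, h22] at d1
  rw [h4', h22] at d2
  have d3 : 2 * (1 + a * 22 + (r.map deg).sum) = 22 ^ 2 + 22 := by exact_mod_cast d1
  have d4 : 2 * (0 + a' * 22 + (r'.map deg).sum) + 22 = 22 ^ 2 := by
    exact_mod_cast eq_sub_iff_add_eq.1 d2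
  have hc : ∀ r : Multiset (G → ℂ), (∀ ψ ∈ r, IsIrrCharacter G ψ ∧ ψ ≠ 1 ∧ deg ψ ≠ deg χ) →
      (r.map deg).sum ≤ 252 → ∀ d ∈ r.map deg, d = 45 ∨ d = 230 ∨ d = 231 ∨ d = 231 := fun r h hs d hd' => by
    obtain ⟨ψ, hψ, rfl⟩ := Multiset.mem_map.1 hd'
    have t1 := hd ψ (h ψ hψ).1 (h ψ hψ).2.1 ((Multiset.le_sum_of_mem hd').trans hs)
    have t2 := (h ψ hψ).2.2
    simp only [List.mem_cons, List.not_mem_nil, or_false] at t1
    omega
  obtain ⟨b, c, d, e, s1, s2⟩ := cnt _ _ _ _ _ (hc r h1 (by omega))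
  obtain ⟨b', c', d', e', s1', s2'⟩ := cnt _ _ _ _ _ (hc r' h1' (by omega))
  rw [Multiset.card_map] at s2 s2'
  obtain ⟨rfl, q1⟩ := (ar22 (a := a) s1).1 (by omega)
  obtain ⟨rfl, q2⟩ := (ar22 (a := a') s1').2 (by omega)
  obtain ⟨θ, rfl⟩ := Multiset.card_eq_one.1 (s2.trans q1)
  obtain ⟨η, rfl⟩ := Multiset.card_eq_one.1 (s2'.trans q2)
  simp only [Multiset.map_singleton, Multiset.sum_singleton, Multiset.mem_singleton, forall_eq]
    at h1 h1' h2 h2' d3 d4
  simp only [one_smul, zero_smul, zero_add] at h2 h2'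
  exact (show deg χ + 1 = 23 by omega) ▸ idx_of hχ (by omega) (real_of hχ hu') h1.1 h1'.1 n1 h1.2.1 h1'.2.1
    (fun e => h1.2.2 (e ▸ rfl)) (fun e => h1'.2.2 (e ▸ rfl)) (fun e => by rw [e] at d3; omega)
    (h2 ▸ e1) (h2' ▸ e2)

theorem norm_le_cc {ψ : G → ℂ} (hψ : IsIrrCharacter G ψ) (x : G) : ‖ψ x‖ ^ 2 ≤ cc x := by
  classical
  have h := sum_irr_mul_conj x x
  simp only [IsConj.refl, if_true, Complex.mul_conj, Complex.normSq_eq_norm_sq] at h
  have h2 : ∑ φ : IrrCharacter G, ‖φ.1 x‖ ^ 2 = cc x := by exact_mod_cast h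
  exact h2 ▸ Finset.single_le_sum (f := fun φ : IrrCharacter G => ‖φ.1 x‖ ^ 2)
    (fun _ _ => by positivity) (Finset.mem_univ ⟨ψ, hψ⟩)

theorem idx24 (hχ : IsIrrCharacter G χ) (h23 : deg χ = 23)
    (hu : ∀ ψ, IsIrrCharacter G ψ → deg ψ = 23 → ψ = χ)
    (hd : ∀ ψ, IsIrrCharacter G ψ → ψ ≠ 1 → deg ψ ≤ 275 → deg ψ ∈ [23, 45, 231, 252, 253])
    (h11 : ∃ x : G, orderOf x = 11 ∧ cc x = 11) : ∃ H : Subgroup G, H.index = 24 := by
  have hu' : ∀ ψ, IsIrrCharacter G ψ → deg ψ = deg χ → ψ = χ := h23 ▸ hu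
  have n1 : χ ≠ 1 := fun e => by rw [e, Small.deg_one] at h23; omega
  obtain ⟨S, A, hS, hA, e1, e2, i1, i2⟩ := parts hχ (real_of hχ hu') (fs_odd hχ (h23 ▸ by decide))
  obtain ⟨k, a, r, h1, h2, h3, h4⟩ := dec hu' hS
  obtain ⟨k', a', r', h1', h2', h3', h4'⟩ := dec hu' hA
  obtain rfl : k = 1 := by exact_mod_cast h3.symm.trans i1
  obtain rfl : k' = 0 := by exact_mod_cast h3'.symm.trans i2
  have d1 := e1 1
  have d2 := e2 1
  rw [mul_one, irr_deg hχ, h23] at d1 d2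
  rw [h4, h23] at d1
  rw [h4', h23] at d2
  have d3 : 2 * (1 + a * 23 + (r.map deg).sum) = 23 ^ 2 + 23 := by exact_mod_cast d1
  have d4 : 2 * (0 + a' * 23 + (r'.map deg).sum) + 23 = 23 ^ 2 := by
    exact_mod_cast eq_sub_iff_add_eq.1 d2
  have hc : ∀ r : Multiset (G → ℂ), (∀ ψ ∈ r, IsIrrCharacter G ψ ∧ ψ ≠ 1 ∧ deg ψ ≠ deg χ) →
      (r.map deg).sum ≤ 275 → ∀ d ∈ r.map deg, d = 45 ∨ d = 231 ∨ d = 252 ∨ d = 253 := fun r h hs d hd' => by
    obtain ⟨ψ, hψ, rfl⟩ := Multiset.mem_map.1 hd'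
    have t1 := hd ψ (h ψ hψ).1 (h ψ hψ).2.1 ((Multiset.le_sum_of_mem hd').trans hs)
    have t2 := (h ψ hψ).2.2
    simp only [List.mem_cons, List.not_mem_nil, or_false] at t1
    omega
  obtain ⟨b, c, d, e, s1, s2⟩ := cnt _ _ _ _ _ (hc r h1 (by omega))
  obtain ⟨b', c', d', e', s1', s2'⟩ := cnt _ _ _ _ _ (hc r' h1' (by omega))
  rw [Multiset.card_map] at s2 s2'
  obtain ⟨x, hx, hcx⟩ := h11
  have val : ∀ y : G, orderOf y = 11 → cc y = 11 → χ y = 1 := fun y hy hcy => by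
    have h5 := norm_le_cc hχ y
    obtain ⟨f, rfl⟩ := U45.exists_int_fun hχ hu'
    have h6 := U45.dvd_sub_of_pe (p := 11) (by norm_num) (irr_isCharacter hχ)
      ⟨1, by rw [← hy, pow_one, pow_orderOf_eq_one]⟩ (u := y)
    have h7 : f 1 = 23 := by exact_mod_cast (irr_deg hχ).trans (congrArg Nat.cast h23)
    rw [hcy, Complex.norm_intCast, sq_abs] at h5
    have h8 : f y ^ 2 ≤ 11 := by exact_mod_cast h5
    have h9 : f y = 1 := by
      have : f y < 4 := by nlinarith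
      have : -4 < f y := by nlinarith
      omega
    simp [h9]
  have v1 := val x hx hcx
  have v2 := val (x * x) (by rw [← sq, Nat.Coprime.orderOf_pow (by rw [hx]; norm_num), hx]) (by
    rw [← hcx, cc, cc]
    congr 2
    ext y
    simp only [Subgroup.mem_centralizer_singleton_iff]
    refine ⟨fun h => ?_, fun h => (Commute.mul_right h h).eq⟩
    have := (Commute.pow_right h 6).eq
    rwa [← sq, ← pow_mul, pow_succ', ← hx, pow_orderOf_eq_one, mul_one] at this)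
  have x1 := e1 x
  have x2 := e2 x
  rw [v1, v2] at x1 x2
  obtain ⟨q0, q1⟩ := (ar23 (a := a) s1).1 (by omega)
  obtain ⟨θ, rfl⟩ := Multiset.card_eq_one.1 (s2.trans q1)
  obtain ⟨rfl, q2⟩ := ((ar23 (a := a') s1').2 (by omega)).resolve_right (by
    rintro ⟨rfl, q2⟩
    obtain rfl : r' = 0 := Multiset.card_eq_zero.1 (s2'.trans q2)
    rw [h2'] at x2
    simp [v1] at x2)
  obtain ⟨η, rfl⟩ := Multiset.card_eq_one.1 (s2'.trans q2)
  simp only [Multiset.map_singleton, Multiset.sum_singleton, Multiset.mem_singleton, forall_eq]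
    at h1 h1' h2 h2' d3 d4
  obtain rfl : a = 1 := q0.resolve_right fun h => by
    subst h
    have h5 := norm_le_cc h1.1 x
    rw [h2] at x1
    simp only [Pi.add_apply, Pi.smul_apply, v1, Pi.one_apply] at x1
    simp only [nsmul_eq_mul] at x1
    rw [show θ x = -10 by push_cast at x1; linear_combination x1 / 2, hcx] at h5
    norm_num at h5
  simp only [one_smul, zero_smul, zero_add] at h2 h2'
  exact (show deg χ + 1 = 24 by omega) ▸ idx_of hχ (by omega) (real_of hχ hu') h1.1 h1'.1 n1 h1.2.1 h1'.2.1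
    (fun e => h1.2.2 (e ▸ rfl)) (fun e => h1'.2.2 (e ▸ rfl)) (fun e => by rw [e] at d3; omega)
    (h2 ▸ e1) (h2' ▸ e2)

end Cfsg.Agent.MK.Alg
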