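import Cfsg.Agent.M12R.B0

/-!
# The search for the values of a block at an involution when the degrees are known
-/

set_option autoImplicit false

namespace Cfsg.Agent.MK

open Finset Cfsg.Agent.Small

def fA {α : Type} (n : ℕ) (f : ℕ → α) : α := match n with
  | 0 => f 0
  | n + 1 => f (n + 1)

@[simp] theorem fA_eq {α : Type} (n : ℕ) (f : ℕ → α) : fA n f = f n := by cases n <;> rfl

/-- possible values of a character of degree `d` at an involution with centraliser order `c` -/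
def vL (N c st p : ℕ) (r3 : Bool) (d : ℕ) (m : ℤ) : List ℤ :=
  fA (d / Nat.gcd d (N / c)) fun g => fA (min (d - 1) (Nat.sqrt c) / g) fun k =>
    ((List.range (2 * k + 1)).map fun j : ℕ => ((j : ℤ) - k) * g).filter fun v =>
      ((d : ℤ) - v) % st == 0 && (!r3 || decide ((p * v.natAbs : ℕ) ≤ m))

theorem mem_vL {N c st d p : ℕ} {r3 : Bool} {m v : ℤ} (h1 : (st : ℤ) ∣ (d : ℤ) - v)
    (h2 : v.natAbs * v.natAbs ≤ c) (h3 : v.natAbs < d) (h4 : d ∣ N / c * v.natAbs)
    (h5 : r3 = true → ((p * v.natAbs : ℕ) : ℤ) ≤ m) : v ∈ vL N c st p r3 d m := by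
  simp only [vL, fA_eq, List.mem_filter, List.mem_map, List.mem_range, Bool.and_eq_true, beq_iff_eq,
    Bool.or_eq_true, Bool.not_eq_true', decide_eq_true_eq]
  have h0 : 0 < Nat.gcd d (N / c) := Nat.gcd_pos_of_pos_left _ (by omega)
  have h6 : d / Nat.gcd d (N / c) ∣ v.natAbs := by
    refine (Nat.coprime_div_gcd_div_gcd h0).dvd_of_dvd_mul_left (Nat.dvd_of_mul_dvd_mul_left h0 ?_)
    rwa [← mul_assoc, Nat.mul_div_cancel' (Nat.gcd_dvd_left _ _),
      Nat.mul_div_cancel' (Nat.gcd_dvd_right _ _)]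
  have h7 : 0 < d / Nat.gcd d (N / c) :=
    Nat.div_pos (Nat.le_of_dvd (by omega) (Nat.gcd_dvd_left _ _)) h0
  generalize d / Nat.gcd d (N / c) = g at h6 h7
  obtain ⟨i, rfl⟩ := Int.natCast_dvd.2 h6
  have h8 : i.natAbs ≤ min (d - 1) (Nat.sqrt c) / g := by
    rw [Nat.le_div_iff_mul_le h7, mul_comm]
    rw [Int.natAbs_mul, Int.natAbs_natCast] at h2 h3
    exact le_min (by omega) (Nat.le_sqrt.2 h2)
  refine ⟨⟨(i + (min (d - 1) (Nat.sqrt c) / g : ℕ)).toNat, by omega, ?_⟩, Int.emod_eq_zero_of_dvd h1, ?_⟩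
  · rw [Int.toNat_of_nonneg (by omega), add_sub_cancel_right, mul_comm]
  cases r3 <;> simp_all

def fZ : List ℤ → (List ℤ → Bool) → Bool
  | [], f => f []
  | x :: l, f => fI x fun a => fZ l fun l => f (a :: l)

@[simp] theorem fZ_eq (l : List ℤ) (f : List ℤ → Bool) : fZ l f = f l := by
  induction l generalizing f with
  | nil => rfl
  | cons x l ih => simp [fZ, ih]

def fP (vl : ℕ → List ℤ) : List (ℕ × ℤ) → (List (ℕ × ℤ × List ℤ) → Bool) → Bool
  | [], f => f []
  | x :: l, f => fN x.1 fun d => fI x.2 fun a => fZ (vl d) fun w => fP vl l fun r => f ((d, a, w) :: r)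

theorem fP_eq (vl : ℕ → List ℤ) (l : List (ℕ × ℤ)) (f : List (ℕ × ℤ × List ℤ) → Bool) :
    fP vl l f = f (l.map fun x => (x.1, x.2, vl x.1)) := by
  induction l generalizing f with
  | nil => rfl
  | cons x l ih => simp [fP, ih]

def vs (fin : List Row → Bool) : List (ℕ × ℤ × List ℤ) → ℕ → ℤ → List Row → Bool
  | [], _, sv, acc => sv == 0 && fin acc
  | x :: tl, q, sv, acc => x.2.2.any fun v => fI (sv + x.2.1 * v) fun sv' =>
      (!tl.isEmpty || sv' == 0) && (Nat.ble (v.natAbs * v.natAbs) q &&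
        fN (q - v.natAbs * v.natAbs) fun q' => vs fin tl q' sv' ((x.1, x.2.1, v) :: acc))

theorem vs_sound {fin : List Row → Bool} {vl : ℕ → List ℤ} (L : List Row) :
    ∀ (q : ℕ) (sv : ℤ) (acc : List Row), (∀ x ∈ L, x.2.2 ∈ vl x.1) →
      (L.map fun x => x.2.2.natAbs * x.2.2.natAbs).sum ≤ q →
      sv + (L.map fun x => x.2.1 * x.2.2).sum = 0 → fin (L.reverse ++ acc) = true →
      vs fin (L.map fun x => (x.1, x.2.1, vl x.1)) q sv acc = true := by
  induction L with
  | nil => intro q sv acc _ _ h1 h2; simpa [vs] using ⟨by simpa using h1, by simpa using h2⟩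
  | cons x L ih =>
    intro q sv acc h0 h1 h2 h3
    simp only [List.map_cons, List.sum_cons] at h1 h2
    simp only [List.map_cons, vs, List.any_eq_true, fI_eq, fN_eq, Bool.and_eq_true, Nat.ble_eq,
      Bool.or_eq_true, Bool.not_eq_true', beq_iff_eq]
    refine ⟨x.2.2, h0 x List.mem_cons_self, ?_, by omega, ih _ _ _
      (fun y hy => h0 y (List.mem_cons_of_mem _ hy)) (by omega) (by rw [add_assoc]; exact h2)
      (by simpa using h3)⟩
    cases L with
    | nil => exact Or.inr (by simpa using h2)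
    | cons y L => exact Or.inl rfl

theorem exists_list {α β : Type} [DecidableEq α] (f : α → β) (l : List β) :
    ∀ M : Multiset α, (l : Multiset β) = M.map f → ∃ L : List α, (L : Multiset α) = M ∧ L.map f = l := by
  induction l with
  | nil => intro M h; exact ⟨[], (Multiset.map_eq_zero.1 h.symm).symm, rfl⟩
  | cons b l ih =>
    intro M h
    obtain ⟨a, h1, h2, h3⟩ := (Multiset.map_eq_cons f M l b).2 h.symm
    obtain ⟨L, h4, h5⟩ := ih _ h3.symm
    exact ⟨a :: L, by rw [← Multiset.cons_coe, h4, Multiset.cons_erase h1], by rw [List.map_cons, h2, h5]⟩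

def finZ (N p X : ℕ) (Z : ℤ) : Bool := decide (0 ≤ Z) && (X * Z) % (N * p : ℕ) == 0

def mom (N c k : ℕ) (l : List Row) : ℤ :=
  (N / c : ℕ) ^ k + (l.map fun x : Row => x.2.1 * (x.1 * ((N / c : ℕ) * x.2.2 / x.1) ^ k)).sum

/-- the class sum tests -/
def fin2 (N p e X c : ℕ) (r3 : Bool) (l : List Row) : Bool :=
  fI (M12R.xi N l) (M12R.finW p e X c r3) &&
    (fI (mom N c 3 l) (finZ N p X) && fI (mom N c 4 l) (finZ N p X))

def stp (p c : ℕ) : ℕ := if c % p = 0 then 4 * p else 4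

/-- the value search for the rows `(degree, coefficient)` with nonzero coefficient -/
def VS (N p e X c : ℕ) (r3 : Bool) (l0 : List (ℕ × ℤ)) (fin : List Row → Bool) : Bool :=
  fN (stp p c) fun st => fP (fun d => vL N c st p false d 0) l0 fun R =>
    vs (fun l => fin2 N p e X c r3 l && fin l) R (c - 1) 1 []

/-- The column of a block at an involution. -/
structure Col {ι : Type*} (N p e X c : ℕ) (r3 : Bool) (T : Finset ι) (d : ι → ℕ) (a v : ι → ℤ) :
    Prop where
  mem : ∀ χ ∈ T, v χ ∈ vL N c (stp p c) p false (d χ) 0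
  orth : 1 + ∑ χ ∈ T, a χ * v χ = 0
  nrm : ∑ χ ∈ T, (v χ).natAbs * (v χ).natAbs ≤ c - 1
  xi : M12R.finW p e X c r3 (N + ∑ χ ∈ T, a χ * (v χ * v χ * (N / d χ : ℕ))) = true
  mom : ∀ k, finZ N p X ((N / c : ℕ) ^ k + ∑ χ ∈ T, a χ * (d χ * ((N / c : ℕ) * v χ / d χ) ^ k)) = true

variable {ι : Type*} {N p e X c : ℕ} {r3 : Bool} {T : Finset ι} {d : ι → ℕ} {a v : ι → ℤ}

theorem Col.filter (h : Col N p e X c r3 T d a v) : Col N p e X c r3 (T.filter fun χ => a χ ≠ 0) d a v := by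
  have h1 : ∀ F : ι → ℤ, ∑ χ ∈ T.filter (fun χ => a χ ≠ 0), a χ * F χ = ∑ χ ∈ T, a χ * F χ :=
    fun F => sum_filter_of_ne fun χ _ e => left_ne_zero_of_mul e
  exact ⟨fun χ hχ => h.mem χ (mem_filter.1 hχ).1, by rw [h1]; exact h.orth,
    (sum_le_sum_of_subset (filter_subset _ _)).trans h.nrm, by rw [h1]; exact h.xi,
    fun k => by rw [h1]; exact h.mom k⟩

theorem sum_rows {β : Type} [AddCommMonoid β] {l : List Row}
    (hl : (l : Multiset Row) = T.val.map fun χ => (d χ, a χ, v χ)) (f : Row → β) :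
    (l.map f).sum = ∑ χ ∈ T, f (d χ, a χ, v χ) := by
  rw [← Multiset.sum_coe, ← Multiset.map_coe, hl, Multiset.map_map]
  rfl

theorem Col.fin2 (h : Col N p e X c r3 T d a v) {l : List Row}
    (hl : (l : Multiset Row) = T.val.map fun χ => (d χ, a χ, v χ)) : fin2 N p e X c r3 l = true := by
  simp only [MK.fin2, fI_eq, Bool.and_eq_true, M12R.xi, MK.mom, sum_rows hl, mul_assoc]
  exact ⟨by simpa only [mul_assoc] using h.xi, h.mom 3, h.mom 4⟩

theorem Col.vs (h : Col N p e X c r3 T d a v) {l0 : List (ℕ × ℤ)}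
    (h0 : (l0 : Multiset (ℕ × ℤ)) = T.val.map fun χ => (d χ, a χ)) {fin : List Row → Bool}
    (hf : ∀ l : List Row, (l : Multiset Row) = T.val.map (fun χ => (d χ, a χ, v χ)) → fin l = true) :
    VS N p e X c r3 l0 fin = true := by
  obtain ⟨L, h1, rfl⟩ := exists_list (fun x : Row => (x.1, x.2.1)) l0
    (T.val.map fun χ => (d χ, a χ, v χ)) (by rw [h0, Multiset.map_map]; rfl)
  have h2 : ((L.reverse ++ [] : List Row) : Multiset Row) = T.val.map fun χ => (d χ, a χ, v χ) := by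
    rw [List.append_nil, Multiset.coe_reverse, h1]
  rw [VS, fN_eq, fP_eq, List.map_map]
  refine vs_sound (vl := fun d => vL N c (stp p c) p false d 0) L _ _ _ (fun x hx => ?_)
    (by rw [sum_rows h1]; exact h.nrm) (by rw [sum_rows h1]; exact h.orth)
    (by rw [h.fin2 h2, hf _ h2]; rfl)
  rw [← Multiset.mem_coe, h1] at hx
  obtain ⟨χ, hχ, rfl⟩ := Multiset.mem_map.1 hx
  exact h.mem χ hχ

end Cfsg.Agent.MK
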