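import Cfsg.Agent.MK.Mom
import Cfsg.Agent.MK.VS

/-!
# The principal block for a Sylow subgroup of prime order, without a bound on the order
-/

set_option autoImplicit false
set_option linter.unusedSectionVars false

namespace Cfsg.Agent.MK

open Finset Subgroup Cfsg.Agent.Char Cfsg.Agent.Block Cfsg.Agent.Zass Cfsg.Agent.Local
  Cfsg.Agent.M11 Cfsg.Agent.Small

/-- The data attached to a Sylow subgroup of odd prime order. -/
structure KB {G : Type*} [Group G] [Finite G] (p e X : ℕ) (x : G) (T : Finset (IrrCharacter G))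
    (a : IrrCharacter G → ℤ) : Prop where
  ord : orderOf x = p
  ccx : cc x = p * X
  nrm : Nat.card (normalizer (zpowers x : Set G)) = p * X * e
  dvd : e ∣ p - 1
  ne : e ≠ 1
  idx : ∃ H : Subgroup G, H ≠ ⊤ ∧ H.index % p = 1 ∧ p * X * e * H.index = Nat.card G
  inv : 2 ∣ e → ¬ 2 ∣ X → ∃ s : G, orderOf s = 2 ∧ s * x * s⁻¹ = x⁻¹
  ne1 : ∀ χ ∈ T, χ.1 ≠ 1
  mem : X = 1 → ∀ χ : IrrCharacter G, χ.1 ≠ 1 → ¬ p ∣ deg χ.1 → χ ∈ T
  two : ∀ χ ∈ T, X = 1 ∨ 2 * p ≤ deg χ.1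
  a1 : a ⟨1, irr_one⟩ = 1
  a0 : ∀ χ : IrrCharacter G, χ.1 ≠ 1 → a χ ≠ 0 → χ ∈ T
  reg : ∀ g : G, (orderOf g).Coprime p → ∑ χ : IrrCharacter G, (a χ : ℂ) * χ.1 g = 0
  mom : ∀ (L : List G), (∀ s ∈ L, (orderOf s).Coprime p) → ∀ Z : ℤ,
    ∑ χ : IrrCharacter G, (a χ : ℂ) * (χ.1 1 * (L.map (om χ.1)).prod) = Z →
      ∃ f : ℕ, (X : ℤ) * Z = Nat.card G * (p * f)
  st1 : ∀ (dl : List ℕ) (fin : List Row → ℕ → Bool), (∀ χ ∈ T, deg χ.1 ∈ dl) →
    (∀ l : List Row, (l : Multiset Row) = T.val.map (fun χ => (deg χ.1, a χ, (deg χ.1 : ℤ))) →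
      ∀ r, r + 1 + ∑ χ ∈ T, deg χ.1 * deg χ.1 = Nat.card G → (X = 1 → r % (p * p) = 0) →
        fin l r = true) →
    M12R.B dl (fun d _ => [(d : ℤ)]) (Nat.card G) p e (Nat.card G / (p * X)) (Nat.card G - 1) fin = true
  stv : ∀ (g : G) (v : IrrCharacter G → ℤ), (orderOf g).Coprime p → (∀ χ ∈ T, χ.1 g = v χ) →
    ∀ (dl : List ℕ) (vl : ℕ → List ℤ) (q : ℕ) (fin : List Row → ℕ → Bool), (∀ χ ∈ T, deg χ.1 ∈ dl) →
    (∀ χ ∈ T, v χ ∈ vl (deg χ.1)) → ∑ χ ∈ T, (v χ).natAbs * (v χ).natAbs ≤ q →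
    (∀ l : List Row, (l : Multiset Row) = T.val.map (fun χ => (deg χ.1, a χ, v χ)) →
      fin l (Nat.card G - 1 - ∑ χ ∈ T, deg χ.1 * deg χ.1) = true) →
    M12R.B dl (fun d _ => vl d) (Nat.card G) p e (Nat.card G / (p * X)) q fin = true
  st2 : ∀ s : G, orderOf s = 2 → ∃ r3 : Bool, (s * x * s⁻¹ = x⁻¹ → r3 = true) ∧
    (e % 2 = 1 → r3 = false) ∧
    Col (Nat.card G) p e X (cc s) r3 T (fun χ => deg χ.1) a (fun χ => iv χ.1 s) ∧
    ∀ (dl : List ℕ) (fin : List Row → ℕ → Bool), (∀ χ ∈ T, deg χ.1 ∈ dl) →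
      (∀ l : List Row, (l : Multiset Row) = T.val.map (fun χ => (deg χ.1, a χ, iv χ.1 s)) →
        fin l (Nat.card G - 1 - ∑ χ ∈ T, deg χ.1 * deg χ.1) = true) →
      M12R.B dl (vL (Nat.card G) (cc s) (stp p (cc s)) p r3) (Nat.card G) p e (Nat.card G / (p * X))
        (cc s - 1) fin = true

section

variable {G : Type*} [Group G] [Fintype G] {p : ℕ} [hp : Fact p.Prime] {x : G}
  {h : PP p x} {ψ : AddChar (ZMod p) ℂ} {φ θ : ZMod p → G → ℂ} (H : Phi h ψ φ θ)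
  {a : ZMod p → IrrCharacter G → ℤ} (ha : ∀ k (χ : IrrCharacter G), classInner (θ k) χ = a k χ)
include H ha

theorem stg2 [IsSimpleGroup G] [DecidableEq (IrrCharacter G)] (hna : ¬ IsMulCommutative G)
    (h80 : p ≤ 80) {s : G} (hs : orderOf s = 2) :
    ∃ r3 : Bool, (s * x * s⁻¹ = x⁻¹ → r3 = true) ∧ ((EE p x).card % 2 = 1 → r3 = false) ∧
    Col (Nat.card G) p (EE p x).card (Nat.card h.npc.compl) (cc s) r3 (TT ⟨1, irr_one⟩ a)
      (fun χ => deg χ.1) (a 1) (fun χ => iv χ.1 s) ∧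
    ∀ (dl : List ℕ) (fin : List Row → ℕ → Bool), (∀ χ ∈ TT ⟨1, irr_one⟩ a, deg χ.1 ∈ dl) →
      (∀ l : List Row, (l : Multiset Row) =
        (TT ⟨1, irr_one⟩ a).val.map (fun χ => (deg χ.1, a 1 χ, iv χ.1 s)) →
        fin l (Nat.card G - 1 - ∑ χ ∈ TT ⟨1, irr_one⟩ a, deg χ.1 * deg χ.1) = true) →
      M12R.B dl (vL (Nat.card G) (cc s) (stp p (cc s)) p r3) (Nat.card G) p (EE p x).card
        (Nat.card G / (p * Nat.card h.npc.compl)) (cc s - 1) fin = true := by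
  classical
  set J := univ.filter fun u => IsConj s u ∧ u * x * u⁻¹ = x⁻¹ with hJ
  have hodd : (EE p x).card % 2 = 1 → J.card = 0 := fun he => by
    rw [card_eq_zero, filter_eq_empty_iff]
    rintro u - ⟨h8, h9⟩
    obtain ⟨j', hj'⟩ := H.vd ha hna ((isConj_orderOf h8).symm.trans hs) (r3 := true) fun _ => h9
    exact hj'.r3j rfl (hj'.odd he)
  obtain ⟨j, hj⟩ := H.vd ha hna hs (r3 := false) (by simp)
  have hss := mul_self_of_orderOf hs
  have hv := fun χ : IrrCharacter G => iv_spec (perfect hna) χ.2 hss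
  have hb := M12R.bd H ha hna h80
  have h1 := sum_TT_le (o := ⟨1, irr_one⟩) (a := a) fun χ => (iv χ.1 s).natAbs * (iv χ.1 s).natAbs
  rw [hj.sumv, hj.vo] at h1
  simp only [Int.natAbs_one] at h1
  have hmem : ∀ χ ∈ TT ⟨1, irr_one⟩ a, ∀ (r3 : Bool) (m : ℤ),
      (r3 = true → ((p * (iv χ.1 s).natAbs : ℕ) : ℤ) ≤ m) →
      iv χ.1 s ∈ vL (Nat.card G) (cc s) (stp p (cc s)) p r3 (deg χ.1) m := fun χ hχ r3 m hm => by
    obtain ⟨h2, k, h3⟩ := mem_TT.1 hχ
    obtain ⟨h4, h5, h6⟩ := hj.row χ h2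
    have h7 := single_le_sum (f := fun χ : IrrCharacter G => (iv χ.1 s).natAbs * (iv χ.1 s).natAbs)
      (fun _ _ => Nat.zero_le _) (mem_univ χ)
    rw [hj.sumv] at h7
    refine mem_vL ?_ h7 h5 h6 hm
    rw [stp]
    split_ifs with e
    · rw [Nat.cast_mul]
      refine IsCoprime.mul_dvd (Nat.isCoprime_iff_coprime.2 ?_) h4
        (M12R.cong h χ.2 (H.inB0 ha h3) hs (Nat.dvd_of_mod_eq_zero e) (hv χ).1)
      exact Nat.Coprime.pow_left 2 ((Nat.coprime_primes Nat.prime_two hp.out).2 h.odd.symm)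
    · exact h4
  refine ⟨decide (J.card ≠ 0), fun e => decide_eq_true (card_ne_zero.2
    ⟨s, mem_filter.2 ⟨mem_univ _, IsConj.refl s, e⟩⟩), fun e => by simp [hodd e],
    ⟨fun χ hχ => hmem χ hχ _ _ (by simp), ?_, by omega, ?_, fun k => ?_⟩, fun D fin hD hf => ?_⟩
  · have := hj.val0 1 one_ne_zero
    rwa [sum_TT (o := ⟨1, irr_one⟩), hb.ao 1 one_ne_zero, hj.vo] at this
  · refine M12R.finW_of hp.out.pos Nat.card_pos (cc_pos s) ?_ hodd
    have h1 := H.classSum hss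
    rw [classFun_sum_conj_mul (gen_isClassFunction (H.gen 1)), mul_sum, h.cc_eq] at h1
    have h3 : ∀ χ : IrrCharacter G, (Nat.card G : ℂ) * (classInner (θ 1) χ * (χ.1 s * χ.1 s / χ.1 1)) =
        ((a 1 χ * (iv χ.1 s * iv χ.1 s * (Nat.card G / deg χ.1 : ℕ)) : ℤ) : ℂ) := fun χ => by
      have h4 : (deg χ.1 : ℂ) ≠ 0 := Nat.cast_ne_zero.2 (irr_deg_pos χ.2).ne'
      rw [ha, irr_deg χ.2]
      nth_rw 1 [(hv χ).1]
      nth_rw 1 [(hv χ).1]
      rw [Int.cast_mul, Int.cast_mul, Int.cast_natCast, Nat.cast_div (deg_dvd_card χ.2) h4]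
      push_cast
      ring
    simp only [h3] at h1
    have h4 := sum_TT (o := ⟨1, irr_one⟩) (a := a)
      fun χ => iv χ.1 s * iv χ.1 s * (Nat.card G / deg χ.1 : ℕ)
    rw [hb.ao 1 one_ne_zero, hj.vo, deg_one, Nat.div_one, one_mul, one_mul, one_mul] at h4
    rw [← h4, mul_assoc, mul_comm]
    exact_mod_cast h1
  · have h3 : ∀ χ : IrrCharacter G, om χ.1 s =
        (((Nat.card G / cc s : ℕ) * iv χ.1 s / deg χ.1 : ℤ) : ℂ) := fun χ => by
      have h4 : (deg χ.1 : ℂ) ≠ 0 := Nat.cast_ne_zero.2 (irr_deg_pos χ.2).ne'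
      have h5 : (cc s : ℂ) ≠ 0 := Nat.cast_ne_zero.2 (cc_pos s).ne'
      have h6 : (deg χ.1 : ℤ) ∣ (Nat.card G / cc s : ℕ) * iv χ.1 s := by
        by_cases e : χ = ⟨1, irr_one⟩
        · subst e
          simp [deg_one]
        · rw [Int.natCast_dvd, Int.natAbs_mul, Int.natAbs_natCast]
          exact (hj.row χ e).2.2
      rw [Int.cast_div h6 (by exact_mod_cast h4), om, irr_deg χ.2, Int.cast_mul, ← (hv χ).1,
        Int.cast_natCast, Int.cast_natCast, Nat.cast_div (cc_dvd s) h5]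
      field_simp
    obtain ⟨f, hf⟩ := moment H ha (List.replicate k s) (fun t ht => by
      rw [List.eq_of_mem_replicate ht, hs]
      exact (Nat.coprime_primes Nat.prime_two hp.out).2 h.odd.symm)
      (Z := ∑ χ, a 1 χ * (deg χ.1 * ((Nat.card G / cc s : ℕ) * iv χ.1 s / deg χ.1) ^ k)) (by
        simp only [List.map_replicate, List.prod_replicate, h3, fun χ : IrrCharacter G => irr_deg χ.2]
        norm_cast)
    rw [sum_TT (o := ⟨1, irr_one⟩), hb.ao 1 one_ne_zero, hj.vo, deg_one] at hf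
    simp only [Nat.cast_one, one_mul, mul_one, Int.ediv_one] at hf
    simp only [finZ, Bool.and_eq_true, decide_eq_true_eq, beq_iff_eq]
    refine ⟨?_, by rw [hf, ← mul_assoc, Nat.cast_mul]; exact Int.mul_emod_right _ _⟩
    have h0 : (0 : ℤ) < Nat.card h.npc.compl := Nat.cast_pos.2 Nat.card_pos
    exact nonneg_of_mul_nonneg_right (hf ▸ by positivity) h0
  rw [← h.cc_eq]
  refine hb.search (v := fun χ => iv χ.1 s) hD (fun χ hχ => hmem χ hχ _ _ fun e => ?_)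
    hj.vo hj.val0 (by omega) hf
  obtain ⟨h2, k, h3⟩ := mem_TT.1 hχ
  obtain ⟨u, hu⟩ := card_ne_zero.1 (of_decide_eq_true e)
  obtain ⟨-, h8, h9⟩ := mem_filter.1 hu
  obtain ⟨j', hj'⟩ := H.vd ha hna ((isConj_orderOf h8).symm.trans hs) (r3 := true) fun _ => h9
  have := hj'.r3b rfl χ k h3
  rwa [iv, ← classFun_of_isConj (irr_isClassFunction χ.2) h8] at this

end

variable {G : Type*} [Group G] [Finite G]

theorem exists_KB [IsSimpleGroup G] (hna : ¬ IsMulCommutative G) {p : ℕ}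
    (hp : p.Prime) (h2 : p ≠ 2) (h80 : p ≤ 80) (hsq : ¬ p * p ∣ Nat.card G) {x : G}
    (hx : orderOf x = p) : ∃ e X T a, KB p e X x T a := by
  classical
  have := Fintype.ofFinite G
  have := Fact.mk hp
  have h : PP p x := ⟨h2, hx, hsq⟩
  obtain ⟨ψ, φ, θ, H⟩ := h.exists_phi
  choose a ha using fun k (χ : IrrCharacter G) =>
    inner_gen_gen (H.gen k) (gen_of_char (irr_isCharacter χ.2))
  obtain ⟨h3, h4, h5, h6⟩ := h.data hna
  have hb := M12R.bd H ha hna h80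
  have h7 : p * Nat.card h.npc.compl * (EE p x).card * (normalizer (zpowers x : Set G)).index =
      Nat.card G := by rw [← h.cc_eq, h.card_norm, card_mul_index]
  have h1 := sum_TT_le (o := ⟨1, irr_one⟩) (a := a) fun χ => deg χ.1 * deg χ.1
  rw [sum_deg, deg_one] at h1
  refine ⟨_, _, TT ⟨1, irr_one⟩ a, a 1, hx, h.cc_eq, by rw [← h.cc_eq, h.card_norm], h3, h4,
    ⟨_, h6, h5, h7⟩, fun e1 e2 => h.exists_inv e1 fun e3 => ?_,
    fun χ hχ e => (mem_TT.1 hχ).1 (Subtype.ext e),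
    fun hX χ h1 h8 => mem_TT.2 ⟨fun e => h1 (congrArg Subtype.val e), ?_⟩, fun χ hχ => ?_,
    hb.ao 1 one_ne_zero, fun χ h1 h8 => mem_TT.2 ⟨fun e => h1 (congrArg Subtype.val e), 1, h8⟩,
    fun g hg => by rw [← H.apply ha, H.reg 1 hg], fun L hL Z => moment H ha L hL,
    fun dl fin hdl hf => ?_, fun g v hg hv dl vl q fin hdl hvl hq hf => ?_,
    fun s => stg2 H ha hna h80⟩
  · rw [h.cc_eq, Nat.prime_two.dvd_mul] at e3
    exact e3.elim (fun e => h2 ((Nat.prime_dvd_prime_iff_eq Nat.prime_two hp).1 e).symm) e2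
  · by_contra e
    push Not at e
    exact h8 (H.dvd_deg ha hX e)
  · obtain ⟨h8, k, h9⟩ := mem_TT.1 hχ
    exact M12R.two_mul_le' H ha hna h9 fun e => h8 (Subtype.ext e)
  · rw [← h.cc_eq]
    refine hb.search (v := fun χ => deg χ.1) hdl (by simp) (by simp [deg_one]) hb.deg0
      (by simp only [Int.natAbs_natCast]; omega) fun l hl => hf l hl _ (by omega) fun hX => ?_
    have h2 := sum_add_sum_compl (insert ⟨1, irr_one⟩ (TT ⟨1, irr_one⟩ a))
      fun χ : IrrCharacter G => deg χ.1 * deg χ.1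
    rw [sum_deg, sum_insert (by simp [mem_TT]), deg_one] at h2
    rw [← h2, add_assoc, Nat.mul_one, Nat.add_sub_cancel_left, Nat.add_sub_cancel_left]
    refine Nat.mod_eq_zero_of_dvd (dvd_sum fun χ hχ => ?_)
    simp only [mem_compl, mem_insert, mem_TT, not_or, not_and, not_exists, not_not] at hχ
    have := H.dvd_deg ha hX (hχ.2 hχ.1)
    exact mul_dvd_mul this this
  · rw [← h.cc_eq]
    have h8 : ∀ χ ∈ TT ⟨1, irr_one⟩ a, (if χ = ⟨1, irr_one⟩ then 1 else v χ) = v χ := fun χ hχ =>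
      if_neg (mem_TT.1 hχ).1
    refine hb.search (v := fun χ => if χ = ⟨1, irr_one⟩ then 1 else v χ) hdl
      (fun χ hχ => by rw [h8 χ hχ]; exact hvl χ hχ) (if_pos rfl) (fun k _ => ?_)
      (by rwa [sum_congr rfl fun χ hχ => by rw [h8 χ hχ]]) fun l hl => hf l ?_
    · have := H.reg k hg
      rw [H.apply ha, sum_congr rfl (g := fun χ => ((a k χ *
        (if χ = ⟨1, irr_one⟩ then 1 else v χ) : ℤ) : ℂ)) fun χ _ => ?_] at this
      · exact_mod_cast this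
      by_cases e : a k χ = 0
      · simp [e]
      split_ifs with e'
      · subst e'
        simp
      · rw [hv χ (mem_TT.2 ⟨e', k, e⟩), Int.cast_mul]
    · rw [hl]
      exact Multiset.map_congr rfl fun χ hχ => by rw [h8 χ hχ]

end Cfsg.Agent.MK
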