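import Cfsg.Agent.MK.B0

/-!
# Kill tables for groups whose order divides `244823040`
-/

set_option autoImplicit false
set_option linter.unusedSectionVars false

namespace Cfsg.Agent.MK

open Finset Subgroup Cfsg.Agent.Char Cfsg.Agent.Zass Cfsg.Agent.Local Cfsg.Agent.M11 Cfsg.Agent.Small

def dv24 : List ℕ := [1, 2, 4, 8, 16, 32, 64, 128, 256, 512, 1024].flatMap fun a =>
  [1, 3, 9, 27].flatMap fun b =>
    [1, 5, 7, 11, 23, 35, 55, 77, 115, 161, 253, 385, 805, 1265, 1771, 8855].map fun c => a * b * c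

theorem mem_dv24 {d : ℕ} (h : d ∣ 244823040) : d ∈ dv24 := by
  obtain ⟨m, c, h1, hc, rfl⟩ := (Nat.dvd_mul (m := 1024 * 27) (n := 8855)).1 h
  obtain ⟨a, b, ha, hb, rfl⟩ := Nat.dvd_mul.1 h1
  simp only [dv24, List.mem_flatMap, List.mem_map]
  exact ⟨a, (by decide +kernel : ∀ a ∈ Nat.divisors 1024, a ∈ _) a (Nat.mem_divisors.2 ⟨ha, by decide⟩),
    b, (by decide +kernel : ∀ a ∈ Nat.divisors 27, a ∈ _) b (Nat.mem_divisors.2 ⟨hb, by decide⟩),
    c, (by decide +kernel : ∀ a ∈ Nat.divisors 8855, a ∈ _) c (Nat.mem_divisors.2 ⟨hc, by decide⟩), rfl⟩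

/-- the divisors of `N` -/
def dvN (N : ℕ) : List ℕ := dv24.filter fun d => N % d == 0

theorem mem_dvN {N d : ℕ} (hN : N ∣ 244823040) (h : d ∣ N) : d ∈ dvN N := by
  simp [dvN, mem_dv24 (h.trans hN), Nat.mod_eq_zero_of_dvd h]

/-- possible degrees -/
def dgl (N p X : ℕ) (W : ℕ → Bool) : List ℕ := (dvN N).filter fun d =>
  Nat.ble 2 d && (Nat.ble (d * d) N && ((X == 1 || Nat.ble (2 * p) d) && W d))

def cands (N p b : ℕ) : List (ℕ × ℕ) := (dvN N).flatMap fun n =>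
  if n % p == 1 && Nat.ble b n then ((List.range p).filter fun e =>
    Nat.ble 2 e && ((p - 1) % e == 0 && N % (p * e * n) == 0)).map fun e => (e, N / (p * e * n)) else []

def call (N b : ℕ) : List ℕ := (dvN N).filter fun c => c % 4 == 0 && Nat.ble b (N / c)

def cs (N p b e X : ℕ) : List (ℕ × Bool) :=
  ((call N b).filter fun c => if X % 2 = 0 then c % p == 0 else
    c % p != 0 && (e % 2 == 0 || N / c % 2 == 1)).flatMap fun c =>
      (if X % 2 = 1 ∧ e % 2 = 0 then [] else [(c, false)]) ++ if e % 2 = 1 then [] else [(c, true)]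

def prj (l : List Row) : List (ℕ × ℤ) := l.map fun x => (x.1, x.2.1)

/-- first stage -/
def K1 (N p e X : ℕ) (W : ℕ → Bool) (F : List (ℕ × ℤ) → Bool) : Bool :=
  fL (dgl N p X W) fun dl => M12R.B dl (fun d _ => [(d : ℤ)]) N p e (N / (p * X)) (N - 1) fun l r =>
    (X != 1 || r % (p * p) == 0) && F (prj l)

def ins (x : ℕ × ℕ × ℤ) : List (ℕ × ℕ × ℤ) → List (ℕ × ℕ × ℤ)
  | [] => [x]
  | y :: l => bif Nat.ble x.1 y.1 then x :: y :: l else y :: ins x l

theorem ins_perm (x : ℕ × ℕ × ℤ) (l : List (ℕ × ℕ × ℤ)) : (ins x l).Perm (x :: l) := by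
  induction l with
  | nil => rfl
  | cons y l ih =>
    rw [ins]
    cases Nat.ble x.1 y.1
    · exact (ih.cons y).trans (List.Perm.swap _ _ _)
    · rfl

def srt0 (N c : ℕ) : List (ℕ × ℤ) → List (ℕ × ℕ × ℤ)
  | [] => []
  | x :: l => bif x.2 == 0 then srt0 N c l else fA x.1 fun d => fA (d / Nat.gcd d (N / c)) fun g =>
      fA (min (d * d) c / (g * g)) fun k => ins (k, d, x.2) (srt0 N c l)

/-- the rows with nonzero coefficient, short value lists first -/
def srt (N c : ℕ) (l : List (ℕ × ℤ)) : List (ℕ × ℤ) := (srt0 N c l).map (·.2)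

theorem srt_perm (N c : ℕ) (l : List (ℕ × ℤ)) : (srt N c l).Perm (l.filter fun x => x.2 ≠ 0) := by
  induction l with
  | nil => rfl
  | cons x l ih =>
    rw [srt, srt0]
    by_cases h : x.2 = 0
    · simpa [h, srt] using ih
    · rw [beq_false_of_ne h, List.filter_cons_of_pos (by simpa using h)]
      simp only [cond_false, fA_eq]
      exact ((ins_perm _ _).map _).trans (ih.cons _)

def fC : List (ℕ × Bool) → (List (ℕ × Bool) → Bool) → Bool
  | [], f => f []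
  | x :: l, f => fN x.1 fun c => bif x.2 then fC l fun l => f ((c, true) :: l) else
      fC l fun l => f ((c, false) :: l)

@[simp] theorem fC_eq (l : List (ℕ × Bool)) (f : List (ℕ × Bool) → Bool) : fC l f = f l := by
  induction l generalizing f with
  | nil => rfl
  | cons x l ih => obtain ⟨c, _ | _⟩ := x <;> simp [fC, ih]

/-- second stage for all listed centraliser orders -/
def K2 (N p e X : ℕ) (C : List (ℕ × Bool)) (l0 : List (ℕ × ℤ)) : Bool :=
  C.any fun c => VS N p e X c.1 c.2 (srt N c.1 l0) fun _ => true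

/-- `W` filters the degrees, `F` the rows, `P` the centraliser orders of involutions -/
def kill (N p b e X : ℕ) (W : ℕ → Bool) (F : List (ℕ × ℤ) → Bool) (P : ℕ → Bool) : Bool :=
  fC ((cs N p b e X).filter fun c => P c.1) fun C => !K1 N p e X W fun l => F l && K2 N p e X C l

def killAll (N p b : ℕ) (S : ℕ × ℕ → Bool) (W : ℕ → Bool) (F : ℕ → List (ℕ × ℤ) → Bool)
    (P : ℕ → Bool) : Bool :=
  (cands N p b).all fun c => S c || fN c.1 fun e => fN c.2 fun X => kill N p b e X W (F X) P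

def notIn (L : List (List (ℕ × ℤ))) (l : List (ℕ × ℤ)) : Bool := !L.any fun D => l.isPerm D

variable {G : Type*} [Group G] [Finite G] {p e X : ℕ} {x : G} {T : Finset (IrrCharacter G)}
  {a : IrrCharacter G → ℤ}

/-- the rows of the block -/
noncomputable def rws (T : Finset (IrrCharacter G)) (a : IrrCharacter G → ℤ) : Multiset (ℕ × ℤ) :=
  T.val.map fun χ => (deg χ.1, a χ)

theorem Col.vs' {N c : ℕ} {r3 : Bool} {v : IrrCharacter G → ℤ}
    (h : Col N p e X c r3 T (fun χ => deg χ.1) a v) {l0 : List (ℕ × ℤ)}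
    (h0 : (l0 : Multiset (ℕ × ℤ)) = rws T a) {fin : List Row → Bool}
    (hf : ∀ l : List Row, (l : Multiset Row) =
      (T.filter fun χ => a χ ≠ 0).val.map (fun χ => (deg χ.1, a χ, v χ)) → fin l = true) :
    VS N p e X c r3 (srt N c l0) fin = true := by
  refine h.filter.vs ?_ hf
  rw [Multiset.coe_eq_coe.2 (srt_perm N c l0), ← Multiset.filter_coe, h0, rws, Multiset.filter_map,
    filter_val]
  simp

variable [IsSimpleGroup G] (hna : ¬ IsMulCommutative G) (hN : Nat.card G ∣ 244823040)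
include hna hN

theorem KB.mem_dgl (h : KB p e X x T a) {W : ℕ → Bool} (hW : ∀ χ ∈ T, W (deg χ.1) = true) :
    ∀ χ ∈ T, deg χ.1 ∈ dgl (Nat.card G) p X W := fun χ hχ => by
  simp [dgl, mem_dvN hN (deg_dvd_card χ.2), two_le_deg (perfect hna) χ.2 (h.ne1 χ hχ), deg_sq_le χ.2,
    h.two χ hχ, hW χ hχ]

theorem KB.k1 (h : KB p e X x T a) {W : ℕ → Bool} (hW : ∀ χ ∈ T, W (deg χ.1) = true)
    {F : List (ℕ × ℤ) → Bool} (hF : ∀ l : List (ℕ × ℤ), (l : Multiset (ℕ × ℤ)) = rws T a → F l = true) :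
    K1 (Nat.card G) p e X W F = true := by
  rw [K1, fL_eq]
  refine h.st1 _ _ (h.mem_dgl hna hN hW) fun l hl r _ hr => ?_
  simp only [Bool.and_eq_true, Bool.or_eq_true, bne_iff_ne, beq_iff_eq]
  refine ⟨or_iff_not_imp_left.2 fun e => hr (not_ne_iff.1 e), hF _ ?_⟩
  rw [prj, ← Multiset.map_coe, hl, Multiset.map_map]
  rfl

theorem mem_call {b : ℕ} (hb : b.Prime) (h11 : b ∣ Nat.card G) {s : G}
    (hs : orderOf s = 2) : cc s ∈ call (Nat.card G) b := by
  have h1 : s ∉ center G := fun e =>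
    ne_one_of_orderOf_eq_prime Nat.prime_two hs (eq_one_of_center hna e)
  have h2 : centralizer ({s} : Set G) ≠ ⊤ := fun e => h1 (mem_center_iff.2 fun g =>
    mem_centralizer_singleton_iff.1 (e ▸ mem_top g))
  simp only [call, List.mem_filter, Bool.and_eq_true, beq_iff_eq, card_div_cc, Nat.ble_eq]
  exact ⟨mem_dvN hN (cc_dvd s), Nat.mod_eq_zero_of_dvd (four_dvd_cc (four_dvd hna) hs),
    U45.le_idx hna hb h11 h2⟩

theorem KB.mem_cands (h : KB p e X x T a) (hp : p.Prime) {b : ℕ} (hb : b.Prime)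
    (h11 : b ∣ Nat.card G) : (e, X) ∈ cands (Nat.card G) p b := by
  obtain ⟨H, h1, h2, h3⟩ := h.idx
  have h0 : 0 < Nat.card G := Nat.card_pos
  have h4 : Nat.card G = p * e * H.index * X := by rw [← h3]; ring
  have h5 : 0 < p * e * H.index := Nat.pos_of_mul_pos_right (h4 ▸ h0)
  have h6 : e ≠ 0 := by rintro rfl; simp at h5
  have h7 := h.ne
  have h8 := Nat.le_of_dvd (by have := hp.two_le; omega) h.dvd
  simp only [cands, List.mem_flatMap]
  refine ⟨H.index, mem_dvN hN H.index_dvd_card, ?_⟩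
  rw [if_pos (by simp [h2, U45.le_idx hna hb h11 h1])]
  simp only [List.mem_map, List.mem_filter, List.mem_range, Bool.and_eq_true, Nat.ble_eq, beq_iff_eq]
  refine ⟨e, ⟨by have := hp.two_le; omega, by omega, Nat.mod_eq_zero_of_dvd h.dvd,
    Nat.mod_eq_zero_of_dvd ⟨X, h4⟩⟩, ?_⟩
  rw [h4, Nat.mul_div_cancel_left _ h5]

omit hna hN [IsSimpleGroup G] in
theorem KB.not_dvd (h : KB p e X x T a) (hp : p.Prime) (hsq : ¬ p * p ∣ Nat.card G) {q : ℕ}
    (hq : q.Prime) (h2 : p ≠ q) {s : G} (hs : orderOf s = q) (e1 : ¬ q ∣ X) : ¬ p ∣ cc s := fun e2 => by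
  obtain ⟨y, hy, hc⟩ := exists_of_prime_dvd_cc hp e2
  have := orderOf_dvd_cc hc.symm
  rw [hs, cc_eq_of_ord hp hsq h.ord hy, h.ccx, hq.dvd_mul] at this
  exact this.elim (fun e => h2 ((Nat.prime_dvd_prime_iff_eq hq hp).1 e).symm) e1

theorem KB.surv (h : KB p e X x T a) (hp : p.Prime) (h2 : p ≠ 2) (hsq : ¬ p * p ∣ Nat.card G) {b : ℕ}
    (hb : b.Prime) (h11 : b ∣ Nat.card G) : ∃ s : G, orderOf s = 2 ∧ ∃ r,
      (cc s, r) ∈ cs (Nat.card G) p b e X ∧
      Col (Nat.card G) p e X (cc s) r T (fun χ => deg χ.1) a fun χ => iv χ.1 s := by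
  have h4 : ∀ s : G, orderOf s = 2 → X % 2 ≠ 0 → cc s % p ≠ 0 := fun s hs e1 e2 =>
    h.not_dvd hp hsq Nat.prime_two h2 hs (by omega) (Nat.dvd_of_mod_eq_zero e2)
  obtain ⟨s, hs, h4, h5⟩ : ∃ s : G, orderOf s = 2 ∧ (X % 2 = 1 ∧ e % 2 = 0 → s * x * s⁻¹ = x⁻¹) ∧
      if X % 2 = 0 then cc s % p = 0 else cc s % p ≠ 0 ∧
        (e % 2 = 0 ∨ Nat.card G / cc s % 2 = 1) := by
    by_cases m1 : X % 2 = 0
    · obtain ⟨s, hs, hc⟩ := exists_of_prime_dvd_cc Nat.prime_two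
        (h.ccx ▸ (Nat.dvd_of_mod_eq_zero m1).mul_left p)
      exact ⟨s, hs, by omega, by
        rw [if_pos m1]; exact Nat.mod_eq_zero_of_dvd (h.ord ▸ orderOf_dvd_cc hc.symm)⟩
    by_cases m2 : e % 2 = 0
    · obtain ⟨s, hs, h5⟩ := h.inv (by omega) (by omega)
      exact ⟨s, hs, fun _ => h5, by rw [if_neg m1]; exact ⟨h4 s hs m1, Or.inl m2⟩⟩
    · obtain ⟨s, hs, h5⟩ := exists_two_central ((by norm_num : 2 ∣ 4).trans (four_dvd hna))
      exact ⟨s, hs, fun e => absurd e.2 m2, by rw [if_neg m1]; exact ⟨h4 s hs m1, Or.inr (by omega)⟩⟩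
  obtain ⟨r, r1, r2, r3, -⟩ := h.st2 s hs
  refine ⟨s, hs, r, ?_, r3⟩
  simp only [cs, List.mem_flatMap, List.mem_filter, List.mem_append]
  refine ⟨cc s, ⟨mem_call hna hN hb h11 hs, by split_ifs at h5 ⊢ <;> simpa using h5⟩, ?_⟩
  cases r
  · exact Or.inl (by rw [if_neg fun e => by simpa using r1 (h4 e)]; simp)
  · exact Or.inr (by rw [if_neg fun e => by simpa using r2 e]; simp)

theorem KB.not_kill (h : KB p e X x T a) (hp : p.Prime) (h2 : p ≠ 2) (hsq : ¬ p * p ∣ Nat.card G)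
    {b : ℕ} (hb : b.Prime) (h11 : b ∣ Nat.card G) {W : ℕ → Bool} (hW : ∀ χ ∈ T, W (deg χ.1) = true)
    {F : List (ℕ × ℤ) → Bool} (hF : ∀ l : List (ℕ × ℤ), (l : Multiset (ℕ × ℤ)) = rws T a → F l = true)
    {P : ℕ → Bool} (hP : ∀ s : G, orderOf s = 2 → P (cc s) = true)
    (hk : kill (Nat.card G) p b e X W F P = true) : False := by
  obtain ⟨s, hs, r, h3, h4⟩ := h.surv hna hN hp h2 hsq hb h11
  rw [kill, fC_eq, h.k1 hna hN hW fun l hl => ?_] at hk
  · cases hk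
  rw [hF l hl, Bool.true_and, K2, List.any_eq_true]
  exact ⟨(cc s, r), List.mem_filter.2 ⟨h3, hP s hs⟩, h4.vs' hl fun _ _ => rfl⟩

theorem KB.of_killAll (h : KB p e X x T a) (hp : p.Prime) (h2 : p ≠ 2) (hsq : ¬ p * p ∣ Nat.card G)
    {b : ℕ} (hb : b.Prime) (h11 : b ∣ Nat.card G) {W : ℕ → Bool} (hW : ∀ χ ∈ T, W (deg χ.1) = true)
    {F : ℕ → List (ℕ × ℤ) → Bool}
    (hF : ∀ l : List (ℕ × ℤ), (l : Multiset (ℕ × ℤ)) = rws T a → F X l = true)
    {P : ℕ → Bool} (hP : ∀ s : G, orderOf s = 2 → P (cc s) = true) {S : ℕ × ℕ → Bool}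
    (hk : killAll (Nat.card G) p b S W F P = true) : S (e, X) = true := by
  simp only [killAll, List.all_eq_true, Bool.or_eq_true, fN_eq] at hk
  exact (hk _ (h.mem_cands hna hN hp hb h11)).resolve_right
    (h.not_kill hna hN hp h2 hsq hb h11 hW hF hP)

omit hna hN [IsSimpleGroup G] in
theorem exists_of_notIn {L : List (List (ℕ × ℤ))} {M : Multiset (ℕ × ℤ)}
    (h : ¬ ∀ l : List (ℕ × ℤ), (l : Multiset (ℕ × ℤ)) = M → notIn L l = true) :
    ∃ D ∈ L, (D : Multiset (ℕ × ℤ)) = M := by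
  push Not at h
  obtain ⟨l, h1, h2⟩ := h
  simp only [notIn, ne_eq, Bool.not_eq_true', Bool.not_eq_false, List.any_eq_true,
    List.isPerm_iff] at h2
  obtain ⟨D, h3, h4⟩ := h2
  exact ⟨D, h3, (Multiset.coe_eq_coe.2 h4).symm.trans h1⟩

end Cfsg.Agent.MK
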