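import Cfsg.Agent.MK.Cand

/-!
# Split kill tables and cross tests between two blocks
-/

set_option autoImplicit false
set_option linter.unusedSectionVars false

namespace Cfsg.Agent.MK

open Finset Subgroup Cfsg.Agent.Char Cfsg.Agent.Zass Cfsg.Agent.Local Cfsg.Agent.M11 Cfsg.Agent.Small

/-- `M12R.B` with the exceptional degree satisfying `Q` -/
def Bx (Q : ℕ → Bool) (dl : List ℕ) (vl : ℕ → ℤ → List ℤ) (N p e n q : ℕ)
    (fin : List Row → ℕ → Bool) : Bool :=
  fR (M12R.rows dl vl p e n) fun l =>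
  fN ((p - 1) / e) fun t => dl.any fun d : ℕ => Q d && (Nat.ble (t * (d * d)) (N - 1) &&
    ([1, -1] : List ℤ).any fun ε => (0 :: aL).any fun b =>
      ((d : ℤ) + e * ε - b) % p == 0 &&
      fN ((t - 1) * (b.natAbs * b.natAbs) + (b + ε).natAbs * (b + ε).natAbs) fun nb =>
      Nat.ble nb e && (decide (0 ≤ (d : ℤ) + (p - 1) * b + e * ε) &&
      (vl d (d + (p - 1) * b + e * ε)).any fun v =>
        Nat.ble (t * (v.natAbs * v.natAbs)) q &&
        M12R.go fin e l (e - nb) (N - 1 - t * (d * d))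
          (q - t * (v.natAbs * v.natAbs)) (1 + (t * b + ε) * d) (1 + (t * b + ε) * v)
          ((d, b + ε, v) :: List.replicate (t - 1) (d, b, v))))

theorem exists_Bx (g : ℕ → ℕ) {dl : List ℕ} {vl : ℕ → ℤ → List ℤ} {N p e n q : ℕ}
    {fin : List Row → ℕ → Bool} (he : e + 1 ≠ p) (h : M12R.B dl vl N p e n q fin = true) :
    ∃ d, Bx (fun x => g x == g d) dl vl N p e n q fin = true := by
  rw [M12R.B, fR_eq, if_neg he, fN_eq, List.any_eq_true] at h
  obtain ⟨d, h1, h2⟩ := h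
  refine ⟨d, ?_⟩
  rw [Bx, fR_eq, fN_eq, List.any_eq_true]
  exact ⟨d, h1, by rw [beq_self_eq_true, Bool.true_and]; exact h2⟩

def killx (Q : ℕ → Bool) (N p b e X : ℕ) (W : ℕ → Bool) (F : List (ℕ × ℤ) → Bool) (P : ℕ → Bool) :
    Bool :=
  fC ((cs N p b e X).filter fun c => P c.1) fun C => !fL (dgl N p X W) fun dl =>
    Bx Q dl (fun d _ => [(d : ℤ)]) N p e (N / (p * X)) (N - 1) fun l r =>
      (X != 1 || r % (p * p) == 0) && (F (prj l) && K2 N p e X C (prj l))

theorem kill_of_killx (g : ℕ → ℕ) (m : ℕ) (hg : ∀ d, g d < m) {N p b e X : ℕ} {W : ℕ → Bool}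
    {F : List (ℕ × ℤ) → Bool} {P : ℕ → Bool} (he : e + 1 ≠ p)
    (h : ∀ i < m, killx (fun x => g x == i) N p b e X W F P = true) : kill N p b e X W F P = true := by
  rw [kill, fC_eq, Bool.not_eq_true', ← Bool.not_eq_true, K1, fL_eq]
  intro h1
  obtain ⟨d, h2⟩ := exists_Bx g he h1
  have := h _ (hg d)
  rw [killx, fC_eq, fL_eq, h2] at this
  cases this

/-- the centraliser orders of involutions allowed by the rows `D` lie in `A` -/
def ckA (N p b e X : ℕ) (D : List (ℕ × ℤ)) (P : ℕ → Bool) (A : List ℕ) : Bool :=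
  (call N b).all fun c => fN c fun c => (X % 2 == 1 && c % p == 0) || (!P c || (A.contains c ||
    !VS N p e X c false (srt N c D) (fun _ => true) &&
      (e % 2 == 1 || !VS N p e X c true (srt N c D) fun _ => true)))

/-- the test of the block for `q` against the rows `D` of a block for `p` with `X = 1` -/
def ck (N p q b : ℕ) (D : List (ℕ × ℤ)) (A : List ℕ) (L : List (List (ℕ × ℤ))) : Bool :=
  killAll N q b (fun c => c.2 % p == 0) (fun d => d % p == 0 || D.any fun y => y.1 == d)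
    (fun X l => X != 1 || ((D.all fun y => y.1 % q == 0 || l.any fun z => z.1 == y.1) && notIn L l))
    A.contains

variable {G : Type*} [Group G] [Finite G] {p e X : ℕ} {x : G} {T : Finset (IrrCharacter G)}
  {a : IrrCharacter G → ℤ}

theorem mem_rws {D : List (ℕ × ℤ)} (hD : (D : Multiset (ℕ × ℤ)) = rws T a) {y : ℕ × ℤ} :
    y ∈ D ↔ ∃ χ ∈ T, (deg χ.1, a χ) = y := by
  rw [← Multiset.mem_coe, hD, rws, Multiset.mem_map]
  rfl

theorem sum_rws {D : List (ℕ × ℤ)} (hD : (D : Multiset (ℕ × ℤ)) = rws T a) (f : ℕ → ℕ) :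
    (D.map fun y => f y.1).sum = ∑ χ ∈ T, f (deg χ.1) := by
  rw [← Multiset.sum_coe, ← Multiset.map_coe, hD, rws, Multiset.map_map]
  rfl

theorem KB.degs (h : KB p e 1 x T a) {D : List (ℕ × ℤ)} (hD : (D : Multiset (ℕ × ℤ)) = rws T a)
    (χ : IrrCharacter G) (h1 : χ.1 ≠ 1) : (deg χ.1 % p == 0 || D.any fun y => y.1 == deg χ.1) = true := by
  simp only [Bool.or_eq_true, beq_iff_eq, List.any_eq_true]
  exact or_iff_not_imp_left.2 fun h2 => ⟨_, (mem_rws hD).2
    ⟨χ, h.mem rfl χ h1 fun h3 => h2 (Nat.mod_eq_zero_of_dvd h3), rfl⟩, rfl⟩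

variable [IsSimpleGroup G] (hna : ¬ IsMulCommutative G) (hN : Nat.card G ∣ 244823040)
include hna hN

theorem KB.of_ckA (h : KB p e X x T a) (hp : p.Prime) (h2 : p ≠ 2) (hsq : ¬ p * p ∣ Nat.card G)
    {b : ℕ} (hb : b.Prime) (h11 : b ∣ Nat.card G) {D : List (ℕ × ℤ)}
    (hD : (D : Multiset (ℕ × ℤ)) = rws T a) {P : ℕ → Bool}
    (hP : ∀ s : G, orderOf s = 2 → P (cc s) = true) {A : List ℕ}
    (hk : ckA (Nat.card G) p b e X D P A = true) (s : G) (hs : orderOf s = 2) :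
    A.contains (cc s) = true := by
  have h3 := List.all_eq_true.1 hk _ (mem_call hna hN hb h11 hs)
  obtain ⟨r, -, r2, r3, -⟩ := h.st2 s hs
  have h4 := r3.vs' hD (fin := fun _ => true) fun _ _ => rfl
  simp only [fN_eq, hP s hs, Bool.or_eq_true, Bool.and_eq_true, beq_iff_eq, Bool.not_true,
    Bool.false_eq_true, false_or, Bool.not_eq_true'] at h3
  rcases h3 with h3 | h3 | h3
  · exact absurd (Nat.dvd_of_mod_eq_zero h3.2)
      (h.not_dvd hp hsq Nat.prime_two h2 hs (by omega))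
  · exact h3
  cases r
  · rw [h4] at h3; cases h3.1
  · rcases h3.2 with h5 | h5
    · cases r2 h5
    · rw [h4] at h5; cases h5

theorem KB.of_ck (h : KB p e 1 x T a) (hp : p.Prime) (hsq : ¬ p * p ∣ Nat.card G) {q e' X : ℕ} {y : G}
    {U : Finset (IrrCharacter G)} {a' : IrrCharacter G → ℤ} (h' : KB q e' X y U a') (hq : q.Prime)
    (h2 : q ≠ 2) (hpq : p ≠ q) (hsq' : ¬ q * q ∣ Nat.card G) {b : ℕ} (hb : b.Prime)
    (h11 : b ∣ Nat.card G) {D : List (ℕ × ℤ)} (hD : (D : Multiset (ℕ × ℤ)) = rws T a) {A : List ℕ}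
    (hA : ∀ s : G, orderOf s = 2 → A.contains (cc s) = true) {L : List (List (ℕ × ℤ))}
    (hk : ck (Nat.card G) p q b D A L = true) :
    X = 1 ∧ ∃ D' ∈ L, (D' : Multiset (ℕ × ℤ)) = rws U a' := by
  by_contra hn
  have h3 := h'.of_killAll hna hN hq h2 hsq' hb h11 (fun χ hχ => h.degs hD χ (h'.ne1 χ hχ))
    (fun l hl => ?_) hA hk
  · exact h.not_dvd hp hsq hq hpq h'.ord hq.not_dvd_one
      (h'.ccx ▸ (Nat.dvd_of_mod_eq_zero (by simpa using h3)).mul_left q)
  by_cases h4 : X = 1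
  · subst h4
    have h5 : notIn L l = true := by
      by_contra h5
      exact hn ⟨rfl, exists_of_notIn fun h6 => h5 (h6 l hl)⟩
    rw [h5, Bool.and_true, bne_self_eq_false, Bool.false_or, List.all_eq_true]
    intro z hz
    obtain ⟨χ, h6, rfl⟩ := (mem_rws hD).1 hz
    exact h'.degs hl χ (h.ne1 χ h6)
  · rw [bne_iff_ne.2 h4, Bool.true_or]

end Cfsg.Agent.MK
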