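import Cfsg.Agent.MK.GeoA
import Cfsg.Agent.F23.Code
import Cfsg.Agent.Mat.Golay2
import Cfsg.Agent.Perm1.ItoFin

/-! Simple groups of the orders of `M23`, `M24` with a subgroup of index 23, 24. -/

set_option autoImplicit false
set_option linter.unusedSectionVars false

namespace Cfsg.Agent.MK

open Subgroup MulAction Cfsg.Agent.Local Cfsg.Agent.F11 Cfsg.Agent.M11 Cfsg.Agent.PrimeDeg Cfsg.Agent.Perm1
open scoped Pointwise

variable {G Ω : Type*} [Group G] [Finite G] [MulAction G Ω] [Finite Ω]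

theorem exists_lab (hΩ : Nat.card Ω = 24) {x : G} (hx : orderOf x = 23) {p a : Ω} (hp : x • p = p)
    (ha : x • a ≠ a) : ∃ φ : GolayPt ≃ Ω, φ none = p ∧ ∀ q, φ (q.map (· + 1)) = x • φ q := by
  have h23 : Nat.Prime 23 := by decide
  have h1 : ∀ n : ℕ, x ^ n • p = p := fun n => mem_stabilizer_iff.1 (pow_mem (mem_stabilizer_iff.2 hp) n)
  have h2 : ∀ n : ℕ, x ^ n • a = a → 23 ∣ n := fun n e => by_contra fun hn => ha (by
    obtain ⟨m, hm⟩ := exists_pow_eq_self_of_coprime (x := x) (n := n)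
      (by rw [hx]; exact ((Nat.Prime.coprime_iff_not_dvd h23).2 hn).symm)
    rw [← hm]
    exact mem_stabilizer_iff.1 (pow_mem (mem_stabilizer_iff.2 e) m))
  have h3 : ∀ i j : ZMod 23, i.val ≤ j.val → x ^ i.val • a = x ^ j.val • a → i = j := fun i j hij e => by
    obtain ⟨k, hk⟩ := Nat.exists_eq_add_of_le hij
    rw [hk, pow_add, mul_smul, smul_left_cancel_iff] at e
    have := Nat.eq_zero_of_dvd_of_lt (h2 k e.symm) (by have := j.val_lt; omega)
    exact ZMod.val_injective _ (by omega)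
  have h4 : ∀ n : ℕ, x ^ n • a ≠ p := fun n e => ha (by
    rw [MulAction.injective (x ^ n) (e.trans (h1 n).symm : x ^ n • a = x ^ n • p), hp])
  refine ⟨Equiv.ofBijective (fun q => q.elim p fun j => x ^ j.val • a)
    (Function.Injective.bijective_of_nat_card_le ?_ (by rw [hΩ]; simp)), rfl, ?_⟩
  · rintro (_ | i) (_ | j) e
    · rfl
    · exact absurd e.symm (h4 _)
    · exact absurd e (h4 _)
    · rcases le_total i.val j.val with h | h
      exacts [congrArg some (h3 i j h e), congrArg some (h3 j i h e.symm).symm]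
  · rintro (_ | i)
    · exact hp.symm
    · show x ^ (i + 1).val • a = x • x ^ i.val • a
      have := pow_mod_orderOf x (i.val + 1)
      rw [hx] at this
      rw [← mul_smul, ← pow_succ', ZMod.val_add, ← this]
      rfl

theorem four (hG : Nat.card G = 10200960) (hΩ : Nat.card Ω = 23) [FaithfulSMul G Ω] [IsPretransitive G Ω] :
    IsMultiplyPretransitive G Ω 4 := by
  classical
  have := Fintype.ofFinite Ω
  have h23 : Nat.Prime 23 := by decide
  have := Fact.mk h23
  have h11 : Nat.Prime 11 := by decide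
  have := Fact.mk h11
  obtain ⟨P⟩ : Nonempty (Sylow 23 G) := inferInstance
  obtain ⟨_, htr, hA, -⟩ := exists_field h23 hΩ P
  have hF : Fintype.card Ω = 23 := by rw [← hΩ, Nat.card_eq_fintype_card]
  have h1 := card_sylow_modEq_one 23 G
  have h2 := (Aff G Ω).card_mul_index
  rw [P.card_eq_index_normalizer, show normalizer (P : Set G) = Aff G Ω from hA] at h1
  have h3 := card_Aff htr
  have hM : Nat.card (Mlt G Ω) = 11 := by
    have h4 := card_Mlt_dvd (G := G) hF
    have h5 := Nat.le_of_dvd (by decide) h4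
    rw [h3, hΩ, hG] at h2
    unfold Nat.ModEq at h1
    generalize Nat.card (Mlt G Ω) = m at *
    interval_cases m <;> omega
  have := isCyclic_of_prime_card hM
  obtain ⟨⟨k, x, hx⟩, hk⟩ := IsCyclic.exists_ofOrder_eq_natCard (α := Mlt G Ω)
  obtain ⟨y, hy⟩ := htr 1
  have h : PQ G Ω 23 11 y x k := by
    refine ⟨h23, h11, hF, hy, hx, ?_, fun s hs => ?_, fun e => ?_⟩
    · rw [orderOf_units, ← hM, ← hk, ← orderOf_coe]
    · have hs0 : s ≠ 0 := by
        rintro rfl
        obtain ⟨g, hg⟩ := hs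
        exact zero_ne_one (MulAction.injective g (by simp [hg]) : (0 : Ω) = 1)
      have h1 : (⟨Units.mk0 s hs0, hs⟩ : Mlt G Ω) ∈ Submonoid.powers (⟨k, x, hx⟩ : Mlt G Ω) := by
        rw [mem_powers_iff_mem_zpowers, eq_top_of_card_eq (zpowers _) (by rw [Nat.card_zpowers, hk])]
        exact mem_top _
      obtain ⟨j, hj⟩ := h1
      exact ⟨j, by simpa using (congrArg (fun u : Mlt G Ω => ((u : Ωˣ) : Ω)) hj).symm⟩
    · rw [show Aff G Ω = ⊤ from eq_top_iff.2 fun g _ => e g, card_top, hG, hΩ, hM] at h3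
      omega
  exact (h.main rfl).resolve_right (by omega)

theorem exists_x (h23 : 23 ∣ Nat.card G) (fai : ∀ g : G, (∀ a : Ω, g • a = a) → g = 1) :
    ∃ (x : G) (a : Ω), orderOf x = 23 ∧ x • a ≠ a := by
  have : Fact (Nat.Prime 23) := ⟨by decide⟩
  obtain ⟨x, hx⟩ := exists_prime_orderOf_dvd_card' 23 h23
  obtain ⟨a, ha⟩ := not_forall.1 fun e => U.ne_one_of_ord hx (by decide) (fai x e)
  exact ⟨x, a, hx, ha⟩

theorem mkW (hG : Nat.card G = 10200960) (hΩ : Nat.card Ω = 24) (fai : ∀ g : G, (∀ a : Ω, g • a = a) → g = 1)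
    {p : Ω} (fix : ∀ g : G, g • p = p) : W G p := by
  let S : SubMulAction G Ω := ⟨{p}ᶜ, fun g a ha e => ha (MulAction.injective g (e.trans (fix g).symm))⟩
  obtain ⟨x, a, hx, ha⟩ := exists_x (by rw [hG]; decide) fai
  obtain ⟨φ, h1, h2⟩ := exists_lab hΩ hx (fix x) ha
  have h3 : ∀ (n : ℕ) (i : ZMod 23), φ (some (i + n)) = x ^ n • φ (some i) := fun n i => by
    induction n with
    | zero => simp
    | succ n ih => rw [pow_succ', mul_smul, ← ih, ← h2]; simp [add_assoc]
  have : FaithfulSMul G S := ⟨fun {g k} e => inv_mul_eq_one.1 (fai _ fun a => by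
    rcases eq_or_ne a p with rfl | ha
    · exact fix _
    · rw [mul_smul, inv_smul_eq_iff]
      exact (congrArg Subtype.val (e ⟨a, ha⟩)).symm)⟩
  have : IsPretransitive G S := ⟨fun b c => by
    obtain ⟨_ | i, hi⟩ := φ.surjective b
    · exact absurd (hi.symm.trans h1) b.2
    obtain ⟨_ | j, hj⟩ := φ.surjective c
    · exact absurd (hj.symm.trans h1) c.2
    exact ⟨x ^ (j - i).val, Subtype.ext (show x ^ (j - i).val • (b : Ω) = c by rw [← hi, ← hj, ← h3]; simp)⟩⟩
  have h4 := isMultiplyPretransitive_iff.1 (four (Ω := S) hG (by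
    have := Set.ncard_add_ncard_compl ({p} : Set Ω)
    rw [Set.ncard_singleton, hΩ, ← Nat.card_coe_set_eq] at this
    exact (by omega : Nat.card ({p}ᶜ : Set Ω) = 23)))
  refine ⟨hG, hΩ, fai, fix, fun f hf f' hf' => ?_⟩
  obtain ⟨g, hg⟩ := h4 ⟨fun i => ⟨f i, hf.2 i⟩, fun i j e => hf.1 (congrArg Subtype.val e)⟩
    ⟨fun i => ⟨f' i, hf'.2 i⟩, fun i j e => hf'.1 (congrArg Subtype.val e)⟩
  exact ⟨g, funext fun i => congrArg Subtype.val (DFunLike.congr_fun hg i)⟩

open Classical in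
/-- The word of a set of points. -/
noncomputable def wd (φ : GolayPt ≃ Ω) (O : Set Ω) : GolayPt → ZMod 2 := fun q => if φ q ∈ O then 1 else 0

/-- The weight of a word. -/
def wgt (w : GolayPt → ZMod 2) : ℕ := ∑ q, (w q).val

theorem wgt_eq (w : GolayPt → ZMod 2) : wgt w = (support₂ w).card := by
  rw [support₂, Finset.card_filter]
  refine Finset.sum_congr rfl fun q _ => ?_
  generalize w q = a
  revert a
  decide

theorem wgt_wd (φ : GolayPt ≃ Ω) (O : Set Ω) : wgt (wd φ O) = O.ncard := by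
  rw [wgt_eq, ← Set.ncard_coe_finset, ← Set.ncard_image_of_injective _ φ.injective]
  congr 1
  ext a
  obtain ⟨q, rfl⟩ := φ.surjective a
  rw [φ.injective.mem_set_image, Finset.mem_coe, support₂, Finset.mem_filter, wd]
  by_cases h : φ q ∈ O <;> simp [h]

theorem wd_mul (φ : GolayPt ≃ Ω) (O O' : Set Ω) : wd φ O * wd φ O' = wd φ (O ∩ O') := by
  funext q
  by_cases h : φ q ∈ O <;> by_cases h' : φ q ∈ O' <;> simp [wd, h, h']

theorem wgt_add (u v : GolayPt → ZMod 2) : wgt (u + v) + 2 * wgt (u * v) = wgt u + wgt v := by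
  simp only [wgt, Finset.mul_sum, ← Finset.sum_add_distrib, Pi.add_apply, Pi.mul_apply]
  refine Finset.sum_congr rfl fun q _ => ?_
  generalize u q = a
  generalize v q = b
  revert a b
  decide

/-- The permutation of the coordinates induced by a group element. -/
def rho (φ : GolayPt ≃ Ω) : G →* Equiv.Perm GolayPt :=
  φ.symm.permCongrHom.toMonoidHom.comp (toPermHom G Ω)

theorem rho_apply (φ : GolayPt ≃ Ω) (g : G) (q : GolayPt) : rho φ g q = φ.symm (g • φ q) := rfl

theorem wd_rho (φ : GolayPt ≃ Ω) (g : G) (O : Set Ω) : wd φ O ∘ (rho φ g).symm = wd φ (g • O) := by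
  funext q
  rw [← Equiv.Perm.inv_def, ← map_inv]
  rw [Function.comp, wd, wd, rho_apply, Equiv.apply_symm_apply, Set.mem_smul_set_iff_inv_smul_mem]

variable (G) in
/-- The code of the octads. -/
def cod (φ : GolayPt ≃ Ω) : AddSubgroup (GolayPt → ZMod 2) :=
  AddSubgroup.closure {w | ∃ O, (Oc G O ∨ O = Set.univ) ∧ w = wd φ O}

theorem wd_univ (φ : GolayPt ≃ Ω) : wd φ Set.univ = 1 := by funext q; simp [wd]

theorem cod_rho {φ : GolayPt ≃ Ω} (g : G) {w : GolayPt → ZMod 2} (hw : w ∈ cod G φ) :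
    w ∘ (rho φ g).symm ∈ cod G φ :=
  (AddSubgroup.closure_le (K := (cod G φ).comap (LinearMap.funLeft (ZMod 2) (ZMod 2) (rho φ g).symm).toAddMonoidHom)).2
    (by
      rintro _ ⟨O, hO, rfl⟩
      exact AddSubgroup.subset_closure ⟨g • O, hO.imp (·.smul g) fun e => by rw [e, Set.smul_set_univ],
        wd_rho φ g O⟩) hw

theorem cod_shift {φ : GolayPt ≃ Ω} {x : G} (hx : ∀ q, φ (q.map (· + 1)) = x • φ q) :
    ∀ w ∈ cod G φ, (fun q : GolayPt => w (q.map (· + 1))) ∈ cod G φ := fun w hw => by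
  convert cod_rho x⁻¹ hw using 2 with q
  rw [← Equiv.Perm.inv_def, ← map_inv, inv_inv, Function.comp, rho_apply, ← hx, Equiv.symm_apply_apply]

theorem cod_de (hΩ : Nat.card Ω = 24) (h8 : ∀ O : Set Ω, Oc G O → O.ncard = 8)
    (he : ∀ O O' : Set Ω, Oc G O → Oc G O' → (O ∩ O').ncard % 2 = 0) (φ : GolayPt ≃ Ω) :
    ∀ w ∈ cod G φ, 4 ∣ (support₂ w).card := fun w hw => by
  have h1 : ∀ O : Set Ω, Oc G O ∨ O = Set.univ → O.ncard % 4 = 0 := by
    rintro O (h | rfl)
    · rw [h8 O h]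
    · rw [Set.ncard_univ, hΩ]
  have h2 : ∀ O O' : Set Ω, Oc G O ∨ O = Set.univ → Oc G O' ∨ O' = Set.univ → (O ∩ O').ncard % 2 = 0 := by
    rintro O O' (h | rfl) h'
    · rcases h' with h' | rfl
      · exact he O O' h h'
      · rw [Set.inter_univ, h8 O h]
    · have := h1 O' h'
      rw [Set.univ_inter]
      omega
  have key : ∀ O y, Oc G O ∨ O = Set.univ → (wgt y % 4 = 0 ∧ ∀ O', Oc G O' ∨ O' = Set.univ →
      wgt (wd φ O' * y) % 2 = 0) → wgt (wd φ O + y) % 4 = 0 ∧ ∀ O', Oc G O' ∨ O' = Set.univ →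
      wgt (wd φ O' * (wd φ O + y)) % 2 = 0 := fun O y hO hy => by
    refine ⟨?_, fun O' hO' => ?_⟩
    · have := wgt_add (wd φ O) y
      have := hy.1
      have := hy.2 O hO
      have := h1 O hO
      rw [wgt_wd] at *
      omega
    · have := wgt_add (wd φ O' * wd φ O) (wd φ O' * y)
      have := hy.2 O' hO'
      have := h2 O' O hO' hO
      rw [mul_add]
      rw [wd_mul, wgt_wd] at *
      omega
  have : wgt w % 4 = 0 ∧ ∀ O', Oc G O' ∨ O' = Set.univ → wgt (wd φ O' * w) % 2 = 0 := by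
    induction hw using AddSubgroup.closure_induction_left with
    | zero => simp [wgt]
    | add_left x hx y _ ih => obtain ⟨O, hO, rfl⟩ := hx; exact key O y hO ih
    | neg_add_cancel x hx y _ ih => obtain ⟨O, hO, rfl⟩ := hx; rw [CharTwo.neg_eq]; exact key O y hO ih
  rw [← wgt_eq]
  omega

theorem rho_mem {φ : GolayPt ≃ Ω} {x : G} (hx : ∀ q, φ (q.map (· + 1)) = x • φ q) {O : Set Ω} (hO : Oc G O)
    (h8 : O.ncard = 8) (hg : ∀ O, Oc G O → wd φ O ∈ golayCode) (g : G) : rho φ g ∈ M24 := by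
  have h0 : (1 : GolayPt → ZMod 2) ∈ golayCode := Submodule.subset_span (Or.inr rfl)
  have h1 : ∀ w ∈ cod G φ, w ∈ golayCode := (AddSubgroup.closure_le (K := golayCode.toAddSubgroup)).2 (by
    rintro _ ⟨O, h | rfl, rfl⟩
    · exact hg O h
    · rw [wd_univ]; exact h0)
  have h2 : (1 : GolayPt → ZMod 2) ∈ cod G φ := AddSubgroup.subset_closure ⟨_, Or.inr rfl, (wd_univ φ).symm⟩
  have h3 : wd φ O ∈ cod G φ := AddSubgroup.subset_closure ⟨_, Or.inl hO, rfl⟩
  have h4 := wgt_wd φ O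
  have h5 : wOf 340831 ∈ cod G φ := by
    rcases (by decide : ∀ a : ZMod 2, a = 0 ∨ a + 1 = 0) (wd φ O none) with e | e
    · refine F23.Cd.qr_mem (cod_shift hx) h3 (h1 _ h3) e fun e => ?_
      rw [e, h8] at h4
      simp [wgt] at h4
    · refine F23.Cd.qr_mem (cod_shift hx) (add_mem h3 h2) (h1 _ (add_mem h3 h2)) e fun e => ?_
      rw [eq_neg_of_add_eq_zero_left e, h8] at h4
      revert h4
      decide
  rw [mem_stabilizer_set_iff_smul_set_subset (Set.toFinite _)]
  rintro _ ⟨_, ⟨w, hw, rfl⟩, rfl⟩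
  refine ⟨w ∘ (rho φ g).symm, h1 _ (cod_rho g ?_), support_comp _ w⟩
  induction hw using Submodule.span_induction with
  | mem w hw =>
    rcases hw with ⟨s, rfl⟩ | rfl
    · convert F23.Cd.shift_mem (cod_shift hx) h5 (-s) using 2 with q
      cases q with
      | none => exact (by decide +kernel : (0 : ZMod 2) = wOf 340831 none)
      | some y => rw [F23.Cd.qr_q, sub_eq_add_neg]; rfl
    · exact h2
  | zero => exact zero_mem _
  | add u v _ _ hu hv => exact add_mem hu hv
  | smul a u _ hu =>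
    rcases (by decide : ∀ a : ZMod 2, a = 0 ∨ a = 1) a with rfl | rfl
    · rw [zero_smul]; exact zero_mem _
    · rwa [one_smul]

theorem exists_rho (hΩ : Nat.card Ω = 24) (fai : ∀ g : G, (∀ a : Ω, g • a = a) → g = 1) (h23 : 23 ∣ Nat.card G)
    (h8 : ∀ O : Set Ω, Oc G O → O.ncard = 8) (he : ∀ O O' : Set Ω, Oc G O → Oc G O' → (O ∩ O').ncard % 2 = 0)
    {O : Set Ω} (hO : Oc G O) : ∃ φ : GolayPt ≃ Ω, (∀ g : G, rho φ g ∈ M24) ∧
      ∀ p : Ω, (∀ g : G, g • p = p) → φ none = p := by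
  obtain ⟨x, a, hx, ha⟩ := exists_x h23 fai
  have h1 := U.fix_mod_elt (p := 23) (by decide) (g := x) (k := 1) (by rw [pow_one, ← hx, pow_orderOf_eq_one])
    (Set.finite_univ (α := Ω)) fun _ _ => Set.mem_univ _
  rw [Set.ncard_univ, hΩ] at h1
  obtain ⟨p, -, hp⟩ := Set.nonempty_of_ncard_ne_zero (s := {a : Ω | a ∈ Set.univ ∧ x • a = a}) (by omega)
  obtain ⟨φ, h2, h3⟩ := exists_lab hΩ hx hp ha
  have h4 : ∀ p : Ω, (∀ g : G, g • p = p) → φ none = p := fun p hp => by
    obtain ⟨_ | i, rfl⟩ := φ.surjective p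
    · rfl
    · have := φ.injective ((h3 (some i)).trans (hp x))
      simp at this
      exact absurd this (by decide)
  rcases F23.code (cod G φ) (cod_shift h3) (cod_de hΩ h8 he φ) with h | h
  · exact ⟨φ, rho_mem h3 hO (h8 O hO) fun O hO => h _ (AddSubgroup.subset_closure ⟨_, Or.inl hO, rfl⟩), h4⟩
  · refine ⟨(Equiv.optionCongr (Equiv.neg _)).trans φ, rho_mem (x := x⁻¹) (fun q => ?_) hO (h8 O hO) fun O hO =>
      h _ (AddSubgroup.subset_closure ⟨_, Or.inl hO, rfl⟩), h4⟩
    rw [eq_inv_smul_iff, Equiv.trans_apply, Equiv.trans_apply, ← h3]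
    cases q <;> simp

theorem rho_inj (fai : ∀ g : G, (∀ a : Ω, g • a = a) → g = 1) (φ : GolayPt ≃ Ω) :
    Function.Injective (rho φ : G →* _) := (injective_iff_map_eq_one _).2 fun g hg => fai g fun a => by
  have := DFunLike.congr_fun hg (φ.symm a)
  rwa [rho_apply, Equiv.apply_symm_apply, Equiv.Perm.one_apply, φ.symm.injective.eq_iff] at this

theorem fai_of_simple [IsSimpleGroup G] {K : Subgroup G} (hK : K.index ≠ 1) (g : G)
    (hg : ∀ a : G ⧸ K, g • a = a) : g = 1 := by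
  rcases K.normalCore_normal.eq_bot_or_eq_top with e | e
  · rw [← mem_bot, ← e, normalCore_eq_ker]
    exact Equiv.ext hg
  · exact absurd (index_eq_one.2 (eq_top_iff.2 (e.ge.trans K.normalCore_le))) hK

theorem geo23 [IsSimpleGroup G] (hG : Nat.card G = 10200960) {K : Subgroup G} (hK : K.index = 23) :
    Spor.IsoM23 G := by
  have hΩ : Nat.card (Option (G ⧸ K)) = 24 := by rw [Finite.card_option, ← index_eq_card, hK]
  have fai : ∀ g : G, (∀ a : Option (G ⧸ K), g • a = a) → g = 1 := fun g hg =>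
    fai_of_simple (by omega) g fun a => Option.some_injective _ (hg (some a))
  have h := mkW hG hΩ fai (p := none) fun _ => rfl
  obtain ⟨O, hO⟩ := h.oc_ex
  obtain ⟨φ, h1, h2⟩ := exists_rho hΩ fai (by rw [hG]; decide) (fun _ => h.oc_card) (fun _ _ => h.oc_even) hO
  refine ⟨MulEquiv.ofBijective ((rho φ).codRestrict Spor.M23 fun g => ⟨h1 g, ?_⟩)
    (Function.Injective.bijective_of_nat_card_le (fun x y e => rho_inj fai φ (congrArg Subtype.val e)) ?_)⟩
  · show rho φ g none = none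
    rw [rho_apply, h2 none h.fix, h.fix, ← h2 none h.fix, Equiv.symm_apply_apply]
  · rw [hG, ← Mat.card_map_eM]
    exact Mat.card_X23_le

theorem Oc.stab {O : Set Ω} (h : Oc G O) {p : Ω} (hp : p ∈ O) : Oc (stabilizer G p) O := by
  obtain ⟨t, h1, h2, rfl, h3⟩ := h
  exact ⟨⟨t, hp⟩, Subtype.ext h1, fun e => h2 (congrArg Subtype.val e), rfl, h3⟩

theorem geo24 [IsSimpleGroup G] (hG : Nat.card G = 244823040) {K : Subgroup G} (hK : K.index = 24) :
    Spor.IsoM24 G := by
  have hΩ : Nat.card (G ⧸ K) = 24 := by rw [← index_eq_card, hK]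
  have fai := fai_of_simple (K := K) (by omega)
  have h : ∀ p : G ⧸ K, W (stabilizer G p) p := fun p => mkW (by
    have := (stabilizer G p).card_mul_index
    rw [index_stabilizer_of_transitive, hΩ, hG] at this
    omega) hΩ (fun g hg => Subtype.ext (fai g hg)) fun g => g.2
  obtain ⟨O, t, k1, k2, k3, k4⟩ := (h (1 : G)).oc_ex
  obtain ⟨φ, h1, -⟩ := exists_rho hΩ fai (by rw [hG]; decide) (fun O hO => by
      obtain ⟨p, hp⟩ := Set.nonempty_of_ncard_ne_zero (s := O) (by obtain ⟨_, -, -, -, h⟩ := hO; omega)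
      exact (h p).oc_card (hO.stab hp))
    (fun O O' hO hO' => by
      rcases (O ∩ O').eq_empty_or_nonempty with e | ⟨p, hp⟩
      · rw [e, Set.ncard_empty]
      · exact (h p).oc_even (hO.stab hp.1) (hO'.stab hp.2))
    (O := O) ⟨t, congrArg Subtype.val k1, fun e => k2 (Subtype.ext e), k3, k4⟩
  refine ⟨MulEquiv.ofBijective ((rho φ).codRestrict M24 h1)
    (Function.Injective.bijective_of_nat_card_le (fun x y e => rho_inj fai φ (congrArg Subtype.val e)) ?_)⟩
  rw [hG, ← Mat.card_map_eM]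
  exact Mat.card_X24_le

end Cfsg.Agent.MK
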