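import Cfsg.Agent.Mat.M22A
import Cfsg.Agent.U45.Defs
import Cfsg.Agent.Char.Orth

/-! Order statistics of a group of order `443520` with at most twelve classes. -/

set_option autoImplicit false

namespace Cfsg.Agent.MK

open Subgroup Cfsg.Agent.M11 Cfsg.Agent.Mat Cfsg.Agent.Char
open scoped ComplexConjugate

variable {G : Type*} [Group G] [Finite G]

theorem sum_cc [Fintype G] : ∑ g : G, cc g = Nat.card (IrrCharacter G) * Nat.card G := by
  classical
  have h : ∀ g : G, (cc g : ℂ) = ∑ χ : IrrCharacter G, (χ : G → ℂ) g * conj ((χ : G → ℂ) g) := fun g => by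
    rw [sum_irr_mul_conj g g, if_pos (IsConj.refl g)]; rfl
  have h2 : ∀ χ : IrrCharacter G, ∑ g : G, (χ : G → ℂ) g * conj ((χ : G → ℂ) g) = Nat.card G := fun χ => by
    have := inner_irr_self χ.2
    unfold classInner at this
    rw [inv_mul_eq_one₀ (card_ne_zero' G)] at this
    exact this.symm
  apply Nat.cast_injective (R := ℂ)
  push_cast
  rw [Finset.sum_congr rfl fun g _ => h g, Finset.sum_comm, Finset.sum_congr rfl fun χ _ => h2 χ]
  simp

/-- A system of representatives of the conjugacy classes. -/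
theorem exists_reps : ∃ S : Finset G, S.card = Nat.card (IrrCharacter G) ∧ (∀ g, ∃ s ∈ S, IsConj s g) ∧
    ∀ (p : ℕ → Prop) [DecidablePred p], {g : G | p (orderOf g)}.ncard =
      ∑ s ∈ S.filter (fun s => p (orderOf s)), Nat.card G / cc s := by
  classical
  have := Fintype.ofFinite G
  let o : ConjClasses G → G := Quotient.out
  have ho : ∀ c, ConjClasses.mk (o c) = c := fun c => Quotient.out_eq c
  have hi : Function.Injective o := fun a b h => by rw [← ho a, h, ho]
  have key : ∀ f : G → ℕ, (∀ a b, IsConj a b → f a = f b) →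
      ∑ g, f g = ∑ s ∈ Finset.univ.image o, Nat.card G / cc s * f s := fun f hf => by
    rw [Finset.sum_image fun a _ b _ h => hi h, ← Finset.sum_fiberwise Finset.univ ConjClasses.mk]
    refine Finset.sum_congr rfl fun c _ => ?_
    have h1 : {w | IsConj (o c) w} = (Finset.univ.filter fun y : G => ConjClasses.mk y = c : Finset G) := by
      ext w
      simp only [Set.mem_ofPred_eq, Finset.coe_filter, Finset.mem_univ, true_and]
      rw [← ConjClasses.mk_eq_mk_iff_isConj, ho, eq_comm]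
    rw [Finset.sum_const_nat (m := f (o c)) fun y hy => (hf _ _ (h1.ge hy)).symm, ← Set.ncard_coe_finset, ← h1,
      ← cc_mul (o c), Nat.mul_div_cancel_left _ (cc_pos _)]
  refine ⟨Finset.univ.image o, ?_, fun g => ⟨o (ConjClasses.mk g), Finset.mem_image_of_mem _ (Finset.mem_univ _),
    ConjClasses.mk_eq_mk_iff_isConj.mp (ho _)⟩, fun p _ => ?_⟩
  · have h1 := key cc fun a b h => cc_eq_of_isConj h
    rw [sum_cc, Finset.sum_const_nat (m := Nat.card G) fun s _ => Nat.div_mul_cancel (cc_dvd s)] at h1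
    exact (Nat.eq_of_mul_eq_mul_right Nat.card_pos h1).symm
  · have h1 := key (fun g => if p (orderOf g) then 1 else 0) fun a b h => by rw [orderOf_eq_of_isConj h]
    rw [Finset.sum_filter, Set.ncard_eq_toFinset_card', Set.toFinset_setOf, Finset.card_filter, h1]
    simp

theorem mo_np {p e m : ℕ} (hp : p.Prime) (hG : Nat.card G = p * m) (hm : ¬ p ∣ m) (h : U45.NP G p e) :
    mo G p * (p * e) = (p - 1) * Nat.card G := by
  have := Fact.mk hp
  obtain ⟨x, hx⟩ := exists_prime_orderOf_dvd_card' (G := G) p (hG ▸ dvd_mul_right p m)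
  obtain ⟨P, hP⟩ := exists_sylow_mem hx
  have h1 := card_normalizer_mul P
  rw [← eq_zpowers_of_card (card_syl_prime hG hm P) hx hP, (h x hx).2] at h1
  rw [mo_prime hG hm, ← h1]
  ring

theorem ord_dvd_np {p e : ℕ} (hp : p.Prime) (h : U45.NP G p e) {g : G} (hg : p ∣ cc g) : orderOf g ∣ p := by
  obtain ⟨y, hy, hc⟩ := exists_of_prime_dvd_cc hp hg
  exact (h y hy).1 ▸ orderOf_dvd_cc hc.symm

theorem cc_dvd_pow (g : G) (n : ℕ) : cc g ∣ cc (g ^ n) :=
  card_dvd_of_le fun _ hc => mem_centralizer_singleton_iff.mpr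
    ((show Commute _ g from mem_centralizer_singleton_iff.mp hc).pow_right n)

/-- The type of an element order. -/
def ty22 (n : ℕ) : ℕ := if n = 1 then 0 else if n = 5 then 1 else if n = 7 then 2 else if n = 11 then 3 else
  if n = 2 then 4 else if n ∣ 128 then 5 else if n ∣ 9 then 6 else 7

theorem ty22_lt (n : ℕ) : ty22 n ∈ Finset.range 8 := by
  unfold ty22; split_ifs <;> decide

theorem ty22_0 {n : ℕ} : ty22 n = 0 ↔ n = 1 := by unfold ty22; split_ifs <;> simp_all
theorem ty22_1 {n : ℕ} : ty22 n = 1 ↔ n = 5 := by unfold ty22; split_ifs <;> simp_all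
theorem ty22_2 {n : ℕ} : ty22 n = 2 ↔ n = 7 := by unfold ty22; split_ifs <;> simp_all
theorem ty22_3 {n : ℕ} : ty22 n = 3 ↔ n = 11 := by unfold ty22; split_ifs <;> simp_all
theorem ty22_4 {n : ℕ} : ty22 n = 4 ↔ n = 2 := by unfold ty22; split_ifs <;> simp_all

theorem ty22_128 {n : ℕ} : ty22 n ∈ ({0, 4, 5} : Finset ℕ) ↔ n ∣ 128 := by
  unfold ty22; split_ifs <;> simp_all

theorem ty22_9 {n : ℕ} : ty22 n ∈ ({0, 6} : Finset ℕ) ↔ n ∣ 9 := by
  constructor
  · unfold ty22; split_ifs <;> simp_all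
  · intro h
    have : ∀ n ∈ Nat.divisors 9, ty22 n ∈ ({0, 6} : Finset ℕ) := by decide
    exact this n (Nat.mem_divisors.mpr ⟨h, by decide⟩)

theorem ty22_5 {n : ℕ} (h : ty22 n = 5) : n ∣ 128 ∧ 4 ∣ n := by
  have h1 : n ∣ 128 := ty22_128.mp (by rw [h]; decide)
  have : ∀ n ∈ Nat.divisors 128, ty22 n = 5 → 4 ∣ n := by decide +kernel
  exact ⟨h1, this n (Nat.mem_divisors.mpr ⟨h1, by decide⟩) h⟩

theorem ty22_7 {n : ℕ} (h : ty22 n = 7) (h1 : n ∣ 1152) : 6 ∣ n := by
  have : ∀ n ∈ Nat.divisors 1152, ty22 n = 7 → 6 ∣ n := by decide +kernel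
  exact this n (Nat.mem_divisors.mpr ⟨h1, by decide⟩) h

theorem arithA {α : Type*} (S : Finset α) (c : α → ℕ) (hc : ∀ s ∈ S, 4 ∣ c s ∧ c s ∣ 384) {i : ℕ} (hi : 1 ≤ i)
    (h4 : i + S.card ≤ 4) (hs : i * 1155 + ∑ s ∈ S, 443520 / c s = 98175) :
    i = 1 ∧ S.card = 3 ∧ ∃ s ∈ S, c s = 8 := by
  classical
  have hL : ∀ s ∈ S, c s ∈ [4, 8, 16, 32, 64, 128, 12, 24, 48, 96, 192, 384] := fun s h => by
    have : ∀ n ∈ Nat.divisors 384, 4 ∣ n → n ∈ [4, 8, 16, 32, 64, 128, 12, 24, 48, 96, 192, 384] := by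
      decide +kernel
    exact this _ (Nat.mem_divisors.mpr ⟨(hc s h).2, by decide⟩) (hc s h).1
  have h0 : S.card = 0 ∨ S.card = 1 ∨ S.card = 2 ∨ S.card = 3 := by omega
  rcases h0 with h0 | h0 | h0 | h0
  · rw [Finset.card_eq_zero.mp h0, Finset.sum_empty] at hs
    omega
  · obtain ⟨a, rfl⟩ := Finset.card_eq_one.mp h0
    rw [Finset.sum_singleton] at hs
    have : ∀ i ∈ [1, 2, 3], ∀ a ∈ [4, 8, 16, 32, 64, 128, 12, 24, 48, 96, 192, 384],
        i * 1155 + 443520 / a ≠ 98175 := by decide +kernel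
    exact absurd hs (this i (by simp; omega) _ (hL a (by simp)))
  · obtain ⟨a, b, hab, rfl⟩ := Finset.card_eq_two.mp h0
    rw [Finset.sum_pair hab] at hs
    have : ∀ i ∈ [1, 2], ∀ a ∈ [4, 8, 16, 32, 64, 128, 12, 24, 48, 96, 192, 384],
        ∀ b ∈ [4, 8, 16, 32, 64, 128, 12, 24, 48, 96, 192, 384],
        i * 1155 + (443520 / a + 443520 / b) ≠ 98175 := by decide +kernel
    exact absurd hs (this i (by simp; omega) _ (hL a (by simp)) _ (hL b (by simp)))
  · obtain rfl : i = 1 := by omega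
    refine ⟨rfl, h0, ?_⟩
    obtain ⟨a, b, d, hab, had, hbd, rfl⟩ := Finset.card_eq_three.mp h0
    rw [Finset.sum_insert (by simp [hab, had]), Finset.sum_pair hbd] at hs
    have : ∀ a ∈ [4, 8, 16, 32, 64, 128, 12, 24, 48, 96, 192, 384],
        ∀ b ∈ [4, 8, 16, 32, 64, 128, 12, 24, 48, 96, 192, 384],
        ∀ d ∈ [4, 8, 16, 32, 64, 128, 12, 24, 48, 96, 192, 384],
        1 * 1155 + (443520 / a + (443520 / b + 443520 / d)) = 98175 → a = 8 ∨ b = 8 ∨ d = 8 := by decide +kernel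
    rcases this _ (hL a (by simp)) _ (hL b (by simp)) _ (hL d (by simp)) hs with h | h | h
    exacts [⟨a, by simp, h⟩, ⟨b, by simp, h⟩, ⟨d, by simp, h⟩]

theorem n22_of (hG : Nat.card G = 443520) (hk : Nat.card (IrrCharacter G) ≤ 12) (h5 : U45.NP G 5 4)
    (h7 : U45.NP G 7 3) (h11 : U45.NP G 11 5) (hc : ∀ s : G, orderOf s = 2 → cc s = 384) : Mat.N22 G := by
  classical
  obtain ⟨S, hS, hrep, hcnt⟩ := exists_reps (G := G)
  rw [hG] at hcnt
  set St : ℕ → Finset G := fun t => S.filter fun s => ty22 (orderOf s) = t with hSt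
  set W : ℕ → ℕ := fun t => ∑ s ∈ St t, 443520 / cc s with hW
  have mS : ∀ t s, s ∈ St t → ty22 (orderOf s) = t := fun t s h => (Finset.mem_filter.mp h).2
  have hrep' : ∀ g, ∃ s ∈ St (ty22 (orderOf g)), IsConj s g := fun g => by
    obtain ⟨s, h1, h2⟩ := hrep g
    exact ⟨s, Finset.mem_filter.mpr ⟨h1, by rw [orderOf_eq_of_isConj h2]⟩, h2⟩
  have hF : ∀ T : Finset ℕ, {g : G | ty22 (orderOf g) ∈ T}.ncard = ∑ t ∈ T, W t := fun T => by
    rw [hcnt fun n => ty22 n ∈ T]
    exact (Finset.sum_fiberwise_eq_sum_filter S T (fun s => ty22 (orderOf s)) _).symm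
  have hF1 : ∀ t, {g : G | ty22 (orderOf g) = t}.ncard = W t := fun t => hcnt fun n => ty22 n = t
  have hcard : S.card = ∑ t ∈ Finset.range 8, (St t).card :=
    Finset.card_eq_sum_card_fiberwise fun s _ => ty22_lt _
  have htot : 443520 = ∑ t ∈ Finset.range 8, W t := by
    rw [← hF, ← hG, ← Set.ncard_univ]
    exact congrArg _ (Set.eq_univ_of_forall fun g => ty22_lt _).symm
  have f128 : 128 ∣ W 0 + (W 4 + W 5) := by
    have h := pow_dvd_ncard_pow_eq_one (G := G) Nat.prime_two (a := 7) (by rw [hG]; decide)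
    have h2 := hF {0, 4, 5}
    simp only [ty22_128, orderOf_dvd_iff_pow_eq_one] at h2
    rw [Finset.sum_insert (by decide), Finset.sum_pair (by decide)] at h2
    exact h2 ▸ h
  have f9 : 9 ∣ W 0 + W 6 := by
    have h := pow_dvd_ncard_pow_eq_one (G := G) Nat.prime_three (a := 2) (by rw [hG]; decide)
    have h2 := hF {0, 6}
    simp only [ty22_9, orderOf_dvd_iff_pow_eq_one] at h2
    rw [Finset.sum_pair (by decide)] at h2
    exact h2 ▸ h
  have w0 : W 0 = 1 := by rw [← hF1]; simp [ty22_0]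
  have c0 : 1 ≤ (St 0).card := by
    obtain ⟨s, hs, -⟩ := hrep' 1
    rw [orderOf_one] at hs
    exact Finset.card_pos.mpr ⟨s, hs⟩
  have w1 : W 1 = 88704 := by
    have := mo_np (m := 88704) Nat.prime_five hG (by decide) h5
    rw [← hF1]; simp only [ty22_1]; unfold mo at this; omega
  have w2 : W 2 = 126720 := by
    have := mo_np (m := 63360) Nat.prime_seven hG (by decide) h7
    rw [← hF1]; simp only [ty22_2]; unfold mo at this; omega
  have w3 : W 3 = 80640 := by
    have := mo_np (m := 40320) Nat.prime_eleven hG (by decide) h11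
    rw [← hF1]; simp only [ty22_3]; unfold mo at this; omega
  have c1 : W 1 = (St 1).card * 88704 :=
    Finset.sum_const_nat fun s hs => by rw [(h5 s (ty22_1.mp (mS _ _ hs))).1]
  have c2 : W 2 = (St 2).card * 63360 :=
    Finset.sum_const_nat fun s hs => by rw [(h7 s (ty22_2.mp (mS _ _ hs))).1]
  have c3 : W 3 = (St 3).card * 40320 :=
    Finset.sum_const_nat fun s hs => by rw [(h11 s (ty22_3.mp (mS _ _ hs))).1]
  have c4 : W 4 = (St 4).card * 1155 :=
    Finset.sum_const_nat fun s hs => by rw [hc s (ty22_4.mp (mS _ _ hs))]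
  have ev : ∀ s : G, 2 ∣ orderOf s → cc s ∣ 384 := fun s h =>
    hc _ (orderOf_pow_orderOf_div (orderOf_pos s).ne' h) ▸ cc_dvd_pow s _
  have big : ∀ s : G, 4 ≤ ty22 (orderOf s) → cc s ∣ 1152 := fun s h => by
    have k : ∀ p e, p.Prime → U45.NP G p e → ty22 p < 4 → (cc s).Coprime p := fun p e hp hN ht =>
      ((Nat.Prime.coprime_iff_not_dvd hp).mpr fun h1 => by
        rcases (Nat.dvd_prime hp).mp (ord_dvd_np hp hN h1) with h2 | h2 <;> rw [h2] at h
        · exact absurd h (by decide)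
        · omega).symm
    have h1 : cc s ∣ 1152 * (5 * (7 * 11)) := (cc_dvd s).trans (by rw [hG])
    exact ((k 5 4 Nat.prime_five h5 (by decide)).mul_right ((k 7 3 Nat.prime_seven h7 (by decide)).mul_right
      (k 11 5 Nat.prime_eleven h11 (by decide)))).dvd_of_dvd_mul_right h1
  have tA : ∀ s ∈ St 5, 4 ∣ cc s ∧ cc s ∣ 384 := fun s hs =>
    ⟨(ty22_5 (mS _ _ hs)).2.trans (orderOf_dvd_cc rfl), ev s ((by decide : 2 ∣ 4).trans (ty22_5 (mS _ _ hs)).2)⟩
  have d5 : 1155 ∣ W 5 := Finset.dvd_sum fun s hs => by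
    obtain ⟨k, hk⟩ := (tA s hs).2
    exact ⟨k, Nat.div_eq_of_eq_mul_right (cc_pos s) (by rw [mul_left_comm, ← hk]; rfl)⟩
  have i1 : 1 ≤ (St 4).card := by
    have : Fact (Nat.Prime 2) := ⟨Nat.prime_two⟩
    obtain ⟨x, hx⟩ := exists_prime_orderOf_dvd_card' (G := G) 2 (by rw [hG]; decide)
    obtain ⟨s, hs, -⟩ := hrep' x
    rw [hx] at hs
    exact Finset.card_pos.mpr ⟨s, hs⟩
  simp only [Finset.sum_range_succ, Finset.sum_range_zero] at hcard htot
  have e45 : W 4 + W 5 = 98175 := by omega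
  have b1 : 1 ≤ (St 6).card := Finset.card_pos.mpr (Finset.nonempty_of_sum_ne_zero (show W 6 ≠ 0 by omega))
  have b2 : 1 ≤ (St 7).card := Finset.card_pos.mpr (Finset.nonempty_of_sum_ne_zero (show W 7 ≠ 0 by omega))
  obtain ⟨i4, a3, s8, hs8, cs8⟩ := arithA (St 5) cc tA i1 (by omega) (c4 ▸ e45)
  obtain ⟨b, hb⟩ := Finset.card_eq_one.mp (show (St 6).card = 1 by omega)
  obtain ⟨c, hc'⟩ := Finset.card_eq_one.mp (show (St 7).card = 1 by omega)
  have : Fact (Nat.Prime 3) := ⟨Nat.prime_three⟩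
  have ob : orderOf b = 3 := by
    obtain ⟨x, hx⟩ := exists_prime_orderOf_dvd_card' (G := G) 3 (by rw [hG]; decide)
    obtain ⟨s, hs, h⟩ := hrep' x
    rw [hx, show ty22 3 = 6 by decide, hb, Finset.mem_singleton] at hs
    rw [← hs, orderOf_eq_of_isConj h, hx]
  have w6 : W 6 = 12320 := by
    have h1 : W 6 = 443520 / cc b := by simp only [hW, hb, Finset.sum_singleton]
    obtain ⟨P, hP⟩ := exists_sylow_mem ob
    have h2 : Nat.card P = 9 := card_sylow_eq P 2 49280 hG (by decide)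
    have h3 : 9 ∣ cc b := h2 ▸ card_dvd_cc fun r hr => comm_of_card_nine h2 hr hP
    have h4 : ∀ n ∈ Nat.divisors 1152, 9 ∣ n → 9 ∣ 1 + 443520 / n → n = 36 := by decide +kernel
    rw [w0, h1] at f9
    rw [h1, h4 _ (Nat.mem_divisors.mpr ⟨big b (by rw [ob]; decide), by decide⟩) h3 f9]
  have oc : orderOf c = 6 := by
    have h0 : ty22 (orderOf c) = 7 := mS _ _ (hc' ▸ Finset.mem_singleton_self c)
    have h1 := ty22_7 h0 ((orderOf_dvd_cc rfl).trans (big c (by omega)))
    have hx := orderOf_pow_orderOf_div (orderOf_pos c).ne' h1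
    obtain ⟨s, hs, h⟩ := hrep' (c ^ (orderOf c / 6))
    rw [hx, show ty22 6 = 7 by decide, hc', Finset.mem_singleton] at hs
    rw [← hx, ← orderOf_eq_of_isConj h, hs]
  have t6 : ∀ g : G, ty22 (orderOf g) = 6 ↔ orderOf g = 3 := fun g => ⟨fun h => by
    obtain ⟨s, hs, h1⟩ := hrep' g
    rw [h, hb, Finset.mem_singleton] at hs
    rw [← orderOf_eq_of_isConj h1, hs, ob], fun h => by rw [h]; decide⟩
  have t7 : ∀ g : G, ty22 (orderOf g) = 7 ↔ orderOf g = 6 := fun g => ⟨fun h => by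
    obtain ⟨s, hs, h1⟩ := hrep' g
    rw [h, hc', Finset.mem_singleton] at hs
    rw [← orderOf_eq_of_isConj h1, hs, oc], fun h => by rw [h]; decide⟩
  have t5 : ∀ g : G, ty22 (orderOf g) = 5 → orderOf g = 4 ∨ orderOf g = 8 := fun g h => by
    obtain ⟨h1, h2⟩ := ty22_5 h
    have h3 : ∀ n ∈ Nat.divisors 128, 4 ∣ n → (n = 4 ∨ n = 8) ∨ 16 ∣ n := by decide +kernel
    refine (h3 _ (Nat.mem_divisors.mpr ⟨h1, by decide⟩) h2).resolve_right fun h4 => ?_
    have k : ∀ d, d ∣ 16 → ty22 d = 5 → ∃ s ∈ St 5, orderOf s = d ∧ cc s ≠ 8 := fun d hd ht => by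
      have hx := orderOf_pow_orderOf_div (orderOf_pos g).ne' (hd.trans h4)
      obtain ⟨s, hs, h5⟩ := hrep' (g ^ (orderOf g / d))
      rw [hx, ht] at hs
      refine ⟨s, hs, (orderOf_eq_of_isConj h5).trans hx, fun h6 => ?_⟩
      have h7 := h4.trans ((orderOf_dvd_cc (rfl : g * g = g * g)).trans (cc_dvd_pow g (orderOf g / d)))
      rw [← cc_eq_of_isConj h5, h6] at h7
      exact absurd h7 (by decide)
    obtain ⟨x, hx, ox, cx⟩ := k 4 (by decide) (by decide)
    obtain ⟨y, hy, oy, cy⟩ := k 8 (by decide) (by decide)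
    obtain ⟨z, hz, oz, cz⟩ := k 16 (by decide) (by decide)
    have hxy : x ≠ y := fun e => by rw [e] at ox; omega
    have hxz : x ≠ z := fun e => by rw [e] at ox; omega
    have hyz : y ≠ z := fun e => by rw [e] at oy; omega
    have h5 : ({x, y, z} : Finset G) = St 5 := Finset.eq_of_subset_of_card_le (by
      simp only [Finset.insert_subset_iff, Finset.singleton_subset_iff]; exact ⟨hx, hy, hz⟩)
      (by rw [a3, Finset.card_eq_three.mpr ⟨x, y, z, hxy, hxz, hyz, rfl⟩])
    rw [← h5] at hs8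
    simp only [Finset.mem_insert, Finset.mem_singleton] at hs8
    rcases hs8 with rfl | rfl | rfl
    exacts [cx cs8, cy cs8, cz cs8]
  refine ⟨hG, fun g => ?_, ?_, ?_, ?_⟩
  · have h := Finset.mem_range.mp (ty22_lt (orderOf g))
    have h0 := @ty22_0 (orderOf g)
    have h1 := @ty22_1 (orderOf g)
    have h2 := @ty22_2 (orderOf g)
    have h3 := @ty22_3 (orderOf g)
    have h4 := @ty22_4 (orderOf g)
    have h5 := t5 g
    have h6 := t6 g
    have h7 := t7 g
    simp only [Finset.mem_insert, Finset.mem_singleton]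
    omega
  · have h := hF1 4
    simp only [ty22_4] at h
    unfold mo; omega
  · have h := hF1 6
    simp only [t6] at h
    unfold mo; omega
  · have h := hF1 7
    simp only [t7] at h
    unfold mo; omega

end Cfsg.Agent.MK
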