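import Cfsg.Agent.MK.M22H
import Cfsg.Agent.MK.N22

/-!
# Simple groups of order `443520`
-/

set_option autoImplicit false

namespace Cfsg.Agent.MK

open Cfsg.Agent.Small

theorem i22 (S : Type*) [Group S] [Finite S] [IsSimpleGroup S] (hG : Nat.card S = 443520) :
    Mat.N22 S ∧ Rho S 55 ∧ Rho S 77 ∧ Rho S 33 := by
  obtain ⟨h1, h2, h3, h4, h5, h6⟩ := m22data hG
  exact ⟨n22_of hG h1 h2 h3 h4 h5, h6⟩

end Cfsg.Agent.MK
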