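import Cfsg.Agent.M11.Count

/-! Local data of an element of prime order whose square does not divide the group order. -/

set_option autoImplicit false

namespace Cfsg.Agent.MK

open Subgroup Cfsg.Agent.M11

variable {G : Type*} [Group G] [Finite G]

/-- local data of an element of prime order `p`, `p² ∤ |G|` -/
structure LD (p e X : ℕ) (x : G) : Prop where
  pr : p.Prime
  sq : ¬ p * p ∣ Nat.card G
  ord : orderOf x = p
  ccx : cc x = p * X
  nrm : Nat.card (normalizer (zpowers x : Set G)) = p * X * e

end Cfsg.Agent.MK
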