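import Cfsg.Agent.MK.T2A

/-!
# Simple groups of order dividing `443520` and divisible by `11`
-/

set_option autoImplicit false

namespace Cfsg.Agent.MK

open Subgroup Cfsg.Agent.Char Cfsg.Agent.Zass Cfsg.Agent.Local Cfsg.Agent.M11 Cfsg.Agent.Small

theorem exists_KB' {G : Type*} [Group G] [Finite G] [IsSimpleGroup G] (hna : ¬ IsMulCommutative G)
    {p : ℕ} (hp : p.Prime) (h2 : p ≠ 2) (h80 : p ≤ 80) (hsq : ¬ p * p ∣ Nat.card G)
    (h : p ∣ Nat.card G) : ∃ (x : G) (e X : ℕ) (T : _) (a : _), KB p e X x T a := by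
  have := Fact.mk hp
  obtain ⟨x, hx⟩ := exists_prime_orderOf_dvd_card' p h
  exact ⟨x, exists_KB hna hp h2 h80 hsq hx⟩

theorem t2 (S : Type*) [Group S] [Finite S] [IsSimpleGroup S] (hna : ¬ IsMulCommutative S)
    (hd : Nat.card S ∣ 443520) (h11 : 11 ∣ Nat.card S) :
    (5 ∣ Nat.card S ∧ Nat.card S < 3025) ∨ Nat.card S = 7920 ∨ Nat.card S = 443520 := by
  have hN : Nat.card S ∣ 244823040 := hd.trans (by norm_num)
  have p11 : Nat.Prime 11 := by norm_num
  have p7 : Nat.Prime 7 := by norm_num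
  have s11 : ¬ 11 * 11 ∣ Nat.card S := fun e => absurd (e.trans hd) (by norm_num)
  have s7 : ¬ 7 * 7 ∣ Nat.card S := fun e => absurd (e.trans hd) (by norm_num)
  have h1 : t2a (Nat.card S) = true := by
    have h2 := mem_dvN (by norm_num) hd
    rw [← fN_eq (Nat.card S) t2a]
    by_cases h3 : Nat.card S < 40000
    · exact List.all_eq_true.1 t2k1 _ (List.mem_filter.2 ⟨h2, by simpa using h3⟩)
    · exact List.all_eq_true.1 t2k2 _ (List.mem_filter.2 ⟨h2, by simpa using h3⟩)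
  have h4 := four_dvd hna
  have h5 : ∀ n ∈ [4620, 36960, 73920], Nat.card S ≠ n := fun n hn e => by
    obtain ⟨y, _, _, _, _, h⟩ := exists_KB' hna p7 (by norm_num) (by norm_num) s7
      (by rw [e]; clear e; revert n; decide)
    cases h.of_killAll hna hN p7 (by norm_num) s7 p11 h11 (fun _ _ => rfl) (fun _ _ => rfl)
      (fun _ _ => rfl) (e ▸ List.all_eq_true.1 t2k3 n hn)
  rw [t2a, Bool.or_eq_true, Bool.or_eq_true] at h1
  rcases h1 with h1 | h1 | h1
  · rw [bne_iff_ne] at h1; omega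
  · simp only [List.contains_eq_mem, List.mem_cons, List.not_mem_nil, or_false, decide_eq_true_eq,
      forall_eq_or_imp, forall_eq] at h1 h5
    omega
  obtain ⟨x, _, _, _, _, h⟩ := exists_KB' hna p11 (by norm_num) (by norm_num) s11 h11
  have h6 := h.of_killAll hna hN p11 (by norm_num) s11 p11 h11 (fun _ _ => rfl) (fun _ _ => rfl)
    (fun _ _ => rfl) h1
  simp only [Bool.and_eq_true, beq_iff_eq, Prod.mk.injEq] at h6
  obtain ⟨h6, -, rfl⟩ := h6
  obtain ⟨y, _, _, _, _, h'⟩ := exists_KB' hna p7 (by norm_num) (by norm_num) s7 (by rw [h6]; norm_num)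
  have h7 := h'.of_killAll hna hN p7 (by norm_num) s7 p11 h11 (fun _ _ => rfl) (fun _ _ => rfl)
    (fun _ _ => rfl) (h6 ▸ t2k4)
  exact absurd (by rw [h.ccx]; norm_num) (h'.not_dvd p7 s7 p11 (by norm_num) h.ord fun e => by
    simp [Nat.mod_eq_zero_of_dvd e] at h7)

end Cfsg.Agent.MK
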