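import Cfsg.Agent.MR.Main
import Cfsg.Agent.MR.Rho
import Cfsg.Agent.MK.T2
import Cfsg.Agent.MK.I22
import Cfsg.Agent.MK.Geo
import Cfsg.Agent.MK.LD

/-!
# Assembly of the facts on simple groups
-/

set_option autoImplicit false

namespace Cfsg.Agent.MK

universe u

theorem hyp
    (h1 : ∀ (S : Type u) [Group S] [Finite S] [IsSimpleGroup S], ¬ IsMulCommutative S →
      Nat.card S ∣ 244823040 → 23 ∣ Nat.card S → (∃ x : S, LD 23 11 1 x) ∧
        (Nat.card S = 6072 ∨ Nat.card S = 10200960 ∨ Nat.card S = 244823040))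
    (h23 : ∀ (S : Type u) [Group S] [Finite S] [IsSimpleGroup S], ¬ IsMulCommutative S →
      Nat.card S = 10200960 → ∀ x : S, LD 23 11 1 x → ∃ H : Subgroup S, H.index = 23)
    (h24 : ∀ (S : Type u) [Group S] [Finite S] [IsSimpleGroup S], ¬ IsMulCommutative S →
      Nat.card S = 244823040 → ∀ x : S, LD 23 11 1 x → ∃ H : Subgroup S, H.index = 24) :
    MR.Hyp.{u} where
  t2 S _ _ _ := t2 S
  t1 S _ _ _ hna hd hp := (h1 S hna hd hp).2.imp_left fun h => by rw [h]; norm_num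
  i22 S _ _ _ := i22 S
  i23 S _ _ _ hG := by
    have hna := Wong.not_comm (G := S) (by rw [hG]; norm_num)
    obtain ⟨x, hx⟩ := (h1 S hna (by rw [hG]; norm_num) (by rw [hG]; norm_num)).1
    obtain ⟨H, hH⟩ := h23 S hna hG x hx
    exact MR.of23 (geo23 hG hH)
  i24 S _ _ _ hG := by
    have hna := Wong.not_comm (G := S) (by rw [hG]; norm_num)
    obtain ⟨x, hx⟩ := (h1 S hna (by rw [hG]) (by rw [hG]; norm_num)).1
    obtain ⟨H, hH⟩ := h24 S hna hG x hx
    exact MR.of24 (geo24 hG hH)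

end Cfsg.Agent.MK
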