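import Cfsg.Agent.MK.Cand
import Cfsg.Agent.MK.AlgB
import Cfsg.Agent.Zass.FS

/-! The character of degree 22 of a simple group of order `|M₂₃|` is not symplectic. -/

set_option autoImplicit false
set_option linter.unusedSectionVars false

namespace Cfsg.Agent.MK

open Finset Subgroup Cfsg.Agent.Char Cfsg.Agent.Zass Cfsg.Agent.Local Cfsg.Agent.M11 Cfsg.Agent.Small

def nsL : List ℤ := [-22, -18, -14, -10, -6, -2, 2, 6, 10, 14, 18, 22].map fun a => a * a / 2 - 12

def nsF (l : List (ℕ × ℤ)) : Bool := (l.any fun r => r.1 == 230 && r.2 == 0) ||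
  (cs 10200960 11 23 5 1).any fun c => VS 10200960 11 5 1 c.1 c.2 (srt 10200960 c.1 l)
    fun r => r.any fun x => x.1 == 230 && nsL.contains x.2.2

set_option maxRecDepth 100000 in
theorem ns_k : K1 10200960 11 5 1 (fun d => [45, 230, 896, 1035].contains d) nsF = false := by decide +kernel

theorem ns_sum (t : Multiset ℕ) (h : ∀ x ∈ t, x = 22 ∨ x = 45) : ∃ i j, t.sum = 22 * i + 45 * j := by
  induction t using Multiset.induction_on with
  | empty => exact ⟨0, 0, rfl⟩
  | cons x t ih =>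
    obtain ⟨i, j, e⟩ := ih fun y hy => h y (Multiset.mem_cons_of_mem hy)
    rw [Multiset.sum_cons, e]
    rcases h x (Multiset.mem_cons_self x t) with rfl | rfl
    exacts [⟨i + 1, j, by ring⟩, ⟨i, j + 1, by ring⟩]

variable {G : Type*} [Group G] [Fintype G]

open Classical in
theorem ns_count (s : Multiset (G → ℂ)) (hs : ∀ ψ ∈ s, IsIrrCharacter G ψ) :
    classInner s.sum 1 = s.count 1 ∧ s.sum 1 = (s.map deg).sum := by
  induction s using Multiset.induction_on with
  | empty => simp [Char.inner_zero_left]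
  | cons ψ s ih =>
    obtain ⟨h1, h2⟩ := ih fun y hy => hs y (Multiset.mem_cons_of_mem hy)
    have h3 := hs ψ (Multiset.mem_cons_self ψ s)
    rw [Multiset.sum_cons, Char.inner_add_left, h1, inner_irr h3 irr_one, Multiset.count_cons, Multiset.map_cons,
      Multiset.sum_cons, Pi.add_apply, h2, irr_deg h3]
    refine ⟨?_, by push_cast; rfl⟩
    by_cases e : ψ = 1
    · simp [e, add_comm]
    · simp [e, Ne.symm e]

theorem ns_alt {χ : G → ℂ} (hχ : IsIrrCharacter G χ) (h22 : deg χ = 22) (hf : fs χ = -1)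
    (hd : ∀ ψ, IsIrrCharacter G ψ → ψ ≠ 1 → deg ψ ≤ 252 → deg ψ ∈ [22, 45, 230, 231]) :
    ∃ θ, IsIrrCharacter G θ ∧ deg θ = 230 ∧ ∀ g, 2 * (1 + θ g) = χ g ^ 2 - χ (g * g) := by
  classical
  obtain ⟨-, A, -, hA, -, eA⟩ := Alg.sym_alt_char (irr_isCharacter hχ)
  obtain ⟨s, hs, rfl⟩ := char_exists_multiset hA
  obtain ⟨h1, h2⟩ := ns_count s hs
  have hr : cj χ = χ := (fs_cases hχ).elim (·.1) fun d => absurd (hf.symm.trans d.2) (by norm_num)
  have h3 : classInner s.sum 1 = 1 := by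
    have e1 := inner_irr_self hχ
    have e2 : ∀ g, starRingEnd ℂ (χ g) = χ g := congrFun hr
    simp only [classInner, fs, e2, Pi.one_apply, map_one, mul_one] at e1 hf ⊢
    have : ∑ g, s.sum g = (∑ g, χ g * χ g - ∑ g, χ (g * g)) / 2 := by
      rw [← sum_sub_distrib, sum_div]
      exact sum_congr rfl fun g _ => by rw [← pow_two, ← eA]; ring
    rw [this]
    linear_combination e1 / 2 - hf / 2
  have h4 : (s.map deg).sum = 231 := by
    have := eA 1
    rw [h2, one_mul, irr_deg hχ, h22] at this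
    have h5 : (((s.map deg).sum : ℕ) : ℂ) = (231 : ℕ) := by
      rw [← mul_right_inj' (two_ne_zero' ℂ), this]; norm_num
    exact_mod_cast h5
  have h5 : s.count 1 = 1 := by exact_mod_cast h1.symm.trans h3
  obtain ⟨s, rfl⟩ := Multiset.exists_cons_of_mem (Multiset.count_pos.1 (h5 ▸ Nat.one_pos) : 1 ∈ s)
  rw [Multiset.count_cons_self, Nat.add_eq_right, Multiset.count_eq_zero] at h5
  rw [Multiset.map_cons, Multiset.sum_cons, deg_one] at h4
  have h6 : ∀ ψ ∈ s, deg ψ ≤ 230 := fun ψ hψ => by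
    have := Multiset.single_le_sum (fun _ _ => Nat.zero_le _) _ (Multiset.mem_map_of_mem deg hψ)
    omega
  have h7 := fun ψ (hψ : ψ ∈ s) => hs ψ (Multiset.mem_cons_of_mem hψ)
  obtain ⟨θ, hθ, e⟩ : ∃ θ ∈ s, deg θ = 230 := by
    by_contra! d
    obtain ⟨i, j, e⟩ := ns_sum (s.map deg) fun x hx => by
      obtain ⟨ψ, hψ, rfl⟩ := Multiset.mem_map.1 hx
      have := hd ψ (h7 ψ hψ) (fun e => h5 (e ▸ hψ)) ((h6 ψ hψ).trans (by decide))
      have := h6 ψ hψ
      have := d ψ hψ
      simp only [List.mem_cons, List.not_mem_nil, or_false] at *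
      omega
    omega
  obtain ⟨s, rfl⟩ := Multiset.exists_cons_of_mem hθ
  rw [Multiset.map_cons, Multiset.sum_cons, e] at h4
  obtain rfl : s = 0 := Multiset.eq_zero_of_forall_notMem fun ψ hψ => by
    have := Multiset.single_le_sum (fun _ _ => Nat.zero_le _) _ (Multiset.mem_map_of_mem deg hψ)
    have := irr_deg_pos (h7 ψ (Multiset.mem_cons_of_mem hψ))
    omega
  exact ⟨θ, h7 θ hθ, e, fun g => by rw [← eA]; simp⟩

theorem nosp23 [IsSimpleGroup G] (hna : ¬ IsMulCommutative G) (hG : Nat.card G = 10200960) {x : G}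
    {T : Finset (IrrCharacter G)} {a : IrrCharacter G → ℤ} (h : KB 11 5 1 x T a)
    (hT : ∀ ψ ∈ T, deg ψ.1 ∈ [45, 230, 896, 1035]) {χ : G → ℂ} (hχ : IsIrrCharacter G χ) (h22 : deg χ = 22)
    (hd : ∀ ψ, IsIrrCharacter G ψ → ψ ≠ 1 → deg ψ ≤ 252 → deg ψ ∈ [22, 45, 230, 231]) : fs χ ≠ -1 := fun hf => by
  classical
  obtain ⟨θ, hθ, d, e⟩ := ns_alt hχ h22 hf hd
  have hN : Nat.card G ∣ 244823040 := by rw [hG]; decide
  obtain ⟨s, s2, r, hc, hcol⟩ := h.surv hna hN (by norm_num) (by decide) (by rw [hG]; decide) (b := 23) (by norm_num)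
    (by rw [hG]; decide)
  have θT : (⟨θ, hθ⟩ : IrrCharacter G) ∈ T := h.mem rfl _ (fun q => by
    rw [show θ = 1 from q, deg_one] at d; omega) (by rw [d]; decide)
  have ss : s * s = 1 := by rw [← pow_two, ← s2, pow_orderOf_eq_one]
  have v : iv θ s ∈ nsL := by
    obtain ⟨k1, k2⟩ := iv_spec (perfect hna) hχ ss
    have k3 := char_norm_le (irr_isCharacter hχ) s
    have k4 := e s
    rw [ss, k1, irr_deg hχ, h22] at k4
    rw [k1, irr_deg hχ, h22, Complex.norm_intCast, Complex.natCast_re] at k3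
    rw [(iv_spec (perfect hna) hθ ss).1] at k4
    rw [h22] at k2
    have k5 : |iv χ s| ≤ 22 := by exact_mod_cast k3
    have k6 : 2 * (1 + iv θ s) = iv χ s ^ 2 - 22 := by exact_mod_cast k4
    generalize iv χ s = u at *
    generalize iv θ s = w at *
    obtain ⟨k7, k8⟩ := abs_le.1 k5
    obtain rfl : w = u ^ 2 / 2 - 12 := by omega
    revert k2
    interval_cases u <;> decide
  have := h.k1 hna hN (W := fun d => [45, 230, 896, 1035].contains d) (fun ψ hψ => List.contains_iff_mem.2 (hT ψ hψ))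
    (F := nsF) fun l hl => by
      rw [nsF, Bool.or_eq_true]
      refine (eq_or_ne (a ⟨θ, hθ⟩) 0).imp (fun q => List.any_eq_true.2 ⟨(230, 0), ?_, rfl⟩) fun q =>
        List.any_eq_true.2 ⟨_, hG ▸ hc, hG ▸ hcol.vs' hl fun l' hl' => List.any_eq_true.2
          ⟨(230, a ⟨θ, hθ⟩, iv θ s), ?_, by simpa using v⟩⟩
      · rw [← Multiset.mem_coe, hl, ← d, ← q]
        exact Multiset.mem_map_of_mem _ θT
      · rw [← Multiset.mem_coe, hl', ← d]
        exact Multiset.mem_map_of_mem _ (mem_filter.2 ⟨θT, q⟩)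
  rw [hG, ns_k] at this
  cases this

end Cfsg.Agent.MK
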