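import Cfsg.Agent.MK.T23D

/-! Kernel computations for the degree tables at order `10200960`, part 1. -/

set_option autoImplicit false

namespace Cfsg.Agent.MK.T23

theorem k7 : killAllP 10200960 7 23
    (fun c => c.2 % 11 != 0 || (c.2 % 23 == 0 || c == (6, 22))) (WW 23 6)
    (fun _ => FF 23) (fun c => c % 23 != 0) = true := by decide +kernel

theorem k11 : killAllP 10200960 11 23 (fun c => c == (5, 1) || (c.2 % 23 == 0 ||
    c.2 % 7 == 0 && (c.1 != 2 || c.2 % 42 != 0))) (WW 23 6)
    (fun _ => FF 23) (fun c => c % 23 != 0) = true := by decide +kernel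

end Cfsg.Agent.MK.T23
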