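import Cfsg.Agent.MK.T23D

/-! Kernel computations for the degree tables at order `10200960`, part 2. -/

set_option autoImplicit false

namespace Cfsg.Agent.MK.T23

theorem k5 : killAllP 10200960 5 23 (fun c => c == (4, 3) || (c.2 % 23 == 0 || c.2 % 11 == 0))
    (fun d => WW 23 6 d && WW 11 4 d)
    (fun _ l => FF 23 l && FF 11 l) (fun c => c % 23 != 0 && c % 11 != 0) = true := by
  decide +kernel

theorem t5 : K1P 10200960 5 4 3 (fun d => WW 23 6 d && WW 11 4 d) (fun l => FF 23 l && (FF 11 l &&
    [128, 384, 896, 1152, 2688, 8064].any fun c => !ok5 c l && [false, true].any fun r =>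
      VS2 10200960 5 4 3 c r (fun _ _ => true) (c - 1) l fun _ => true)) = false := by
  decide +kernel

theorem t23 : K1P 10200960 23 11 1 (fun d => d % 11 == 0 || D11.any fun y => y.1 == d)
    (fun l => (l.any fun y => y.1 % 23 == 0) || (cnt 45 l == 2 && (cnt 896 l == 2 &&
      (Nat.ble 1 (cnt 231 l) && (Nat.ble (l.map fun y => m5 y.1).sum 13 && (!good l &&
        VS2 10200960 23 11 1 2688 false (fun d v => d != 45 || v == -3) 1474 l fun _ => true)))))) =
      false := by
  decide +kernel

end Cfsg.Agent.MK.T23
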