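import Cfsg.Agent.MK.T23D

/-! Kernel computations for the degree tables at order `10200960`, part 3. -/

set_option autoImplicit false

namespace Cfsg.Agent.MK.T23

theorem t11 : K1P 10200960 11 5 1 (fun d => WW 23 6 d && WW 11 4 d) (fun l => FF 23 l &&
    ((Nat.ble 1 (cnt 896 l) && Nat.ble 1 (cnt 644 l)) ||
      ((Nat.ble 1 (cnt 736 l) || Nat.ble 2 (cnt 896 l)) && C4.any fun c =>
        VS2 10200960 11 5 1 c false (fun _ _ => true) (c - 1) l fun l' =>
          !(c == 2688 && (l.isPerm D11 && l'.isPerm V11))))) = false := by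
  decide +kernel

end Cfsg.Agent.MK.T23
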