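import Cfsg.Agent.MK.T23A
import Cfsg.Agent.MK.T23K1
import Cfsg.Agent.MK.T23K2
import Cfsg.Agent.MK.T23K3
import Cfsg.Agent.MK.T2
import Cfsg.Agent.MK.NoSp
import Cfsg.Agent.MK.AlgC
import Cfsg.Agent.MK.Geo

/-!
# Simple groups of order `10200960` with a self-centralising element of order `23`
-/

set_option autoImplicit false
set_option linter.unusedSectionVars false

namespace Cfsg.Agent.MK.T23

open Finset Subgroup Cfsg.Agent.Char Cfsg.Agent.Zass Cfsg.Agent.Local Cfsg.Agent.M11 Cfsg.Agent.Small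

variable {G : Type*} [Group G] [Finite G] [IsSimpleGroup G] (hna : ¬ IsMulCommutative G)
  (hG : Nat.card G = 10200960) {x y z : G} {e X : ℕ} {T U V : Finset (IrrCharacter G)}
  {a b c : IrrCharacter G → ℤ}
include hna hG

theorem loc11 (h : KB 23 11 1 x T a) (k : KB 11 e X y U b) : e = 5 ∧ X = 1 := by
  have hN : Nat.card G ∣ 244823040 := by rw [hG]; norm_num
  have p23 : Nat.Prime 23 := by norm_num
  have p11 : Nat.Prime 11 := by norm_num
  have p7 : Nat.Prime 7 := by norm_num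
  have s23 : ¬ 23 * 23 ∣ Nat.card G := by rw [hG]; norm_num
  have s11 : ¬ 11 * 11 ∣ Nat.card G := by rw [hG]; norm_num
  have s7 : ¬ 7 * 7 ∣ Nat.card G := by rw [hG]; norm_num
  have h23 : 23 ∣ Nat.card G := by rw [hG]; norm_num
  have l := ld h p23 s23
  have hW := (wdata l (.inl ⟨rfl, rfl, rfl⟩)).2.1
  have hP : ∀ s : G, orderOf s = 2 → (cc s % 23 != 0) = true := fun s hs => bne_iff_ne.2 fun e =>
    h.not_dvd p23 s23 Nat.prime_two (by norm_num) hs (by norm_num) (Nat.dvd_of_mod_eq_zero e)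
  obtain ⟨w, f, Y, W, d, k7'⟩ := exists_KB' hna p7 (by norm_num) (by norm_num) s7 (by rw [hG]; norm_num)
  have h1 := k7'.of_killAllP hna hN p7 (by norm_num) s7 p23 h23 (fun χ _ => hW χ)
    (fun _ hl => ff l (.inl ⟨rfl, rfl, rfl⟩) k7' (by norm_num) hl) hP (hG ▸ k7)
  have h2 := k.of_killAllP hna hN p11 (by norm_num) s11 p23 h23 (fun χ _ => hW χ)
    (fun _ hl => ff l (.inl ⟨rfl, rfl, rfl⟩) k (by norm_num) hl) hP (hG ▸ k11)
  have h3 := (l.compat (ld k7' p7 s7) (by norm_num)).1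
  have h4 := (l.compat (ld k p11 s11) (by norm_num)).1
  have h5 := ((ld k p11 s11).compat (ld k7' p7 s7) (by norm_num)).1
  simp only [Bool.or_eq_true, Bool.and_eq_true, bne_iff_ne, beq_iff_eq, Prod.mk.injEq] at h1 h2
  rcases h2 with h2 | h2 | h2
  · exact h2
  · omega
  have h7 : 7 ∣ X := by omega
  obtain ⟨rfl, rfl⟩ : f = 6 ∧ Y = 22 := by omega
  obtain ⟨m, m1, m2, m3, m4, m5, -⟩ := ((ld k p11 s11).compat (ld k7' p7 s7) (by norm_num)).2 h7
  have m6 : m ≤ 924 := Nat.le_of_dvd (by norm_num) m4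
  have m7 : m = 924 := by
    obtain ⟨i, rfl⟩ := m1
    have : i ≤ 2 := by omega
    interval_cases i <;> omega
  subst m7
  have e1 := k.dvd
  have e2 := k.ne
  have e3 : e ≤ 10 := Nat.le_of_dvd (by norm_num) e1
  interval_cases e <;> omega

theorem loc5 (h : KB 23 11 1 x T a) (k : KB 11 5 1 y U b) (j : KB 5 e X z V c) : e = 4 ∧ X = 3 := by
  have hN : Nat.card G ∣ 244823040 := by rw [hG]; norm_num
  have p23 : Nat.Prime 23 := by norm_num
  have p11 : Nat.Prime 11 := by norm_num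
  have p5 : Nat.Prime 5 := by norm_num
  have s23 : ¬ 23 * 23 ∣ Nat.card G := by rw [hG]; norm_num
  have s11 : ¬ 11 * 11 ∣ Nat.card G := by rw [hG]; norm_num
  have s5 : ¬ 5 * 5 ∣ Nat.card G := by rw [hG]; norm_num
  have l := ld h p23 s23
  have l' := ld k p11 s11
  have h1 := j.of_killAllP hna hN p5 (by norm_num) s5 p23 (by rw [hG]; norm_num)
    (fun χ _ => Bool.and_eq_true_iff.2 ⟨(wdata l (.inl ⟨rfl, rfl, rfl⟩)).2.1 χ,
      (wdata l' (.inr ⟨rfl, rfl, rfl⟩)).2.1 χ⟩)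
    (fun _ hl => Bool.and_eq_true_iff.2 ⟨ff l (.inl ⟨rfl, rfl, rfl⟩) j (by norm_num) hl,
      ff l' (.inr ⟨rfl, rfl, rfl⟩) j (by norm_num) hl⟩)
    (fun s hs => Bool.and_eq_true_iff.2 ⟨bne_iff_ne.2 fun e => h.not_dvd p23 s23 Nat.prime_two
      (by norm_num) hs (by norm_num) (Nat.dvd_of_mod_eq_zero e), bne_iff_ne.2 fun e =>
        k.not_dvd p11 s11 Nat.prime_two (by norm_num) hs (by norm_num) (Nat.dvd_of_mod_eq_zero e)⟩)
    (hG ▸ k5)
  have h3 := (l.compat (ld j p5 s5) (by norm_num)).1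
  have h4 := (l'.compat (ld j p5 s5) (by norm_num)).1
  simp only [Bool.or_eq_true, beq_iff_eq, Prod.mk.injEq] at h1
  omega

theorem tab11 (h : KB 23 11 1 x T a) (k : KB 11 5 1 y U b) (j : KB 5 4 3 z V c) :
    ∃ s : G, orderOf s = 2 ∧ cc s = 2688 ∧ (D11 : Multiset (ℕ × ℤ)) = rws U b ∧
      (V11 : Multiset Row) = (U.filter fun χ => b χ ≠ 0).val.map (fun χ => (deg χ.1, b χ, iv χ.1 s)) ∧
      1 ≤ cn V 231 ∧ 1 ≤ cn V 2024 := by
  have hN : Nat.card G ∣ 244823040 := by rw [hG]; norm_num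
  have p23 : Nat.Prime 23 := by norm_num
  have p11 : Nat.Prime 11 := by norm_num
  have p5 : Nat.Prime 5 := by norm_num
  have s23 : ¬ 23 * 23 ∣ Nat.card G := by rw [hG]; norm_num
  have s11 : ¬ 11 * 11 ∣ Nat.card G := by rw [hG]; norm_num
  have s5 : ¬ 5 * 5 ∣ Nat.card G := by rw [hG]; norm_num
  have l := ld h p23 s23
  have l' := ld k p11 s11
  have hW : ∀ χ : IrrCharacter G, (WW 23 6 (deg χ.1) && WW 11 4 (deg χ.1)) = true := fun χ =>
    Bool.and_eq_true_iff.2 ⟨(wdata l (.inl ⟨rfl, rfl, rfl⟩)).2.1 χ,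
      (wdata l' (.inr ⟨rfl, rfl, rfl⟩)).2.1 χ⟩
  obtain ⟨s, hs, h1⟩ := exists_two_central (G := G) (by rw [hG]; norm_num)
  have h2 := c6 _ (mem_dvN (by norm_num) (hG ▸ cc_dvd s))
    (fun e => j.not_dvd p5 s5 Nat.prime_two (by norm_num) hs (by norm_num) (Nat.dvd_of_mod_eq_zero e))
    (fun e => k.not_dvd p11 s11 Nat.prime_two (by norm_num) hs (by norm_num) (Nat.dvd_of_mod_eq_zero e))
    (fun e => h.not_dvd p23 s23 Nat.prime_two (by norm_num) hs (by norm_num) (Nat.dvd_of_mod_eq_zero e))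
    fun e => h1 (hG ▸ Nat.dvd_of_mod_eq_zero e)
  have h3 : (1 ≤ cn V 896 ∧ 1 ≤ cn V 644) ∨ (cc s ∈ C4 ∧ (1 ≤ cn V 736 ∨
      (2 ≤ cn V 896 ∧ (1 ≤ cn V 231 ∧ 1 ≤ cn V 2024)))) := by
    by_contra hn
    obtain ⟨r, -, -, r3, -⟩ := j.st2 s hs
    have h4 := t5
    rw [← hG, j.k1P hna hN (fun χ _ => hW χ) fun D hD => ?_] at h4
    · cases h4
    rw [ff l (.inl ⟨rfl, rfl, rfl⟩) j (by norm_num) hD, ff l' (.inr ⟨rfl, rfl, rfl⟩) j (by norm_num) hD,
      Bool.true_and, Bool.true_and, List.any_eq_true]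
    refine ⟨_, h2, Bool.and_eq_true_iff.2 ⟨?_, List.any_eq_true.2 ⟨r, by cases r <;> simp,
      r3.vs2 hD (fun _ _ => rfl) r3.nrm fun _ _ => rfl⟩⟩⟩
    rw [Bool.not_eq_true', ← Bool.not_eq_true]
    simpa only [ok5, cnt_eq hD, Bool.or_eq_true, Bool.and_eq_true, Nat.ble_eq, List.contains_eq_mem,
      decide_eq_true_eq] using hn
  have c1 := cn_le k j.ne1 (d := 896) (by norm_num)
  have c2 := cn_le k j.ne1 (d := 644) (by norm_num)
  have c3 := cn_le k j.ne1 (d := 736) (by norm_num)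
  have h5 : cc s = 2688 ∧ (D11 : Multiset (ℕ × ℤ)) = rws U b ∧ (V11 : Multiset Row) =
      (U.filter fun χ => b χ ≠ 0).val.map (fun χ => (deg χ.1, b χ, iv χ.1 s)) := by
    by_contra hn
    obtain ⟨r, -, r2, r3, -⟩ := k.st2 s hs
    obtain rfl := r2 rfl
    have h4 := t11
    rw [← hG, k.k1P hna hN (fun χ _ => hW χ) fun D hD => ?_] at h4
    · cases h4
    rw [ff l (.inl ⟨rfl, rfl, rfl⟩) k (by norm_num) hD, Bool.true_and]
    simp only [cnt_eq hD, Bool.or_eq_true, Bool.and_eq_true, Nat.ble_eq, List.any_eq_true]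
    refine h3.imp (fun e => by omega) fun e => ⟨by omega, _, e.1,
      r3.vs2 hD (fun _ _ => rfl) r3.nrm fun L hL => ?_⟩
    rw [Bool.not_eq_true', ← Bool.not_eq_true]
    simp only [Bool.and_eq_true, beq_iff_eq, List.isPerm_iff, ← Multiset.coe_eq_coe, hD, hL]
    exact fun e => hn ⟨e.1, e.2.1.symm, e.2.2.symm⟩
  have c4 := cnt_eq h5.2.1 644
  have c5 := cnt_eq h5.2.1 736
  rw [show cnt 644 D11 = 0 from rfl] at c4
  rw [show cnt 736 D11 = 0 from rfl] at c5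
  exact ⟨s, hs, h5.1, h5.2.1, h5.2.2, by omega⟩

theorem tab23 (h : KB 23 11 1 x T a) (k : KB 11 5 1 y U b) (j : KB 5 4 3 z V c) :
    cn T 22 = 1 ∧ ∀ χ ∈ T, 253 ≤ deg χ.1 ∨ deg χ.1 ∈ [22, 45, 231] := by
  classical
  have hN : Nat.card G ∣ 244823040 := by rw [hG]; norm_num
  obtain ⟨s, hs, h1, h2, h3, h4, h5⟩ := tab11 hna hG h k j
  by_contra hn
  obtain ⟨r, -, r2, r3, -⟩ := h.st2 s hs
  obtain rfl := r2 rfl
  have h6 := t23
  rw [← hG, h.k1P hna hN (fun χ hχ => k.degs h2 χ (h.ne1 χ hχ)) fun D hD => ?_] at h6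
  · cases h6
  rw [Bool.or_eq_true, or_iff_not_imp_left]
  intro h7
  have h8 : ∀ χ : IrrCharacter G, deg χ.1 % 23 = 0 → χ ∉ T := fun χ e hχ =>
    h7 (List.any_eq_true.2 ⟨_, (mem_rws hD).2 ⟨χ, hχ, rfl⟩, beq_iff_eq.2 e⟩)
  have ho : (⟨1, irr_one⟩ : IrrCharacter G) ∉ T := fun e => h.ne1 _ e rfl
  have hV : ∀ w, w ∈ V11 ↔ ∃ χ ∈ U.filter fun χ => b χ ≠ 0, (deg χ.1, b χ, iv χ.1 s) = w := fun w => by
    rw [← Multiset.mem_coe, h3, Multiset.mem_map]
    rfl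
  have hne : ∀ {χ ψ : IrrCharacter G} {m n : ℕ}, deg χ.1 = m → deg ψ.1 = n → m ≠ n → χ ≠ ψ :=
    fun e1 e2 e3 e => e3 (by rw [← e1, ← e2, e])
  have hn1 : ∀ {ψ : IrrCharacter G} {n : ℕ}, deg ψ.1 = n → 1 ≠ n → ⟨1, irr_one⟩ ≠ ψ :=
    hne (χ := ⟨1, irr_one⟩) deg_one
  have c1 := cn_le k h.ne1 (d := 896) (by norm_num)
  have c2 := cn_le h k.ne1 (d := 896) (by norm_num)
  have c3 := cn_le k h.ne1 (d := 45) (by norm_num)
  have c4 := cn_le h k.ne1 (d := 45) (by norm_num)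
  have c5 := cn_le h j.ne1 (d := 231) (by norm_num)
  have c6 := cnt_eq h2 896
  have c7 := cnt_eq h2 45
  rw [show cnt 896 D11 = 2 from rfl] at c6
  rw [show cnt 45 D11 = 2 from rfl] at c7
  have d1 : ∑ χ ∈ T, m5 (deg χ.1) ≤ 13 := by
    obtain ⟨ψ, hψ⟩ := card_pos.1 h5
    have e1 := (mem_filter.1 hψ).2
    have e2 := (sum_le_sum_of_subset (f := fun χ : IrrCharacter G => m5 (deg χ.1))
      (subset_univ (insert ⟨1, irr_one⟩ (insert ψ T)))).trans
      (m5_le (ld j (by norm_num) (by rw [hG]; norm_num)))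
    rw [sum_insert (by simp [ho, hn1 e1]), sum_insert (h8 ψ (by rw [e1])), deg_one, e1,
      show m5 1 = 1 from rfl, show m5 2024 = 1 from rfl] at e2
    omega
  have d2 : ∑ χ ∈ T, (iv χ.1 s).natAbs * (iv χ.1 s).natAbs ≤ 1474 := by
    have hss := Block.mul_self_of_orderOf hs
    have e3 := sum_iv (perfect hna) hss hss
    rw [if_pos (IsConj.refl s), h1] at e3
    have e4 : ∑ χ : IrrCharacter G, (iv χ.1 s).natAbs * (iv χ.1 s).natAbs = 2688 := by
      zify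
      simpa only [abs_mul_abs_self, Nat.cast_ofNat] using e3
    obtain ⟨ψ, -, e5⟩ := (hV (1035, 1, 27)).1 (by decide)
    obtain ⟨θ, -, e6⟩ := (hV (230, -1, 22)).1 (by decide)
    simp only [Prod.mk.injEq] at e5 e6
    have e2 := sum_le_sum_of_subset (f := fun χ : IrrCharacter G =>
      (iv χ.1 s).natAbs * (iv χ.1 s).natAbs) (subset_univ (insert ⟨1, irr_one⟩ (insert ψ (insert θ T))))
    rw [sum_insert (by simp [ho, hn1 e5.1, hn1 e6.1]),
      sum_insert (by simp [h8 ψ (by rw [e5.1]), hne e5.1 e6.1]), sum_insert (h8 θ (by rw [e6.1])), e4,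
      e5.2.2, e6.2.2, iv_of_eq (v := 1) (by simp)] at e2
    norm_num only [Int.reduceAbs] at e2
    omega
  have d3 : ∀ χ ∈ T, (deg χ.1 != 45 || iv χ.1 s == -3) = true := fun χ hχ => by
    rw [Bool.or_eq_true, bne_iff_ne, beq_iff_eq, or_iff_not_imp_left, not_not]
    intro e
    have e1 := k.mem rfl χ (h.ne1 χ hχ) (by rw [e]; norm_num)
    have e2 := (mem_rws h2).2 ⟨χ, e1, rfl⟩
    have e3 : b χ = 1 := by simpa [D11, e] using e2
    simpa [V11, e, e3] using (hV _).2 ⟨χ, mem_filter.2 ⟨e1, by omega⟩, rfl⟩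
  simp only [cnt_eq hD, sum_rws hD, Bool.and_eq_true, beq_iff_eq, Nat.ble_eq]
  refine ⟨by omega, by omega, by omega, d1, ?_, h1 ▸ r3.vs2 hD d3 d2 fun _ _ => rfl⟩
  rw [Bool.not_eq_true', ← Bool.not_eq_true]
  simp only [good, cnt_eq hD, Bool.and_eq_true, beq_iff_eq, List.all_eq_true, Bool.or_eq_true,
    Nat.ble_eq, List.contains_eq_mem, decide_eq_true_eq]
  exact fun e => hn ⟨e.1, fun χ hχ => e.2 _ ((mem_rws hD).2 ⟨χ, hχ, rfl⟩)⟩

theorem idx (h : LD 23 11 1 x) : ∃ H : Subgroup G, H.index = 23 := by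
  have := Fintype.ofFinite G
  obtain ⟨e, X, T, a, h'⟩ := exists_KB hna (by norm_num) (by norm_num) (by norm_num) h.sq h.ord
  obtain rfl : X = 1 := by have := h'.ccx; have := h.ccx; omega
  obtain rfl : e = 11 := by have := h'.nrm; have := h.nrm; omega
  obtain ⟨y, _, _, U, b, k⟩ := exists_KB' hna (p := 11) (by norm_num) (by norm_num) (by norm_num)
    (by rw [hG]; norm_num) (by rw [hG]; norm_num)
  obtain ⟨z, _, _, V, c, j⟩ := exists_KB' hna (p := 5) (by norm_num) (by norm_num) (by norm_num)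
    (by rw [hG]; norm_num) (by rw [hG]; norm_num)
  obtain ⟨rfl, rfl⟩ := loc11 hna hG h' k
  obtain ⟨rfl, rfl⟩ := loc5 hna hG h' k j
  obtain ⟨-, -, -, h2, -⟩ := tab11 hna hG h' k j
  obtain ⟨h3, h4⟩ := tab23 hna hG h' k j
  have hU : ∀ ψ ∈ U, deg ψ.1 ∈ [45, 230, 896, 1035] := fun ψ hψ =>
    (by decide : ∀ w ∈ D11, w.1 ∈ [45, 230, 896, 1035]) _ ((mem_rws h2).2 ⟨ψ, hψ, rfl⟩)
  obtain ⟨χ, h5⟩ := card_eq_one.1 h3
  have h6 := (mem_filter.1 (h5 ▸ mem_singleton_self χ)).2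
  have hd : ∀ ψ, IsIrrCharacter G ψ → ψ ≠ 1 → deg ψ ≤ 252 → deg ψ ∈ [22, 45, 230, 231] := by
    intro ψ hψ h7 h8
    have e1 := fun e => h4 _ (h'.mem rfl ⟨ψ, hψ⟩ h7 e)
    have e2 := fun e => hU _ (k.mem rfl ⟨ψ, hψ⟩ h7 e)
    have e3 := irr_deg_pos hψ
    simp only [List.mem_cons, List.not_mem_nil, or_false] at e1 e2 ⊢
    omega
  refine Alg.idx23 χ.2 h6 (fun ψ hψ e => ?_) hd (nosp23 hna hG k hU χ.2 h6 hd)
  have : (⟨ψ, hψ⟩ : IrrCharacter G) ∈ ({χ} : Finset _) := h5 ▸ mem_filter.2 ⟨h'.mem rfl _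
    (fun e' => by rw [show ψ = 1 from e', deg_one] at e; omega) (by rw [e]; norm_num), e⟩
  exact congrArg Subtype.val (mem_singleton.1 this)

end Cfsg.Agent.MK.T23

namespace Cfsg.Agent.MK

/-- A simple group of order `10200960` in which `23:11` is a Sylow normaliser is `M₂₃`. -/
theorem isoM23 {G : Type*} [Group G] [Finite G] [IsSimpleGroup G] (hna : ¬ IsMulCommutative G)
    (hG : Nat.card G = 10200960) {x : G} (h : LD 23 11 1 x) : Spor.IsoM23 G :=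
  (T23.idx hna hG h).elim fun _ hK => geo23 hG hK

end Cfsg.Agent.MK
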