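import Cfsg.Agent.F11.Util
import Cfsg.Agent.Mat.Frob

/-! A fourfold transitive group of degree 23 and order 10200960 preserves a family of octads. -/

set_option autoImplicit false
set_option linter.unusedSectionVars false

namespace Cfsg.Agent.MK

open Subgroup MulAction Cfsg.Agent.Local Cfsg.Agent.F11
open scoped Pointwise

variable {H Ω : Type*} [Group H] [Finite H] [MulAction H Ω] [Finite Ω]

/-- Injective quadruples in a set. -/
def Tup (S : Set Ω) : Set (Fin 4 → Ω) := {f | Function.Injective f ∧ ∀ i, f i ∈ S}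

theorem ncard_Tup (S : Set Ω) : (Tup S).ncard = S.ncard.descFactorial 4 := by
  classical
  have := Fintype.ofFinite S
  rw [← Nat.card_coe_set_eq, ← Nat.card_coe_set_eq, Nat.card_eq_fintype_card (α := S)]
  conv_rhs => rw [← Fintype.card_fin 4, ← Fintype.card_embedding_eq, ← Nat.card_eq_fintype_card]
  exact Nat.card_congr ⟨fun f => ⟨fun i => ⟨f.1 i, f.2.2 i⟩, fun i j e => f.2.1 (congrArg Subtype.val e)⟩,
    fun f => ⟨fun i => f i, Subtype.val_injective.comp f.injective, fun i => (f i).2⟩, fun _ => rfl, fun _ => rfl⟩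

theorem exists_Tup {S : Set Ω} (h : 4 ≤ S.ncard) : ∃ f, f ∈ Tup S :=
  Set.nonempty_of_ncard_ne_zero (by rw [ncard_Tup]; exact (Nat.descFactorial_pos.2 h).ne')

theorem mem_stab {g : H} {f : Fin 4 → Ω} : g ∈ stabilizer H f ↔ ∀ i, g • f i = f i := by
  rw [mem_stabilizer_iff, funext_iff]; rfl

/-- Fixed points of an element. -/
def fx (Ω : Type*) [MulAction H Ω] (g : H) : Set Ω := {a | g • a = a}

/-- Fixed points of a subgroup. -/
def Fx (Ω : Type*) [MulAction H Ω] (T : Subgroup H) : Set Ω := {a | ∀ t ∈ T, t • a = a}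

/-- The hypotheses: `H` fixes `p` and is fourfold transitive on the other 23 points. -/
structure W (H : Type*) [Group H] [MulAction H Ω] (p : Ω) : Prop where
  card : Nat.card H = 10200960
  cΩ : Nat.card Ω = 24
  fai : ∀ g : H, (∀ a : Ω, g • a = a) → g = 1
  fix : ∀ g : H, g • p = p
  tr : ∀ f ∈ Tup {p}ᶜ, ∀ f' ∈ Tup {p}ᶜ, ∃ g : H, g • f = f'

theorem Fx_smul {T : Subgroup H} {n : H} (hn : n ∈ normalizer (T : Set H)) {a : Ω} (ha : a ∈ Fx Ω T) :
    n • a ∈ Fx Ω T := fun t ht => by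
  have := ha _ (inv_conj_mem_of_mem_normalizer hn ht)
  rwa [mul_smul, mul_smul, inv_smul_eq_iff] at this

theorem Tup_smul {S : Set Ω} {g : H} (h : ∀ a ∈ S, g • a ∈ S) {f : Fin 4 → Ω} (hf : f ∈ Tup S) : g • f ∈ Tup S :=
  ⟨(MulAction.injective g).comp hf.1, fun i => h _ (hf.2 i)⟩

theorem le16 {p : ℕ} (h : p ∣ 16) (h5 : p % 5 = 1) : p = 1 ∨ p = 16 := by
  have := Nat.le_of_dvd (by decide) h
  interval_cases p <;> simp_all

/-- Octads: large fixed point sets of involutions. -/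
def Oc (H : Type*) [Group H] [MulAction H Ω] (O : Set Ω) : Prop :=
  ∃ t : H, t * t = 1 ∧ t ≠ 1 ∧ O = fx Ω t ∧ 5 ≤ O.ncard

theorem fx_conj (g t : H) : fx Ω (g * t * g⁻¹) = g • fx Ω t := by
  ext a
  rw [Set.mem_smul_set_iff_inv_smul_mem]
  simp only [fx, Set.mem_setOf_eq, mul_smul, smul_eq_iff_eq_inv_smul g]

theorem Oc.smul {O : Set Ω} (h : Oc H O) (g : H) : Oc H (g • O) := by
  obtain ⟨t, h1, h2, rfl, h3⟩ := h
  exact ⟨g * t * g⁻¹, by rw [conj_mul, h1, mul_one, mul_inv_cancel], fun e => h2 (conj_eq_one_iff.1 e),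
    (fx_conj g t).symm, by rwa [Set.ncard_smul_set]⟩

theorem inf_ne_bot {A B K : Subgroup H} (hA : A ≤ K) (hB : B ≤ K) (h : Nat.card K < Nat.card A * Nat.card B) :
    ∃ d ∈ A, d ∈ B ∧ d ≠ 1 := by
  by_contra hn
  push Not at hn
  refine h.not_ge ?_
  rw [← Nat.card_prod]
  refine Nat.card_le_card_of_injective (fun z : A × B => (⟨z.1 * z.2, mul_mem (hA z.1.2) (hB z.2.2)⟩ : K))
    fun z w e => ?_
  have h1 : (w.1 : H)⁻¹ * z.1 = w.2 * (z.2 : H)⁻¹ := by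
    rw [inv_mul_eq_iff_eq_mul, ← mul_assoc, eq_mul_inv_iff_mul_eq]; exact congrArg Subtype.val e
  have h2 := hn _ (mul_mem (inv_mem w.1.2) z.1.2) (h1 ▸ mul_mem w.2.2 (inv_mem z.2.2))
  exact Prod.ext (Subtype.ext (inv_mul_eq_one.1 h2).symm) (Subtype.ext (mul_inv_eq_one.1 (h1 ▸ h2)).symm)

theorem even_of_free {s : H} (hs : s * s = 1) {D : Set Ω} (h1 : ∀ a ∈ D, s • a ∈ D) (h2 : ∀ a ∈ D, s • a ≠ a) :
    D.ncard % 2 = 0 := by
  rw [U.fix_mod_elt Nat.prime_two (g := s) (k := 1) (by rw [pow_one, pow_two, hs]) (Set.toFinite D) h1,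
    show {a | a ∈ D ∧ s • a = a} = ∅ from Set.eq_empty_of_forall_notMem fun a ha => h2 a ha.1 ha.2,
    Set.ncard_empty]

namespace W

variable {p : Ω} (h : W H p) {f : Fin 4 → Ω} {T : Subgroup H}
include h

theorem smul_ne (g : H) {a : Ω} (ha : a ≠ p) : g • a ≠ p := fun e =>
  ha (MulAction.injective g (e.trans (h.fix g).symm))

theorem univ_card : (Set.univ : Set Ω).ncard = 24 := by rw [Set.ncard_univ, h.cΩ]

theorem ncard_compl (S : Set Ω) : S.ncard + Sᶜ.ncard = 24 := by rw [Set.ncard_add_ncard_compl, h.cΩ]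

theorem cardK (hf : f ∈ Tup {p}ᶜ) : Nat.card (stabilizer H f) = 48 := by
  have h1 := U.card_orbit (⊤ : Subgroup H) f
  have h2 : {b | ∃ g ∈ (⊤ : Subgroup H), g • f = b} = Tup {p}ᶜ := by
    ext b
    refine ⟨?_, fun hb => ?_⟩
    · rintro ⟨g, -, rfl⟩
      exact Tup_smul (S := {p}ᶜ) (fun a ha => h.smul_ne g ha) hf
    · obtain ⟨g, hg⟩ := h.tr f hf b hb
      exact ⟨g, mem_top g, hg⟩
  have h3 := h.ncard_compl {p}
  rw [Set.ncard_singleton] at h3
  rw [h2, ncard_Tup, top_inf_eq, card_top, h.card, show ({p}ᶜ : Set Ω).ncard = 23 by omega] at h1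
  simp only [Nat.descFactorial] at h1
  omega

theorem cardT (hf : f ∈ Tup {p}ᶜ) (hT : IsSylowIn 2 T (stabilizer H f)) : Nat.card T = 16 :=
  U.syl_card hT (k := 4) (m := 3) (h.cardK hf) (by decide)

theorem syl (hf : f ∈ Tup {p}ᶜ) (hT : Nat.card T = 16) (hl : T ≤ stabilizer H f) :
    IsSylowIn 2 T (stabilizer H f) :=
  U.syl_of_card hl (k := 4) (m := 3) hT (h.cardK hf) (by decide)

theorem mem_tup {g : H} (h5 : 5 ≤ (fx Ω g).ncard) : ∃ f ∈ Tup {p}ᶜ, g ∈ stabilizer H f := by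
  obtain ⟨f, hf⟩ := exists_Tup (S := fx Ω g \ {p}) (by
    have := Set.ncard_sdiff_singleton_add_one (show p ∈ fx Ω g from h.fix g)
    omega)
  exact ⟨f, ⟨hf.1, fun i => (hf.2 i).2⟩, mem_stab.2 fun i => (hf.2 i).1⟩

theorem witt (hf : f ∈ Tup {p}ᶜ) (hT : IsSylowIn 2 T (stabilizer H f)) :
    ∃ k, Nat.card (normalizer (T : Set H)) = (Fx Ω T \ {p}).ncard.descFactorial 4 * (16 * k) ∧
      4 ≤ (Fx Ω T \ {p}).ncard := by
  have h0 : f ∈ Tup (Fx Ω T \ {p}) := ⟨hf.1, fun i => ⟨fun t ht => mem_stab.1 (hT.le ht) i, hf.2 i⟩⟩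
  have h1 := U.card_orbit (normalizer (T : Set H)) f
  have h2 : {b | ∃ g ∈ normalizer (T : Set H), g • f = b} = Tup (Fx Ω T \ {p}) := by
    ext b
    refine ⟨?_, fun hb => ?_⟩
    · rintro ⟨g, hg, rfl⟩
      exact Tup_smul (S := Fx Ω T \ {p}) (fun a ha => ⟨Fx_smul hg ha.1, h.smul_ne g ha.2⟩) h0
    · have hb' : b ∈ Tup {p}ᶜ := ⟨hb.1, fun i => (hb.2 i).2⟩
      obtain ⟨g, hg⟩ := h.tr f hf b hb'
      have h3 := h.syl hb' (h.cardT hf hT) fun t ht => mem_stab.2 fun i => (hb.2 i).1 t ht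
      have h4 := hT.conj_smul g
      rw [← U.map_conj_eq g (stabilizer H f), ← stabilizer_smul_eq_stabilizer_map_conj, hg] at h4
      obtain ⟨n, hn, e⟩ := h4.exists_conj h3
      rw [conj_smul_conj_smul] at e
      exact ⟨n * g, mem_normalizer_iff_conj_smul_eq.2 e, by rw [mul_smul, hg, hn]⟩
  obtain ⟨k, hk⟩ := card_dvd_of_le (le_inf le_normalizer hT.le)
  rw [h2, ncard_Tup, hk, h.cardT hf hT] at h1
  refine ⟨k, h1, Nat.descFactorial_pos.1 ?_⟩
  rw [← ncard_Tup]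
  exact (Set.ncard_pos (Set.toFinite _)).2 ⟨f, h0⟩

theorem size (hf : f ∈ Tup {p}ᶜ) (hT : IsSylowIn 2 T (stabilizer H f)) :
    ((Fx Ω T).ncard = 6 ∨ (Fx Ω T).ncard = 8) ∧ 5 ∣ Nat.card (normalizer (T : Set H)) := by
  obtain ⟨k, h1, h2⟩ := h.witt hf hT
  have h3 := Set.ncard_sdiff_singleton_add_one (show p ∈ Fx Ω T from fun t _ => h.fix t)
  have h4 := U.fix_mod Nat.prime_two hT.isPGroup (Set.finite_univ (α := Ω)) fun _ _ _ _ => Set.mem_univ _
  have h5 : {a : Ω | a ∈ Set.univ ∧ ∀ t ∈ T, t • a = a} = Fx Ω T := by ext a; simp [Fx]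
  rw [h5, h.univ_card] at h4
  have h6 := h.ncard_compl (Fx Ω T)
  have h7 : (Fx Ω T).ncard ≠ 24 := fun e => by
    have h8 : Fx Ω T = Set.univ := Set.eq_of_subset_of_ncard_le (Set.subset_univ _) (by rw [e, h.univ_card])
    have h9 : T = ⊥ := eq_bot_iff.2 fun t ht => h.fai t fun a => (h8.ge (Set.mem_univ a)) t ht
    have := h.cardT hf hT
    rw [h9, card_bot] at this
    omega
  have h8 : (Fx Ω T \ {p}).ncard.descFactorial 4 * 16 ∣ 10200960 :=
    (Dvd.intro k (by rw [mul_assoc, ← h1])).trans (h.card ▸ card_subgroup_dvd_card _)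
  rw [h1]
  generalize (Fx Ω T \ {p}).ncard = m at *
  have h9 : m = 5 ∨ m = 7 := by
    have h10 : m < 23 := by omega
    have h11 : m % 2 = 1 := by omega
    revert h8 h11 h2
    interval_cases m <;> decide
  refine ⟨by omega, Dvd.dvd.mul_right ?_ _⟩
  rcases h9 with rfl | rfl <;> decide

theorem fx5 {x : H} (hx : orderOf x = 5) : (fx Ω x).ncard = 4 := by
  have h1 := U.fix_mod_elt Nat.prime_five (g := x) (k := 1) (by rw [pow_one, ← hx, pow_orderOf_eq_one])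
    (Set.finite_univ (α := Ω)) fun _ _ => Set.mem_univ _
  have h2 : {a : Ω | a ∈ Set.univ ∧ x • a = a} = fx Ω x := by ext a; simp [fx]
  rw [h2, h.univ_card] at h1
  by_contra h3
  obtain ⟨f, hf, h4⟩ := h.mem_tup (g := x) (by omega)
  have := orderOf_dvd_card_of_mem h4
  rw [hx, h.cardK hf] at this
  omega

theorem core (hf : f ∈ Tup {p}ᶜ) (hT : IsSylowIn 2 T (stabilizer H f)) :
    (Fx Ω T).ncard = 8 ∧ (∀ t ∈ T, t * t = 1) ∧ (∀ t ∈ T, t ≠ 1 → fx Ω t = Fx Ω T) ∧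
      ∀ a ∉ Fx Ω T, ∀ b ∉ Fx Ω T, ∃ t ∈ T, t • a = b := by
  obtain ⟨h1, h2⟩ := h.size hf hT
  have c16 := h.cardT hf hT
  obtain ⟨x, hxN, hx⟩ := exists_mem_orderOf_eq_of_dvd_card Nat.prime_five h2
  have x5 : x ^ 5 ^ 1 = 1 := by rw [pow_one, ← hx, pow_orderOf_eq_one]
  have h3 := h.fx5 hx
  have h4 := U.fix_mod_elt Nat.prime_five x5 (Set.toFinite (Fx Ω T)) fun a ha => Fx_smul hxN ha
  have h5 := Set.ncard_inter_add_ncard_sdiff_eq_ncard (fx Ω x) (Fx Ω T)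
  rw [show {a | a ∈ Fx Ω T ∧ x • a = a} = fx Ω x ∩ Fx Ω T from Set.inter_comm _ _] at h4
  have md : ∀ V ≤ T, x ∈ normalizer (V : Set H) →
      Nat.card V % 5 = {u | u ∈ V ∧ Commute u x}.ncard % 5 := fun V _ hV =>
    (U.ncard_coe V) ▸ Mat.ncard_modEq_commute Nat.prime_five hx (X := V) fun u hu r hr =>
      conj_mem_of_mem_normalizer (zpowers_le_of_mem hV hr) hu
  have hC : ∀ t ∈ T, Commute t x → t = 1 := by
    have h6 := md T le_rfl hxN
    have h7 : {u | u ∈ T ∧ Commute u x} = (T ⊓ centralizer {x} : Subgroup H) := by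
      ext u; simp [mem_centralizer_singleton_iff, commute_iff_eq]
    rw [h7, U.ncard_coe, c16] at h6
    rcases le16 (c16 ▸ card_dvd_of_le (inf_le_left : T ⊓ centralizer {x} ≤ T)) h6.symm with e | e
    · exact fun t ht hc => mem_bot.1 ((card_eq_one.1 e).le ⟨ht, mem_centralizer_singleton_iff.2 hc⟩)
    have h8 := (eq_of_le_of_card_ge (inf_le_left : T ⊓ centralizer {x} ≤ T) (by omega)).ge
    have h9 := U.fix_mod Nat.prime_two hT.isPGroup (Set.toFinite (fx Ω x \ Fx Ω T)) fun t ht a ha =>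
      ⟨(show x • t • a = t • a by rw [← mul_smul, ← mem_centralizer_singleton_iff.1 (h8 ht).2, mul_smul, ha.1]),
        fun e => ha.2 (by simpa using Fx_smul (inv_mem (le_normalizer ht)) e)⟩
    rw [show {a | a ∈ fx Ω x \ Fx Ω T ∧ ∀ t ∈ T, t • a = a} = ∅ from
      Set.eq_empty_of_forall_notMem fun a ha => ha.1.2 ha.2, Set.ncard_empty] at h9
    omega
  have sub : ∀ V ≤ T, (∀ u ∈ V, x * u * x⁻¹ ∈ V) → V = ⊥ ∨ V = T := fun V hV hn => by
    have h6 := md V hV (mem_normalizer_of_conj_mem hn)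
    rw [show {u | u ∈ V ∧ Commute u x} = {1} from Set.eq_singleton_iff_unique_mem.2
      ⟨⟨one_mem V, Commute.one_left x⟩, fun u hu => hC u (hV hu.1) hu.2⟩, Set.ncard_singleton] at h6
    exact (le16 (c16 ▸ card_dvd_of_le hV) h6).imp card_eq_one.1 fun e => eq_of_le_of_card_ge hV (by omega)
  have st : ∀ q ∈ fx Ω x \ Fx Ω T, T ⊓ stabilizer H q = ⊥ := fun q hq =>
    (sub (T ⊓ stabilizer H q) inf_le_left fun u hu => ⟨conj_mem_of_mem_normalizer hxN hu.1, show (x * u * x⁻¹) • q = q by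
      rw [mul_smul, mul_smul, inv_smul_eq_iff.2 (show x • q = q from hq.1).symm, show u • q = q from hu.2,
        show x • q = q from hq.1]⟩).resolve_right fun e => hq.2 fun t ht => (e.ge ht).2
  have ob : ∀ q ∈ fx Ω x \ Fx Ω T, {b | ∃ t ∈ T, t • q = b}.ncard = 16 ∧
      {b | ∃ t ∈ T, t • q = b} ⊆ (Fx Ω T)ᶜ := fun q hq => by
    have h6 := U.card_orbit T q
    rw [st q hq, card_bot, c16] at h6
    refine ⟨by omega, ?_⟩
    rintro _ ⟨t, ht, rfl⟩ e
    exact hq.2 (by simpa using Fx_smul (inv_mem (le_normalizer ht)) e)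
  have h6 := h.ncard_compl (Fx Ω T)
  have c8 : (Fx Ω T).ncard = 8 := h1.resolve_left fun e => by
    obtain ⟨q, hq, r, hr, hqr⟩ := (Set.one_lt_ncard (Set.toFinite (fx Ω x \ Fx Ω T))).1 (by omega)
    have h7 := Set.ncard_union_add_ncard_inter {b | ∃ t ∈ T, t • q = b} {b | ∃ t ∈ T, t • r = b}
    have h8 := Set.ncard_le_ncard (Set.union_subset (ob q hq).2 (ob r hr).2)
    rw [(ob q hq).1, (ob r hr).1] at h7
    obtain ⟨_, ⟨s, hs, rfl⟩, t, ht, e'⟩ := Set.nonempty_of_ncard_ne_zero (show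
      ({b | ∃ t ∈ T, t • q = b} ∩ {b | ∃ t ∈ T, t • r = b}).ncard ≠ 0 by omega)
    have h9 : (t⁻¹ * s) • q = r := by rw [mul_smul, ← e', inv_smul_smul]
    have h10 := mul_mem (inv_mem ht) hs
    generalize t⁻¹ * s = u at h9 h10
    have h11 : u⁻¹ * (x * u * x⁻¹) = 1 := mem_bot.1 ((st q hq).le ⟨T.mul_mem (T.inv_mem h10)
      (conj_mem_of_mem_normalizer hxN h10), show (u⁻¹ * (x * u * x⁻¹)) • q = q by
        rw [mul_smul, mul_smul, mul_smul, inv_smul_eq_iff.2 (show x • q = q from hq.1).symm, h9,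
          show x • r = r from hr.1, ← h9, inv_smul_smul]⟩)
    rw [hC u h10 (by rw [inv_mul_eq_one, eq_mul_inv_iff_mul_eq] at h11; exact h11), one_smul] at h9
    exact hqr h9
  obtain ⟨q, hq⟩ := Set.nonempty_of_ncard_ne_zero (show (fx Ω x \ Fx Ω T).ncard ≠ 0 by omega)
  have h7 := Set.eq_of_subset_of_ncard_le (ob q hq).2 (by rw [(ob q hq).1]; omega)
  refine ⟨c8, ?_, fun t ht h8 => Set.Subset.antisymm (fun a ha => by_contra fun h9 => ?_) fun a ha => ha t ht,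
    fun a ha b hb => ?_⟩
  · let V : Subgroup H :=
      { carrier := {t | t ∈ T ∧ t * t = 1 ∧ ∀ s ∈ T, Commute t s}
        one_mem' := ⟨one_mem T, one_mul 1, fun s _ => Commute.one_left s⟩
        mul_mem' := fun {a b} ha hb => ⟨mul_mem ha.1 hb.1, by
          rw [(ha.2.2 b hb.1).symm.mul_mul_mul_comm, ha.2.1, hb.2.1, one_mul],
          fun s hs => (ha.2.2 s hs).mul_left (hb.2.2 s hs)⟩
        inv_mem' := fun {a} ha => ⟨inv_mem ha.1, by rw [← mul_inv_rev, ha.2.1, inv_one],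
          fun s hs => (ha.2.2 s hs).inv_left⟩ }
    have h8 := (sub V (fun t ht => ht.1) fun u hu => ⟨conj_mem_of_mem_normalizer hxN hu.1, by
      rw [conj_mul, hu.2.1, mul_one, mul_inv_cancel], fun s hs => by
        simpa [mul_assoc] using (hu.2.2 _ (inv_conj_mem_of_mem_normalizer hxN hs)).map (MulAut.conj x)⟩).resolve_left
      fun e => by
        have : Nontrivial T := Finite.one_lt_card_iff_nontrivial.1 (by omega)
        have h9 := hT.isPGroup.center_nontrivial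
        obtain ⟨k, hk⟩ := (hT.isPGroup.to_subgroup (center T)).exists_card_eq
        obtain ⟨z, hz, z2⟩ := exists_mem_orderOf_eq_of_dvd_card (H := center T) Nat.prime_two (by
          rw [hk]
          refine dvd_pow_self 2 fun e => ?_
          have := Finite.one_lt_card_iff_nontrivial.2 h9
          rw [hk, e] at this
          omega)
        refine U.ne_one_of_ord z2 (by decide) (Subtype.ext (mem_bot.1 (e.le ⟨z.2, ?_, fun s hs => ?_⟩)))
        · exact congrArg Subtype.val (U.sq_of_two z2)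
        · exact (congrArg Subtype.val (mem_center_iff.1 hz ⟨s, hs⟩)).symm
    exact fun t ht => (h8.ge ht).2.1
  · obtain ⟨s, hs, rfl⟩ := h7.ge h9
    have h10 : s⁻¹ * t * s = 1 := mem_bot.1 ((st q hq).le ⟨T.mul_mem (T.mul_mem (T.inv_mem hs) ht) hs,
      show (s⁻¹ * t * s) • q = q by rw [mul_smul, mul_smul, show t • s • q = s • q from ha, inv_smul_smul]⟩)
    exact h8 (by simpa [mul_assoc] using congrArg (fun y => s * y * s⁻¹) h10)
  · obtain ⟨s, hs, rfl⟩ := h7.ge ha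
    obtain ⟨t, ht, rfl⟩ := h7.ge hb
    exact ⟨t * s⁻¹, mul_mem ht (inv_mem hs), by rw [mul_smul, inv_smul_smul]⟩

theorem exists_syl {t : H} (ht : t * t = 1) (hf : t ∈ stabilizer H f) :
    ∃ T, IsSylowIn 2 T (stabilizer H f) ∧ t ∈ T := by
  obtain ⟨T, h1, h2⟩ := exists_isSylowIn_ge (p := 2) (Q := zpowers t) (by
    rcases eq_or_ne t 1 with rfl | e
    · rw [zpowers_one_eq_bot]; exact IsPGroup.of_bot
    · exact IsPGroup.of_card (n := 1) (by rw [Nat.card_zpowers, U.two_of_sq ht e, pow_one]))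
    (zpowers_le_of_mem hf)
  exact ⟨T, h1, h2 (mem_zpowers t)⟩

theorem oc_syl {O : Set Ω} (hO : Oc H O) :
    ∃ f ∈ Tup {p}ᶜ, ∃ T, IsSylowIn 2 T (stabilizer H f) ∧ O = Fx Ω T := by
  obtain ⟨t, h1, h2, rfl, h3⟩ := hO
  obtain ⟨f, hf, h4⟩ := h.mem_tup h3
  obtain ⟨T, hT, ht⟩ := h.exists_syl h1 h4
  exact ⟨f, hf, T, hT, (h.core hf hT).2.2.1 t ht h2⟩

theorem oc_card {O : Set Ω} (hO : Oc H O) : O.ncard = 8 := by
  obtain ⟨f, hf, T, hT, rfl⟩ := h.oc_syl hO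
  exact (h.core hf hT).1

theorem oc_ex : ∃ O : Set Ω, Oc H O := by
  have h1 := h.ncard_compl {p}
  rw [Set.ncard_singleton] at h1
  obtain ⟨f, hf⟩ := exists_Tup (S := ({p}ᶜ : Set Ω)) (by omega)
  obtain ⟨T, hT⟩ := exists_isSylowIn 2 (stabilizer H f)
  obtain ⟨t, ht, h2⟩ := exists_mem_orderOf_eq_of_dvd_card (H := T) Nat.prime_two (by rw [h.cardT hf hT]; decide)
  have h3 := U.ne_one_of_ord h2 (by decide)
  exact ⟨_, t, U.sq_of_two h2, h3, rfl, by rw [(h.core hf hT).2.2.1 t ht h3, (h.core hf hT).1]; decide⟩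

theorem oc_eq {O O' : Set Ω} (hO : Oc H O) (hO' : Oc H O') (h5 : 5 ≤ (O ∩ O').ncard) : O = O' := by
  obtain ⟨t, h1, h2, rfl, -⟩ := hO
  obtain ⟨s, k1, k2, rfl, -⟩ := hO'
  obtain ⟨f, hf⟩ := exists_Tup (S := (fx Ω t ∩ fx Ω s) \ {p}) (by
    have := Set.ncard_sdiff_singleton_add_one (show p ∈ fx Ω t ∩ fx Ω s from ⟨h.fix t, h.fix s⟩)
    omega)
  have hf' : f ∈ Tup {p}ᶜ := ⟨hf.1, fun i => (hf.2 i).2⟩
  obtain ⟨T, hT, ht⟩ := h.exists_syl h1 (mem_stab.2 fun i => (hf.2 i).1.1)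
  obtain ⟨S, hS, hs⟩ := h.exists_syl k1 (mem_stab.2 fun i => (hf.2 i).1.2)
  obtain ⟨d, d1, d2, d3⟩ := inf_ne_bot hT.le hS.le (by rw [h.cardK hf', h.cardT hf' hT, h.cardT hf' hS]; decide)
  rw [(h.core hf' hT).2.2.1 t ht h2, (h.core hf' hS).2.2.1 s hs k2, ← (h.core hf' hT).2.2.1 d d1 d3,
    (h.core hf' hS).2.2.1 d d2 d3]

theorem oc_even {O O' : Set Ω} (hO : Oc H O) (hO' : Oc H O') : (O ∩ O').ncard % 2 = 0 := by
  classical
  by_contra hn
  have c8 := h.oc_card hO'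
  have h1 : (O ∩ O').ncard < 5 := not_le.1 fun e => by
    rw [h.oc_eq hO hO' e, Set.inter_self, c8] at hn
    omega
  obtain ⟨f, hf, T, hT, rfl⟩ := h.oc_syl hO
  obtain ⟨-, k1, k2, k3⟩ := h.core hf hT
  have h2 := Set.ncard_inter_add_ncard_sdiff_eq_ncard O' (Fx Ω T)
  rw [Set.inter_comm] at h2
  choose! φ φ1 φ2 using k3
  have h3 : ((T : Set H) \ {1}).ncard = 15 := by
    have := Set.ncard_sdiff_singleton_add_one (show (1 : H) ∈ (T : Set H) from one_mem T)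
    rw [U.ncard_coe, h.cardT hf hT] at this
    omega
  obtain ⟨s, hs, h4⟩ := Finset.exists_lt_card_fiber_of_mul_lt_card_of_maps_to
    (s := (Set.toFinite (O' \ Fx Ω T)).toFinset.offDiag) (t := (Set.toFinite ((T : Set H) \ {1})).toFinset)
    (f := fun z => φ z.1 z.2) (n := 3 - (Fx Ω T ∩ O').ncard) (fun z hz => by
      simp only [Finset.mem_offDiag, Set.Finite.mem_toFinset] at hz ⊢
      refine ⟨φ1 _ hz.1.2 _ hz.2.1.2, fun e => hz.2.2 ?_⟩
      rw [← φ2 _ hz.1.2 _ hz.2.1.2, show φ z.1 z.2 = 1 from e, one_smul]) (by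
      rw [Finset.offDiag_card, ← Set.ncard_eq_toFinset_card, ← Set.ncard_eq_toFinset_card, h3]
      rcases (by omega : (Fx Ω T ∩ O').ncard = 1 ∧ (O' \ Fx Ω T).ncard = 7 ∨
        (Fx Ω T ∩ O').ncard = 3 ∧ (O' \ Fx Ω T).ncard = 5) with ⟨e, e'⟩ | ⟨e, e'⟩ <;> rw [e, e'] <;> decide)
  rw [Set.Finite.mem_toFinset] at hs
  have ss : ∀ a : Ω, s • s • a = a := fun a => by rw [← mul_smul, k1 s hs.1, one_smul]
  have fr : ∀ a ∉ Fx Ω T, s • a ≠ a := fun a ha e => ha ((k2 s hs.1 hs.2).le e)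
  have h5 : 3 - (Fx Ω T ∩ O').ncard < {a | a ∈ O' \ Fx Ω T ∧ s • a ∈ O' \ Fx Ω T}.ncard := by
    refine h4.trans_le ?_
    rw [← Set.ncard_coe_finset]
    refine Set.ncard_le_ncard_of_injOn Prod.fst (fun z hz => ?_) fun z hz w hw e => ?_
    · simp only [Finset.coe_filter, Finset.mem_offDiag, Set.Finite.mem_toFinset, Set.mem_setOf_eq] at hz
      exact ⟨hz.1.1, by rw [← hz.2, φ2 _ hz.1.1.2 _ hz.1.2.1.2]; exact hz.1.2.1⟩
    · simp only [Finset.coe_filter, Finset.mem_offDiag, Set.Finite.mem_toFinset, Set.mem_setOf_eq] at hz hw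
      refine Prod.ext e ?_
      rw [← φ2 _ hz.1.1.2 _ hz.1.2.1.2, ← φ2 _ hw.1.1.2 _ hw.1.2.1.2, hz.2, hw.2, e]
  have h6 := even_of_free (k1 s hs.1) (D := {a | a ∈ O' \ Fx Ω T ∧ s • a ∈ O' \ Fx Ω T})
    (fun a ha => ⟨ha.2, by rw [ss]; exact ha.1⟩) fun a ha => fr a ha.1.2
  have h7 := Set.ncard_union_eq (s := Fx Ω T ∩ O') (t := {a | a ∈ O' \ Fx Ω T ∧ s • a ∈ O' \ Fx Ω T})
    (Set.disjoint_left.2 fun a ha hb => hb.1.2 ha.1)
  have h10 : (Fx Ω T ∩ O') ∪ {a | a ∈ O' \ Fx Ω T ∧ s • a ∈ O' \ Fx Ω T} ⊆ O' ∩ s • O' := Set.union_subset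
    (fun a ha => ⟨ha.2, a, ha.2, ha.1 s hs.1⟩) fun a ha => ⟨ha.1.1, s • a, ha.2.1, ss a⟩
  have h11 := Set.ncard_le_ncard h10
  have h8 := h.oc_eq hO' (hO'.smul s) (by omega)
  have h9 := even_of_free (k1 s hs.1) (D := O' \ Fx Ω T) (fun a ha => ⟨h8.ge ⟨a, ha.1, rfl⟩, fun e =>
    ha.2 (by simpa only [ss] using Fx_smul (le_normalizer hs.1) e)⟩) fun a ha => fr a ha.2
  omega

end W

end Cfsg.Agent.MK
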