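import Cfsg.Agent.MK.Cand

/-!
# A pruned first stage of the block search
-/

set_option autoImplicit false
set_option linter.unusedSectionVars false

namespace Cfsg.Agent.MK

open Finset Subgroup Cfsg.Agent.Char Cfsg.Agent.Zass Cfsg.Agent.Local Cfsg.Agent.M11 Cfsg.Agent.Small

def anyB (P : Row → Bool) (F : Row → List Row → Bool) : List Row → Bool
  | [] => false
  | x :: l => P x && (F x l || anyB P F l)

def go2 (fin : List Row → ℕ → Bool) : ℕ → List Row → ℕ → ℕ → ℤ → List Row → Bool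
  | 0, _, k, r, s, acc => k == 0 && (s == 0 && fin acc r)
  | f + 1, l, k, r, s, acc => match k with
    | 0 => s == 0 && fin acc r
    | k + 1 => fN s.natAbs fun sa => anyB (fun x => Nat.ble sa ((k + 1) * x.1)) (fun x tl =>
        Nat.ble (x.1 * x.1) r && (Nat.ble (x.2.1.natAbs * x.2.1.natAbs) (k + 1) &&
        fN (k + 1 - x.2.1.natAbs * x.2.1.natAbs) fun k' => fN (r - x.1 * x.1) fun r' =>
        fI (s + x.2.1 * x.1) fun s' => go2 fin f (x :: tl) k' r' s' (x :: acc))) l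

theorem anyT_ex {F : Row → List Row → Bool} {l : List Row} (h : anyT F l = true) :
    ∃ l₁ x tl, l = l₁ ++ x :: tl ∧ F x tl = true := by
  induction l with
  | nil => cases h
  | cons y l ih =>
    rw [anyT, Bool.or_eq_true] at h
    rcases h with h | h
    · exact ⟨[], y, l, rfl, h⟩
    · obtain ⟨l₁, x, tl, rfl, h'⟩ := ih h
      exact ⟨y :: l₁, x, tl, rfl, h'⟩

theorem anyB_of {P : Row → Bool} {F : Row → List Row → Bool} (l₁ : List Row) {x : Row}
    {tl : List Row} (h1 : ∀ y ∈ l₁, P y = true) (h2 : P x = true) (h : F x tl = true) :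
    anyB P F (l₁ ++ x :: tl) = true := by
  induction l₁ with
  | nil => simp [anyB, h2, h]
  | cons y l ih =>
    simp only [List.cons_append, anyB, Bool.and_eq_true, Bool.or_eq_true]
    exact ⟨h1 y List.mem_cons_self, .inr (ih fun z hz => h1 z (List.mem_cons_of_mem _ hz))⟩

theorem go2_of {fin : List Row → ℕ → Bool} (f : ℕ) : ∀ (l : List Row) (k r q : ℕ) (s sv : ℤ)
    (acc : List Row), l.Pairwise (fun x y => y.1 ≤ x.1) → M12R.go fin f l k r q s sv acc = true →
      go2 fin f l k r s acc = true ∧ ∀ D, (∀ y ∈ l, y.1 ≤ D) → s.natAbs ≤ k * D := by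
  induction f with
  | zero =>
    intro l k r q s sv acc _ h
    simp only [M12R.go, Bool.and_eq_true, beq_iff_eq] at h
    simp [go2, h.1, h.2.1, h.2.2.2]
  | succ f ih =>
    intro l k r q s sv acc hl h
    rcases k with _ | k
    · simp only [M12R.go, Bool.and_eq_true, beq_iff_eq] at h
      simp [go2, h.1, h.2.2]
    rw [M12R.go] at h
    obtain ⟨l₁, x, tl, rfl, h'⟩ := anyT_ex h
    simp only [fN_eq, fI_eq, Bool.and_eq_true, Nat.ble_eq] at h'
    obtain ⟨h1, -, h3, h4⟩ := h'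
    rw [List.pairwise_append] at hl
    obtain ⟨h5, h6⟩ := ih _ _ _ _ _ _ _ hl.2.1 h4
    have h7 : s.natAbs ≤ (k + 1) * x.1 := by
      have h8 := h6 x.1 fun y hy => by
        rcases List.mem_cons.1 hy with rfl | hy
        · rfl
        · exact List.rel_of_pairwise_cons hl.2.1 hy
      have h9 : s.natAbs ≤ (s + x.2.1 * x.1).natAbs + (x.2.1 * x.1).natAbs := by
        simpa using Int.natAbs_sub_le (s + x.2.1 * x.1) (x.2.1 * x.1)
      rw [Int.natAbs_mul, Int.natAbs_natCast] at h9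
      have h10 : x.2.1.natAbs * x.1 ≤ x.2.1.natAbs * x.2.1.natAbs * x.1 :=
        Nat.mul_le_mul_right _ (Nat.le_mul_self _)
      have h11 : (k + 1 - x.2.1.natAbs * x.2.1.natAbs) * x.1 + x.2.1.natAbs * x.2.1.natAbs * x.1 =
          (k + 1) * x.1 := by rw [← add_mul, Nat.sub_add_cancel h3]
      omega
    refine ⟨?_, fun D hD => h7.trans (Nat.mul_le_mul_left _ (hD x (by simp)))⟩
    rw [go2, fN_eq]
    refine anyB_of l₁ (fun y hy => Nat.ble_eq_true_of_le (h7.trans (Nat.mul_le_mul_left _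
      (hl.2.2 y hy x List.mem_cons_self)))) (Nat.ble_eq_true_of_le h7) ?_
    simp only [fN_eq, fI_eq, Bool.and_eq_true, Nat.ble_eq]
    exact ⟨h1, h3, h5⟩

def B1 (dl : List ℕ) (N p e n : ℕ) (fin : List Row → ℕ → Bool) : Bool :=
  fR (M12R.rows dl (fun d _ => [(d : ℤ)]) p e n) fun l =>
  if e + 1 = p then go2 fin e l e (N - 1) 1 [] else
  fN ((p - 1) / e) fun t => dl.any fun d : ℕ => Nat.ble (t * (d * d)) (N - 1) &&
    ([1, -1] : List ℤ).any fun ε => (0 :: aL).any fun b =>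
      ((d : ℤ) + e * ε - b) % p == 0 &&
      fN ((t - 1) * (b.natAbs * b.natAbs) + (b + ε).natAbs * (b + ε).natAbs) fun nb =>
      Nat.ble nb e && (decide (0 ≤ (d : ℤ) + (p - 1) * b + e * ε) &&
        go2 fin e l (e - nb) (N - 1 - t * (d * d)) (1 + (t * b + ε) * d)
          ((d, b + ε, d) :: List.replicate (t - 1) (d, b, d)))

theorem B1_of {dl : List ℕ} {N p e n q : ℕ} {fin : List Row → ℕ → Bool}
    (hl : dl.Pairwise (· ≥ ·)) (h : M12R.B dl (fun d _ => [(d : ℤ)]) N p e n q fin = true) :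
    B1 dl N p e n fin = true := by
  have h1 : (M12R.rows dl (fun d _ => [(d : ℤ)]) p e n).Pairwise fun x y => y.1 ≤ x.1 := by
    rw [M12R.rows, List.pairwise_flatMap]
    refine ⟨fun d _ => List.pairwise_of_forall_mem_list fun x hx y hy => ?_,
      hl.imp fun {a b} hab x hx y hy => ?_⟩
    all_goals
      simp only [List.mem_flatMap, List.mem_map] at hx hy
      obtain ⟨_, _, _, _, rfl⟩ := hx
      obtain ⟨_, _, _, _, rfl⟩ := hy
    · exact le_rfl
    · exact hab
  rw [M12R.B, fR_eq] at h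
  rw [B1, fR_eq]
  split_ifs at h ⊢
  · exact (go2_of _ _ _ _ _ _ _ _ h1 h).1
  simp only [fN_eq, List.any_eq_true, Bool.and_eq_true] at h ⊢
  obtain ⟨d, a1, a2, ε, a3, b, a4, a5, a6, a7, v, a8, -, a9⟩ := h
  obtain rfl := List.mem_singleton.1 a8
  exact ⟨d, a1, a2, ε, a3, b, a4, a5, a6, a7, (go2_of _ _ _ _ _ _ _ _ h1 a9).1⟩

/-- pruned first stage -/
def K1f (N p e X : ℕ) (W : ℕ → Bool) (F : List (ℕ × ℤ) → Bool) : Bool :=
  fL ((dgl N p X W).insertionSort (· ≥ ·)) fun dl => B1 dl N p e (N / (p * X)) fun l r =>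
    (X != 1 || r % (p * p) == 0) && F (prj l)

variable {G : Type*} [Group G] [Finite G] {p e X : ℕ} {x : G} {T : Finset (IrrCharacter G)}
  {a : IrrCharacter G → ℤ}
variable [IsSimpleGroup G] (hna : ¬ IsMulCommutative G) (hN : Nat.card G ∣ 244823040)
include hna hN

theorem KB.k1f (h : KB p e X x T a) {W : ℕ → Bool} (hW : ∀ χ ∈ T, W (deg χ.1) = true)
    {F : List (ℕ × ℤ) → Bool} (hF : ∀ l : List (ℕ × ℤ), (l : Multiset (ℕ × ℤ)) = rws T a → F l = true) :
    K1f (Nat.card G) p e X W F = true := by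
  rw [K1f, fL_eq]
  refine B1_of (List.pairwise_insertionSort _ _) (h.st1 _ _ (fun χ hχ =>
    (List.mem_insertionSort _).2 (h.mem_dgl hna hN hW χ hχ)) fun l hl r _ hr => ?_)
  simp only [Bool.and_eq_true, Bool.or_eq_true, bne_iff_ne, beq_iff_eq]
  refine ⟨or_iff_not_imp_left.2 fun e => hr (not_ne_iff.1 e), hF _ ?_⟩
  rw [prj, ← Multiset.map_coe, hl, Multiset.map_map]
  rfl

/-- both flags if `e` is even -/
def bools (e : ℕ) (l : List ℕ) : List (ℕ × Bool) :=
  l.flatMap fun c => (c, false) :: if e % 2 = 1 then [] else [(c, true)]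

omit hna hN [IsSimpleGroup G] in
theorem KB.k2 (h : KB p e X x T a) {s : G} (hs : orderOf s = 2) {L : List ℕ} (hL : cc s ∈ L)
    {l : List (ℕ × ℤ)} (hl : (l : Multiset (ℕ × ℤ)) = rws T a) :
    K2 (Nat.card G) p e X (bools e L) l = true := by
  obtain ⟨r, -, r2, r3, -⟩ := h.st2 s hs
  rw [K2, List.any_eq_true]
  refine ⟨(cc s, r), List.mem_flatMap.2 ⟨cc s, hL, ?_⟩, r3.vs' hl fun _ _ => rfl⟩
  cases r
  · exact List.mem_cons_self
  · rw [if_neg fun e => by cases r2 e]
    simp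

end Cfsg.Agent.MK
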