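import Cfsg.Agent.MK.LD
import Cfsg.Agent.F11.LPure
import Cfsg.Agent.Local.Coprime
import Cfsg.Agent.Local.FPF

/-! Local lemmas: coprime action on the centraliser of an element of prime order. -/

set_option autoImplicit false
set_option linter.unusedSectionVars false
set_option linter.style.haveILetI false

namespace Cfsg.Agent.MK

open Subgroup Cfsg.Agent.M11 Cfsg.Agent.Local Cfsg.Agent.F11
open scoped Pointwise

variable {G : Type*} [Group G] [Finite G]

theorem l2_comm {x a b : G} (ha : a ∈ normalizer (zpowers x : Set G)) (hb : b ∈ normalizer (zpowers x : Set G)) :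
    a⁻¹ * b * a * b⁻¹ ∈ centralizer ({x} : Set G) := by
  obtain ⟨i, hi⟩ := conj_mem_of_mem_normalizer ha (mem_zpowers x)
  obtain ⟨j, hj⟩ := inv_conj_mem_of_mem_normalizer hb (mem_zpowers x)
  replace hi : x ^ i = a * x * a⁻¹ := hi
  replace hj : x ^ j = b⁻¹ * x * b⁻¹⁻¹ := by rw [inv_inv]; exact hj
  refine mem_centralizer_singleton_iff.2 (mul_inv_eq_iff_eq_mul.1 ?_)
  have e : a * (b⁻¹ * x * b⁻¹⁻¹) * a⁻¹ = b⁻¹ * (a * x * a⁻¹) * b⁻¹⁻¹ := by
    rw [← hi, ← conj_zpow, ← hj, ← conj_zpow, ← hi, ← zpow_mul, ← zpow_mul, mul_comm]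
  calc _ = a⁻¹ * b * (a * (b⁻¹ * x * b⁻¹⁻¹) * a⁻¹) * b⁻¹ * a := by group
    _ = x := by rw [e]; group

theorem l2_le (x : G) : centralizer ({x} : Set G) ≤ normalizer (zpowers x : Set G) :=
  U.cent_zpowers x ▸ centralizer_le_normalizer _

theorem l2_norm (x : G) : normalizer (zpowers x : Set G) ≤ normalizer (centralizer ({x} : Set G) : Set G) :=
  U.cent_zpowers x ▸ normalizer_le_normalizer_centralizer _

theorem LD.l2_syl {p e X : ℕ} [Fact p.Prime] {x : G} (h : LD p e X x) {K : Subgroup G} (hx : x ∈ K) :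
    IsSylowIn p (zpowers x) K := by
  obtain ⟨m, hm⟩ := h.ord ▸ orderOf_dvd_card_of_mem hx
  exact U.syl_of_card (k := 1) (m := m) (zpowers_le.2 hx) (by rw [Nat.card_zpowers, h.ord, pow_one])
    (by rw [hm, pow_one]) fun d => h.sq ((hm ▸ Nat.mul_dvd_mul_left p d).trans (card_subgroup_dvd_card K))

theorem LD.l2_cc {p e X : ℕ} {x y : G} (h : LD p e X x) (hy : orderOf y = p) : cc y = p * X := by
  haveI := Fact.mk h.pr
  have k : IsSylowIn p (zpowers y) ⊤ := isSylowIn_of_card le_top (by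
    rw [← (h.l2_syl (mem_top x)).card_eq, Nat.card_zpowers, Nat.card_zpowers, hy, h.ord])
  obtain ⟨n, -, e⟩ := (h.l2_syl (mem_top x)).exists_conj k
  rw [← h.ccx, cc, cc, ← U.cent_zpowers, ← U.cent_zpowers, ← e, centralizer_conj_smul, card_conj_smul]

/-- Loc2 : coprime action of an element of order `q ∣ e` on `C(x)` -/
theorem LD.act {p q e X f Y : ℕ} {x y₀ : G} (h : LD p e X x) (k : LD q f Y y₀) (hq : q ∣ e) :
    ∃ y : G, orderOf y = q ∧ y ∈ normalizer (zpowers x : Set G) ∧ ∃ Z, Z ∣ X ∧ e * Z ∣ q * Y ∧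
      Nat.card ↥(centralizer {x} ⊓ centralizer {y}) = Z ∧
      ∀ r a : ℕ, r.Prime → r ^ a ∣ X → ¬ r ^ (a + 1) ∣ X → ∃ b ≤ a, r ^ b ∣ Z ∧ r ^ a % q = r ^ b % q ∧
        (b = a → r ≠ p → ∀ z : G, orderOf z = r → Commute z x →
          ∃ g, Commute g x ∧ Commute (g * z * g⁻¹) y) := by
  haveI := Fact.mk h.pr
  haveI := Fact.mk k.pr
  have cC : Nat.card (centralizer ({x} : Set G)) = p * X := h.ccx
  obtain ⟨y, yN, yq⟩ := exists_mem_orderOf_eq_of_dvd_card (H := normalizer (zpowers x : Set G)) k.pr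
    (h.nrm ▸ hq.mul_left _)
  have nq : ¬ q ∣ p * X := fun d => k.sq ((h.nrm ▸ mul_dvd_mul d hq).trans (card_subgroup_dvd_card _))
  have cop : (Nat.card (zpowers y)).Coprime (Nat.card (centralizer ({x} : Set G))) := by
    rw [Nat.card_zpowers, yq, cC]; exact (Nat.Prime.coprime_iff_not_dvd k.pr).2 nq
  have yC := zpowers_le.2 (l2_norm x yN)
  have yx : y ∉ centralizer ({x} : Set G) := fun d => nq (cC ▸ yq ▸ orderOf_dvd_card_of_mem d)
  have pZ : ¬ p ∣ Nat.card ↥(centralizer {x} ⊓ centralizer {y}) := fun d => by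
    obtain ⟨u, ⟨u1, u2⟩, up⟩ := exists_mem_orderOf_eq_of_dvd_card h.pr d
    have := (h.l2_syl (K := centralizer {x}) (mem_centralizer_singleton_iff.2 rfl)).le_of_le_normalizer'
      (isPGroup_zpowers_of_orderOf_eq up) (zpowers_le.2 u1) (zpowers_le.2 (l2_le x u1))
    obtain ⟨i, hi⟩ := (eq_of_le_of_card_ge this (by rw [Nat.card_zpowers, Nat.card_zpowers, up, h.ord])).ge (mem_zpowers x)
    exact yx (mem_centralizer_singleton_iff.2 (hi ▸ (Commute.zpow_left (mem_centralizer_singleton_iff.1 u2) i).symm))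
  refine ⟨y, yq, yN, _, ((Nat.Prime.coprime_iff_not_dvd h.pr).2 pZ).symm.dvd_of_dvd_mul_left
    (cC ▸ card_dvd_of_le inf_le_left), ?_, rfl, fun r a hr h1 h2 => ?_⟩
  · have e1 := card_sup_mul_card_inf (A := normalizer (zpowers x : Set G) ⊓ centralizer {y}) (inf_le_left.trans (l2_norm x))
    rw [← inf_assoc, inf_eq_left.2 (l2_le x), le_antisymm (sup_le (l2_le x) inf_le_left) fun g hg => ?_, h.nrm, cC,
      mul_assoc, mul_right_inj' (cC ▸ Nat.card_pos : 0 < p * X).ne'] at e1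
    · rw [e1, ← k.l2_cc yq]
      exact card_dvd_of_le inf_le_right
    · obtain ⟨m, hm, c⟩ := exists_mul_mem_centralizer_of_coprime yC cop (Or.inl (isSolvable_zpowers y)) (x := g)
        fun a ha => l2_comm hg (zpowers_le.2 yN ha)
      rw [U.cent_zpowers] at c
      rw [← mul_inv_cancel_right g m]
      exact mul_mem (mem_sup_right ⟨mul_mem hg (l2_le x hm), c⟩) (mem_sup_left (inv_mem hm))
  rcases eq_or_ne r p with rfl | rp
  · obtain rfl : a = 0 := by_contra fun d => h.sq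
      ((h.ccx ▸ Nat.mul_dvd_mul_left r ((dvd_pow_self r d).trans h1)).trans (cc_dvd x))
    exact ⟨0, le_rfl, one_dvd _, rfl, fun _ d => absurd rfl d⟩
  haveI := Fact.mk hr
  obtain ⟨R, hR, yR⟩ := exists_invariant_isSylowIn yC cop (Or.inl (isSolvable_zpowers y)) r
  obtain ⟨m, rfl⟩ := h1
  have cR : Nat.card R = r ^ a := U.syl_card hR (m := p * m) (by rw [cC]; ring) fun d =>
    ((Nat.Prime.dvd_mul hr).1 d).elim (fun d => rp ((Nat.prime_dvd_prime_iff_eq hr h.pr).1 d))
      fun d => h2 (pow_succ r a ▸ Nat.mul_dvd_mul_left _ d)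
  obtain ⟨b, ba, cb⟩ := (Nat.dvd_prime_pow hr).1 (cR ▸ card_dvd_of_le (inf_le_left (a := R) (b := centralizer {y})))
  refine ⟨b, ba, cb ▸ card_dvd_of_le (inf_le_inf_right _ hR.le), ?_, fun e _ z zr zx => ?_⟩
  · have := LP.fix_mod_conj k.pr (g := y) (k := 1) (by rw [pow_one, ← yq, pow_orderOf_eq_one]) (s := (R : Set G))
      fun u hu => conj_mem_of_mem_normalizer (yR (mem_zpowers y)) hu
    rw [U.ncard_coe, cR] at this
    rw [this, ← cb, ← U.ncard_coe]
    congr 2
    ext u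
    exact and_congr_right fun _ => mul_inv_eq_iff_eq_mul.trans (eq_comm.trans mem_centralizer_singleton_iff.symm)
  · have le := (eq_of_le_of_card_ge (inf_le_left (a := R) (b := centralizer {y})) (by rw [cR, cb, e])).ge.trans inf_le_right
    obtain ⟨n, hn, hz⟩ := hR.exists_le_conj (isPGroup_zpowers_of_orderOf_eq zr)
      (zpowers_le.2 (mem_centralizer_singleton_iff.2 zx))
    exact ⟨n⁻¹, mem_centralizer_singleton_iff.1 (inv_mem hn), mem_centralizer_singleton_iff.1 (le (by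
      rw [inv_inv]; exact U.mem_map_conj.1 (hz (mem_zpowers z))))⟩

/-- Loc2 : an involution of `C(x)` whose class in `N(x)` has odd length -/
theorem LD.inv_odd {p e X : ℕ} {x : G} (h : LD p e X x) (hp : p ≠ 2) (hX : 2 ∣ X) :
    ∃ z : G, orderOf z = 2 ∧ Commute z x ∧ ∃ n k, n * k = p * X * e ∧ k % 2 = 1 ∧ k < X ∧
      Nat.card ↥(normalizer (zpowers x : Set G) ⊓ centralizer {z}) = n := by
  have cC : Nat.card (centralizer ({x} : Set G)) = p * X := h.ccx
  obtain ⟨S, hS⟩ := exists_isSylowIn 2 (normalizer (zpowers x : Set G))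
  have hT := hS.inf_of_le_normalizer (l2_le x) (l2_norm x)
  obtain ⟨w, wT, w1, wS⟩ := exists_ne_one_mem_centralizer_of_isPGroup hS.isPGroup
    (le_normalizer_inf le_normalizer (hS.le.trans (l2_norm x))) (hT.dvd_card_iff.2 (cC ▸ hX.mul_left p))
  obtain ⟨z, ⟨zT, zS⟩, z2⟩ := exists_mem_orderOf_eq_of_dvd_card (H := S ⊓ centralizer {x} ⊓ centralizer (S : Set G))
    Nat.prime_two ((hT.isPGroup.to_le inf_le_left).card_eq_or_dvd.resolve_left fun d =>
      w1 (mem_bot.1 (card_eq_one.1 d ▸ ⟨wT, wS⟩)))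
  have e := U.card_class (normalizer (zpowers x : Set G)) z
  generalize hK : {y | ∃ u ∈ normalizer (zpowers x : Set G), u * z * u⁻¹ = y} = K at e
  refine ⟨z, z2, mem_centralizer_singleton_iff.1 zT.2, _, K.ncard, by rw [← h.nrm, e, mul_comm], ?_, ?_, rfl⟩
  · obtain ⟨j, hj⟩ := card_dvd_of_le (show S ≤ normalizer (zpowers x : Set G) ⊓ centralizer {z} from
      fun s hs => ⟨hS.le hs, mem_centralizer_singleton_iff.2 (zS s hs)⟩)
    have := hS.not_dvd
    rw [← card_mul_relIndex hS.le, hj, mul_left_comm, mul_right_inj' Nat.card_pos.ne'] at e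
    rw [e] at this
    exact Nat.odd_iff.1 (Nat.not_even_iff_odd.1 fun d => this (d.two_dvd.mul_right _))
  have hk : ∀ u ∈ insert 1 K, u ∈ centralizer ({x} : Set G) ∧ u * u = 1 := by
    subst hK
    rintro _ (rfl | ⟨u, hu, rfl⟩)
    · exact ⟨one_mem _, one_mul _⟩
    · exact ⟨conj_mem_of_mem_normalizer (l2_norm x hu) zT.2, U.sq_of_two ((U.orderOf_conj u z).trans z2)⟩
  have pw : ∀ u ∈ insert 1 K, ∀ v ∈ zpowers x, (u * v) ^ p = u := fun u hu v hv => by
    obtain ⟨i, rfl⟩ := hv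
    obtain ⟨j, hj⟩ := h.pr.odd_of_ne_two hp
    rw [Commute.mul_pow (Commute.zpow_right (mem_centralizer_singleton_iff.1 (hk u hu).1) i), ← zpow_natCast (x ^ i),
      ← zpow_mul, mul_comm i, zpow_mul, zpow_natCast, show x ^ p = 1 from h.ord ▸ pow_orderOf_eq_one x, one_zpow, mul_one,
      hj, pow_succ, pow_mul, pow_two, (hk u hu).2, one_pow, one_mul]
  have := Set.ncard_le_ncard_of_injOn (s := insert 1 K ×ˢ (zpowers x : Set G)) (t := (centralizer ({x} : Set G) : Set G))
    (fun u => u.1 * u.2) (fun u hu => mul_mem (hk _ hu.1).1 (zpowers_le.2 (mem_centralizer_singleton_iff.2 rfl) hu.2))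
    fun u hu v hv d => by
      have d1 : u.1 = v.1 := by rw [← pw _ hu.1 _ hu.2, ← pw _ hv.1 _ hv.2]; exact congrArg (· ^ p) d
      exact Prod.ext d1 (mul_left_cancel (a := v.1) (by rw [← show u.1 * u.2 = v.1 * v.2 from d, d1]))
  rw [Set.ncard_prod, U.ncard_coe, U.ncard_coe, Nat.card_zpowers, h.ord, cC, mul_comm, Set.ncard_insert_of_notMem (by
    subst hK
    rintro ⟨u, -, d⟩
    exact U.ne_one_of_ord z2 (by decide) (conj_eq_one_iff.1 d))] at this
  exact Nat.le_of_mul_le_mul_left this h.pr.pos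

/-- Loc2 : Sylow count in the centralizer of an element commuting with `x` -/
theorem LD.cent {p e X : ℕ} [Fact p.Prime] {x z : G} (h : LD p e X x) (hz : Commute z x) :
    cc z = Nat.card (Sylow p (centralizer ({z} : Set G))) *
      Nat.card ↥(normalizer (zpowers x : Set G) ⊓ centralizer {z}) ∧
    Nat.card (Sylow p (centralizer ({z} : Set G))) % p = 1 := by
  have hS := h.l2_syl (K := centralizer {z}) (mem_centralizer_singleton_iff.2 hz.symm)
  refine ⟨?_, Eq.trans (card_sylow_modEq_one p _) (Nat.mod_eq_of_lt h.pr.one_lt)⟩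
  rw [cc, ← card_normalizer_mul hS.toSylow, mul_comm, hS.coe_toSylow, ← subgroupOf_normalizer_eq hS.le,
    ← subgroupOf_map_subtype, card_map_of_injective (subtype_injective _)]

end Cfsg.Agent.MK
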