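import Cfsg.Agent.M11.Count
import Cfsg.Agent.Local.Coprime
import Cfsg.Agent.Local.FPF

/-!
# The number of Sylow `23`-subgroups of a group of order dividing `|M₂₄|`
-/

set_option autoImplicit false
set_option linter.unusedSectionVars false

namespace Cfsg.Agent.MK

open Subgroup Cfsg.Agent.M11 Cfsg.Agent.Local

universe u

section

variable {H : Type*} [Group H] [Finite H] {p : ℕ} [Fact p.Prime]

theorem card_modEq_cen3 {A K : Subgroup H} (hA : IsPGroup p A)
    (hK : A ≤ normalizer (K : Set H)) :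
    Nat.card K ≡ Nat.card ↥(K ⊓ centralizer (A : Set H)) [MOD p] := by
  let _ := conjAction hK
  refine (hA.card_modEq_card_fixedPoints K).trans ?_
  refine congrArg (· % p) (Nat.card_congr
    { toFun := fun y => ⟨y.1, y.1.2, mem_centralizer_iff.2 fun a ha =>
        mul_inv_eq_iff_eq_mul.1 (congrArg Subtype.val (y.2 ⟨a, ha⟩))⟩
      invFun := fun y => ⟨⟨y.1, y.2.1⟩, fun a => Subtype.ext
        (mul_inv_eq_iff_eq_mul.2 (mem_centralizer_iff.1 y.2.2 a a.2))⟩
      left_inv := fun _ => rfl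
      right_inv := fun _ => rfl })

/-- a normal subgroup of index prime to `p` has the same Sylow subgroups -/
theorem card_sylow_normal (K : Subgroup H) [K.Normal] (hK : ¬ p ∣ K.index) :
    Nat.card (Sylow p K) = Nat.card (Sylow p H) := by
  have hle : ∀ P : Sylow p H, (P : Subgroup H) ≤ K := fun P x hx => by
    obtain ⟨k, hk⟩ := P.isPGroup'.exists_orderOf_eq_pow ⟨x, hx⟩
    rw [← orderOf_coe] at hk
    have hc : K.index.Coprime (orderOf x) := by
      rw [show orderOf x = p ^ k from hk]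
      exact Nat.Coprime.pow_right _ ((Fact.out : p.Prime).coprime_iff_not_dvd.2 hK).symm
    obtain ⟨m, hm⟩ := exists_pow_eq_self_of_coprime hc
    rw [← hm]
    exact K.pow_mem (K.pow_index_mem x) m
  refine (Nat.card_eq_of_bijective (fun P : Sylow p H => P.subtype (hle P)) ⟨?_, ?_⟩).symm
  · intro P Q h
    exact Sylow.subtype_injective h
  · intro Q
    obtain ⟨P, hP⟩ := Q.exists_comap_subtype_eq
    exact ⟨P, Sylow.ext hP⟩

/-- a normal `p'`-subgroup centralised by the Sylow subgroups can be factored out -/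
theorem card_sylow_quot (K : Subgroup H) [K.Normal] (_hK : ¬ p ∣ Nat.card K)
    (hc : ∀ P : Sylow p H, K ≤ centralizer (P : Set H)) :
    Nat.card (Sylow p (H ⧸ K)) = Nat.card (Sylow p H) := by
  refine (Nat.card_eq_of_bijective (Sylow.mapSurjective (QuotientGroup.mk'_surjective K))
    ⟨?_, Sylow.mapSurjective_surjective _ p⟩).symm
  intro P Q h
  have h' : (P : Subgroup H).map (QuotientGroup.mk' K) = (Q : Subgroup H).map (QuotientGroup.mk' K) := by
    rw [← Sylow.coe_mapSurjective (QuotientGroup.mk'_surjective K),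
      ← Sylow.coe_mapSurjective (QuotientGroup.mk'_surjective K), h]
  have hle : (Q : Subgroup H) ≤ normalizer ((P : Subgroup H) : Set H) := by
    intro y hy
    have : QuotientGroup.mk' K y ∈ (P : Subgroup H).map (QuotientGroup.mk' K) :=
      h' ▸ mem_map_of_mem _ hy
    obtain ⟨x, hx, e⟩ := this
    obtain ⟨k, hk, rfl⟩ := (QuotientGroup.mk'_eq_mk' K).1 e
    exact mul_mem (le_normalizer hx) (centralizer_le_normalizer _ (hc P hk))
  have := (isSylowIn_top P).le_of_le_normalizer' Q.isPGroup' le_top hle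
  exact Sylow.ext (Q.is_maximal' P.isPGroup' this)

end

theorem arith23 {r a b : ℕ} (hr : r.Prime) (hd : r ^ a ∣ 244823040) (h23 : r ≠ 23) (hb : b ≤ a)
    (h : r ^ a ≡ r ^ b [MOD 23]) : a = b := by
  rcases Nat.eq_zero_or_pos a with rfl | ha
  · omega
  have h1 : r ∣ 2 ^ 10 * 3 ^ 3 * 5 * 7 * 11 * 23 := (dvd_pow_self r ha.ne').trans hd
  have key : ∀ s k : ℕ, s.Prime → ¬ s ^ (k + 1) ∣ 244823040 → r = s → a ≤ k := fun s k _ hs e => by
    by_contra hk
    exact hs ((pow_dvd_pow s (by omega)).trans (e ▸ hd))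
  have hr' : r = 2 ∨ r = 3 ∨ r = 5 ∨ r = 7 ∨ r = 11 := by
    simp only [hr.dvd_mul] at h1
    rcases h1 with ((((h1 | h1) | h1) | h1) | h1) | h1
    · exact .inl ((Nat.prime_dvd_prime_iff_eq hr Nat.prime_two).1 (hr.dvd_of_dvd_pow h1))
    · exact .inr (.inl ((Nat.prime_dvd_prime_iff_eq hr Nat.prime_three).1 (hr.dvd_of_dvd_pow h1)))
    · exact .inr (.inr (.inl ((Nat.prime_dvd_prime_iff_eq hr (by norm_num)).1 h1)))
    · exact .inr (.inr (.inr (.inl ((Nat.prime_dvd_prime_iff_eq hr (by norm_num)).1 h1))))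
    · exact .inr (.inr (.inr (.inr ((Nat.prime_dvd_prime_iff_eq hr (by norm_num)).1 h1))))
    · exact absurd ((Nat.prime_dvd_prime_iff_eq hr (by norm_num)).1 h1) h23
  have ha10 : a ≤ 10 := by
    rcases hr' with e | e | e | e | e
    · exact key 2 10 (by norm_num) (by norm_num) e
    · exact key 3 10 (by norm_num) (by norm_num) e
    · exact key 5 10 (by norm_num) (by norm_num) e
    · exact key 7 10 (by norm_num) (by norm_num) e
    · exact key 11 10 (by norm_num) (by norm_num) e
  have hb10 : b ≤ 10 := hb.trans ha10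
  unfold Nat.ModEq at h
  rcases hr' with rfl | rfl | rfl | rfl | rfl <;>
    interval_cases a <;> interval_cases b <;> first | rfl | omega

theorem cent23 [Fact (Nat.Prime 23)] {H : Type*} [Group H] [Finite H]
    (hd : Nat.card H ∣ 244823040) (K : Subgroup H) [K.Normal] (hK : ¬ 23 ∣ Nat.card K)
    (P : Sylow 23 H) : K ≤ centralizer (P : Set H) := by
  refine le_of_forall_exists_isSylowIn_le fun r hr hrK => ?_
  have := Fact.mk hr
  have hcop : (Nat.card (P : Subgroup H)).Coprime (Nat.card K) := by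
    obtain ⟨k, hk⟩ := P.isPGroup'.exists_card_eq
    rw [hk]
    exact Nat.Coprime.pow_left _ ((Fact.out : Nat.Prime 23).coprime_iff_not_dvd.2 hK)
  obtain ⟨R, hR, hPR⟩ := exists_invariant_isSylowIn (A := (P : Subgroup H)) (N := K)
    (by rw [normalizer_eq_top]; exact le_top) hcop (.inl (isSolvable_of_isPGroup P.isPGroup')) r
  refine ⟨R, hR, ?_⟩
  have h1 := card_modEq_cen3 P.isPGroup' hPR
  obtain ⟨a, ha⟩ := hR.isPGroup.exists_card_eq
  have h2 : Nat.card ↥(R ⊓ centralizer ((P : Subgroup H) : Set H)) ∣ r ^ a :=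
    ha ▸ card_dvd_of_le inf_le_left
  obtain ⟨b, hb, e⟩ := (Nat.dvd_prime_pow hr).1 h2
  rw [ha, e] at h1
  have h3 := arith23 hr (ha ▸ (card_subgroup_dvd_card R).trans hd)
    (fun e => hK (e ▸ hrK)) hb h1
  have h4 : R ⊓ centralizer ((P : Subgroup H) : Set H) = R :=
    eq_of_le_of_card_ge inf_le_left (by rw [ha, e, h3])
  exact h4 ▸ inf_le_right

theorem syl23_aux [Fact (Nat.Prime 23)] (n : ℕ) : ∀ {H : Type u} [Group H] [Finite H],
    Nat.card H = n → Nat.card H ∣ 244823040 →
    Nat.card (Sylow 23 H) = 1 ∨ ∃ (S : Type u) (_ : Group S) (_ : Finite S), IsSimpleGroup S ∧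
      ¬ IsMulCommutative S ∧ 23 ∣ Nat.card S ∧ Nat.card S ∣ Nat.card H ∧
      Nat.card (Sylow 23 S) = Nat.card (Sylow 23 H) := by
  induction n using Nat.strong_induction_on with
  | _ n ih =>
  intro H _ _ hn hd
  by_cases h23 : 23 ∣ Nat.card H
  swap
  · left
    have h1 := card_sylow_normal (p := 23) (⊥ : Subgroup H) (by rwa [index_bot])
    rw [← h1]
    obtain ⟨P⟩ := (Sylow.nonempty : Nonempty (Sylow 23 (⊥ : Subgroup H)))
    have : Unique (Sylow 23 (⊥ : Subgroup H)) := Sylow.unique_of_normal P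
      ⟨fun x hx g => by rwa [Subsingleton.elim (g * x * g⁻¹) x]⟩
    exact Nat.card_unique
  by_cases hs : IsSimpleGroup H
  · by_cases hc : IsMulCommutative H
    · left
      obtain ⟨P⟩ := (Sylow.nonempty : Nonempty (Sylow 23 H))
      have : Unique (Sylow 23 H) := Sylow.unique_of_normal P
        ⟨fun x hx g => by rwa [hc.1.comm g x, mul_inv_cancel_right]⟩
      exact Nat.card_unique
    · exact .inr ⟨H, inferInstance, inferInstance, hs, hc, h23, dvd_rfl, rfl⟩
  have hnt : Nontrivial H := by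
    rw [← Finite.one_lt_card_iff_nontrivial]
    have := Nat.le_of_dvd Nat.card_pos h23
    omega
  obtain ⟨K, hKn, hK1, hK2⟩ : ∃ K : Subgroup H, K.Normal ∧ K ≠ ⊥ ∧ K ≠ ⊤ := by
    by_contra hne
    push Not at hne
    exact hs ⟨fun K hK => by
      by_cases hb : K = ⊥
      · exact .inl hb
      · exact .inr (hne K hK hb)⟩
  have hm := K.card_mul_index
  have hK3 : 1 < Nat.card K := (K.one_lt_card_iff_ne_bot).2 hK1
  have hK4 : 1 < K.index := one_lt_index_of_ne_top hK2
  by_cases hK : 23 ∣ Nat.card K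
  · have hi : ¬ 23 ∣ K.index := fun hi => by
      have := (hm ▸ mul_dvd_mul hK hi).trans hd
      norm_num at this
    have h1 := card_sylow_normal (p := 23) K hi
    rcases ih (Nat.card K) (by nlinarith) (H := K) rfl ((card_subgroup_dvd_card K).trans hd) with
      h | ⟨S, _, _, s1, s2, s3, s4, s5⟩
    · exact .inl (h1 ▸ h)
    · exact .inr ⟨S, inferInstance, inferInstance, s1, s2, s3,
        s4.trans (card_subgroup_dvd_card K), s5.trans h1⟩
  · have h1 := card_sylow_quot (p := 23) K hK (cent23 hd K hK)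
    have hq : Nat.card (H ⧸ K) ∣ Nat.card H := K.index_dvd_card
    rcases ih (Nat.card (H ⧸ K)) (by change K.index < n; nlinarith) (H := H ⧸ K) rfl
      (hq.trans hd) with h | ⟨S, _, _, s1, s2, s3, s4, s5⟩
    · exact .inl (h1 ▸ h)
    · exact .inr ⟨S, inferInstance, inferInstance, s1, s2, s3, s4.trans hq, s5.trans h1⟩

/-- Loc3 : the number of Sylow 23-subgroups is that of a simple section -/
theorem syl23 [Fact (Nat.Prime 23)] {H : Type u} [Group H] [Finite H] (hd : Nat.card H ∣ 244823040) :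
    Nat.card (Sylow 23 H) = 1 ∨ ∃ (S : Type u) (_ : Group S) (_ : Finite S), IsSimpleGroup S ∧
      ¬ IsMulCommutative S ∧ 23 ∣ Nat.card S ∧ Nat.card S ∣ Nat.card H ∧
      Nat.card (Sylow 23 S) = Nat.card (Sylow 23 H) :=
  syl23_aux _ rfl hd

/-- Loc3 : same, for a centralizer (the simple section avoids the central element) -/
theorem syl23_cent [Fact (Nat.Prime 23)] {H : Type u} [Group H] [Finite H] (hd : Nat.card H ∣ 244823040)
    {z : H} (hz : (orderOf z).Prime) (h23 : orderOf z ≠ 23) :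
    Nat.card (Sylow 23 (centralizer ({z} : Set H))) = 1 ∨ ∃ (S : Type u) (_ : Group S) (_ : Finite S),
      IsSimpleGroup S ∧ ¬ IsMulCommutative S ∧ 23 ∣ Nat.card S ∧ orderOf z * Nat.card S ∣ cc z ∧
      Nat.card (Sylow 23 S) = Nat.card (Sylow 23 (centralizer ({z} : Set H))) := by
  set C := centralizer ({z} : Set H)
  have hzC : z ∈ C := mem_centralizer_singleton_iff.2 rfl
  let K : Subgroup C := zpowers ⟨z, hzC⟩
  have hcen : K ≤ center C := by
    rw [zpowers_le, mem_center_iff]
    exact fun g => Subtype.ext (mem_centralizer_singleton_iff.1 g.2)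
  have hKn : K.Normal := ⟨fun x hx g => by
    rwa [mem_center_iff.1 (hcen hx) g, mul_inv_cancel_right]⟩
  have hKc : Nat.card K = orderOf z := by
    rw [Nat.card_zpowers, ← orderOf_coe]
  have hK : ¬ 23 ∣ Nat.card K := fun h => by
    rw [hKc] at h
    exact h23 ((Nat.prime_dvd_prime_iff_eq Fact.out hz).1 h).symm
  have h1 := card_sylow_quot (p := 23) K hK fun P => hcen.trans (center_le_centralizer _)
  have hm : orderOf z * Nat.card (C ⧸ K) = cc z := hKc ▸ K.card_mul_index
  have hq : Nat.card (C ⧸ K) ∣ 244823040 :=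
    (K.index_dvd_card.trans (card_subgroup_dvd_card C)).trans hd
  rcases syl23 hq with h | ⟨S, _, _, s1, s2, s3, s4, s5⟩
  · exact .inl (h1 ▸ h)
  · exact .inr ⟨S, inferInstance, inferInstance, s1, s2, s3,
      hm ▸ mul_dvd_mul_left _ s4, s5.trans h1⟩

end Cfsg.Agent.MK
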