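import Cfsg.Agent.MK.M22D

/-!
# Order `443520`: kernel searches for the block for `11`
-/

set_option autoImplicit false
set_option maxRecDepth 100000

namespace Cfsg.Agent.MK

theorem k22_0 : k22 0 = true := by decide +kernel

theorem k22_1 : k22 1 = true := by decide +kernel

theorem k22_2 : k22 2 = true := by decide +kernel

theorem k22_3 : k22 3 = true := by decide +kernel

theorem k22_4 : k22 4 = true := by decide +kernel

end Cfsg.Agent.MK
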