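import Cfsg.Agent.MK.M22D

/-!
# Order `443520`: kernel searches for the block for `11`
-/

set_option autoImplicit false
set_option maxRecDepth 100000

namespace Cfsg.Agent.MK

theorem k22_8 : k22 8 = true := by decide +kernel

theorem k22_9 : k22 9 = true := by decide +kernel

theorem k22_10 : k22 10 = true := by decide +kernel

theorem k22_11 : k22 11 = true := by decide +kernel

theorem k22_12 : k22 12 = true := by decide +kernel

end Cfsg.Agent.MK
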