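import Cfsg.Agent.MK.Cand2

/-!
# Order `443520`: the candidate rows of the block for `11`
-/

set_option autoImplicit false

namespace Cfsg.Agent.MK

def L11 : List (List (ℕ × ℤ)) := [[(6, 0), (6, 1), (21, -1), (21, -1), (21, -1), (56, 1)],
 [(10, -1), (12, 1), (12, 1), (45, 1), (60, -1), (60, 0)],
 [(10, -1), (12, 1), (12, 1), (105, 0), (105, 1), (120, -1)],
 [(10, -1), (45, 1), (120, -1), (126, -1), (126, 0), (210, 1)],
 [(21, -1), (21, -1), (56, 1), (105, 0), (105, 1), (120, -1)],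
 [(21, -1), (45, 1), (45, 1), (56, 1), (126, -1), (126, 0)],
 [(21, -1), (45, 1), (45, 1), (210, 1), (280, -1), (280, 0)],
 [(21, -1), (120, -1), (210, 1), (210, 1), (280, -1), (280, 0)]]

def k22 (i : ℕ) : Bool :=
  killx (fun x => x % 13 == i) 443520 11 11 5 1 (fun _ => true) (notIn L11) fun _ => true

end Cfsg.Agent.MK
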