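import Cfsg.Agent.MK.M22D

/-!
# Order `443520`: the normaliser of a Sylow `11`-subgroup and centralisers of involutions
-/

set_option autoImplicit false
set_option maxRecDepth 100000

namespace Cfsg.Agent.MK

theorem m22a : killAll 443520 11 11 (fun c => c == (5, 1)) (fun _ => true) (fun _ _ => true)
    (fun _ => true) = true := by decide +kernel

theorem m22A1 : ckA 443520 11 11 5 1 [(6, 0), (6, 1), (21, -1), (21, -1), (21, -1), (56, 1)]
    (fun _ => true) [40, 80, 128, 160, 192, 320, 640] = true := by decide +kernel

theorem m22A2 : ckA 443520 11 11 5 1 [(10, -1), (12, 1), (12, 1), (45, 1), (60, -1), (60, 0)]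
    (fun _ => true) [128] = true := by decide +kernel

theorem m22A3 : ckA 443520 11 11 5 1 [(10, -1), (12, 1), (12, 1), (105, 0), (105, 1), (120, -1)]
    (fun _ => true) [224, 448, 896] = true := by decide +kernel

theorem m22A4 : ckA 443520 11 11 5 1 [(10, -1), (45, 1), (120, -1), (126, -1), (126, 0), (210, 1)]
    (fun _ => true) [128, 192, 384, 896] = true := by decide +kernel

theorem m22A5 : ckA 443520 11 11 5 1 [(21, -1), (21, -1), (56, 1), (105, 0), (105, 1), (120, -1)]
    (fun _ => true) [64, 80, 160, 192, 320, 384] = true := by decide +kernel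

theorem m22A6 : ckA 443520 11 11 5 1 [(21, -1), (45, 1), (45, 1), (56, 1), (126, -1), (126, 0)]
    (fun _ => true) [128] = true := by decide +kernel

theorem m22A7 : ckA 443520 11 11 5 1 [(21, -1), (45, 1), (45, 1), (210, 1), (280, -1), (280, 0)]
    (fun _ => true) [128, 192, 384] = true := by decide +kernel

theorem m22A8 : ckA 443520 11 11 5 1 [(21, -1), (120, -1), (210, 1), (210, 1), (280, -1), (280, 0)]
    (fun _ => true) [192, 384] = true := by decide +kernel

theorem m22A9 : ckA 443520 5 11 4 1 [(99, -1), (126, 1), (126, 1), (154, -1)]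
    [128, 192, 384, 896].contains [128] = true := by decide +kernel

end Cfsg.Agent.MK
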