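import Cfsg.Agent.MK.M22D

/-!
# Order `443520`: the block for `7`
-/

set_option autoImplicit false
set_option maxRecDepth 100000

namespace Cfsg.Agent.MK

theorem m22s1 : ck 443520 11 7 11 [(6, 0), (6, 1), (21, -1), (21, -1), (21, -1), (56, 1)]
    [40, 80, 128, 160, 192, 320, 640] [] = true := by decide +kernel

theorem m22s2 : ck 443520 11 7 11 [(10, -1), (12, 1), (12, 1), (45, 1), (60, -1), (60, 0)]
    [128] [] = true := by decide +kernel

theorem m22s5 : ck 443520 11 7 11 [(21, -1), (21, -1), (56, 1), (105, 0), (105, 1), (120, -1)]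
    [64, 80, 160, 192, 320, 384] [] = true := by decide +kernel

theorem m22s8 : ck 443520 11 7 11 [(21, -1), (120, -1), (210, 1), (210, 1), (280, -1), (280, 0)]
    [192, 384] [] = true := by decide +kernel

theorem m22s4 : ck 443520 11 7 11 [(10, -1), (45, 1), (120, -1), (126, -1), (126, 0), (210, 1)]
    [128] [] = true := by decide +kernel

theorem m22s7 : ck 443520 11 7 11 [(21, -1), (45, 1), (45, 1), (210, 1), (280, -1), (280, 0)]
    [128, 192, 384] [[(45, -1), (45, 0), (55, -1), (99, 1)]] = true := by decide +kernel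

end Cfsg.Agent.MK
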