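import Cfsg.Agent.MK.M22D

/-!
# Order `443520`: the block for `5`
-/

set_option autoImplicit false
set_option maxRecDepth 100000

namespace Cfsg.Agent.MK

theorem m22f3 : ck 443520 11 5 11 [(10, -1), (12, 1), (12, 1), (105, 0), (105, 1), (120, -1)]
    [224, 448, 896] [] = true := by decide +kernel

theorem m22f6 : ck 443520 11 5 11 [(21, -1), (45, 1), (45, 1), (56, 1), (126, -1), (126, 0)]
    [128] [] = true := by decide +kernel

theorem m22f4 : ck 443520 11 5 11 [(10, -1), (45, 1), (120, -1), (126, -1), (126, 0), (210, 1)]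
    [128, 192, 384, 896] [[(99, -1), (126, 1), (126, 1), (154, -1)]] = true := by decide +kernel

theorem m22f7 : ck 443520 11 5 11 [(21, -1), (45, 1), (45, 1), (210, 1), (280, -1), (280, 0)]
    [128, 192, 384] [[(11, 1), (21, 1), (231, 1), (264, -1)], [(21, 1), (66, 1), (66, 1), (154, -1)],
      [(21, 1), (99, -1), (154, -1), (231, 1)], [(21, 1), (154, -1), (264, -1), (396, 1)]] = true := by
  decide +kernel

def sqs (l : List (ℕ × ℤ × ℤ)) : ℕ :=
  (l.map fun x => if x.1 % 11 = 0 then x.2.2.natAbs * x.2.2.natAbs else 0).sum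

theorem m22n1 : ∀ c ∈ [128, 192], VS 443520 11 5 1 c false (srt 443520 c
    [(21, -1), (45, 1), (45, 1), (210, 1), (280, -1), (280, 0)])
    (fun l => Nat.ble (l.map fun x => x.2.2.natAbs * x.2.2.natAbs).sum 110) = false := by
  decide +kernel

theorem m22n2 : ∀ c ∈ [128, 192], ∀ r : Bool, VS 443520 5 4 1 c r (srt 443520 c
    [(21, 1), (99, -1), (154, -1), (231, 1)]) (fun l => Nat.ble (sqs l) (c - 110)) = false := by
  decide +kernel

theorem m22c7 : ∀ c ∈ cands 443520 7 11, c.2 = 1 → c.1 = 3 := by decide +kernel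

theorem m22c5 : ∀ c ∈ cands 443520 5 11, c.2 = 1 → c.1 = 4 := by decide +kernel

end Cfsg.Agent.MK
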