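import Cfsg.Agent.MK.M22A
import Cfsg.Agent.MK.M22B
import Cfsg.Agent.MK.M22C
import Cfsg.Agent.MK.M22E
import Cfsg.Agent.MK.M22F
import Cfsg.Agent.MK.M22G
import Cfsg.Agent.MK.T2
import Cfsg.Agent.Small.Rho
import Cfsg.Agent.Wong.Id
import Cfsg.Agent.U45.Defs

/-!
# Simple groups of order `443520`: local data and degrees
-/

set_option autoImplicit false
set_option linter.unusedSectionVars false

namespace Cfsg.Agent.MK

open Finset Subgroup Cfsg.Agent.Char Cfsg.Agent.Zass Cfsg.Agent.Local Cfsg.Agent.M11 Cfsg.Agent.Small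

theorem k22_all : ∀ i < 13, k22 i = true := by
  intro i hi
  interval_cases i
  exacts [k22_0, k22_1, k22_2, k22_3, k22_4, k22_5, k22_6, k22_7, k22_8, k22_9, k22_10, k22_11, k22_12]

variable {G : Type*} [Group G] [Finite G] [IsSimpleGroup G] (hG : Nat.card G = 443520)
  {x y z : G} {e X e' X' e'' X'' : ℕ} {T U V : Finset (IrrCharacter G)} {a b c : IrrCharacter G → ℤ}
include hG

theorem m22core (h : KB 11 e X x T a) (h7 : KB 7 e' X' y U b) (h5 : KB 5 e'' X'' z V c) :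
    (e = 5 ∧ X = 1 ∧ e' = 3 ∧ X' = 1 ∧ e'' = 4 ∧ X'' = 1) ∧
    (([(21, -1), (45, 1), (45, 1), (210, 1), (280, -1), (280, 0)] : List (ℕ × ℤ)) :
      Multiset (ℕ × ℤ)) = rws T a ∧
    (([(45, -1), (45, 0), (55, -1), (99, 1)] : List (ℕ × ℤ)) : Multiset (ℕ × ℤ)) = rws U b ∧
    (([(21, 1), (99, -1), (154, -1), (231, 1)] : List (ℕ × ℤ)) : Multiset (ℕ × ℤ)) = rws V c ∧
    ∀ s : G, orderOf s = 2 → [128, 192, 384].contains (cc s) = true := by
  have hna := Wong.not_comm (G := G) (by rw [hG]; norm_num)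
  have hN : Nat.card G ∣ 244823040 := by rw [hG]; norm_num
  have p11 : Nat.Prime 11 := by norm_num
  have p7 : Nat.Prime 7 := by norm_num
  have p5 : Nat.Prime 5 := by norm_num
  have s11 : ¬ 11 * 11 ∣ Nat.card G := by rw [hG]; norm_num
  have s7 : ¬ 7 * 7 ∣ Nat.card G := by rw [hG]; norm_num
  have s5 : ¬ 5 * 5 ∣ Nat.card G := by rw [hG]; norm_num
  have h11 : 11 ∣ Nat.card G := by rw [hG]; norm_num
  have h1 := h.of_killAll hna hN p11 (by norm_num) s11 p11 h11 (fun _ _ => rfl) (fun _ _ => rfl)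
    (fun _ _ => rfl) (hG ▸ m22a)
  obtain ⟨rfl, rfl⟩ : e = 5 ∧ X = 1 := by simpa using h1
  obtain ⟨D, hD, h2⟩ := exists_of_notIn (L := L11) (M := rws T a) fun hF =>
    h.not_kill hna hN p11 (by norm_num) s11 p11 h11 (fun _ _ => rfl) hF (fun _ _ => rfl)
      (hG ▸ kill_of_killx (· % 13) 13 (fun d => Nat.mod_lt _ (by norm_num)) (by norm_num) k22_all)
  have kA := fun A => h.of_ckA hna hN p11 (by norm_num) s11 p11 h11 h2 (P := fun _ => true)
    (fun _ _ => rfl) (A := A)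
  have k7 := fun A hA L => h.of_ck hna hN p11 s11 h7 p7 (by norm_num) (by norm_num) s7 p11 h11 h2
    (A := A) hA (L := L)
  have k5 := fun A hA L => h.of_ck hna hN p11 s11 h5 p5 (by norm_num) (by norm_num) s5 p11 h11 h2
    (A := A) hA (L := L)
  have c7 := h7.mem_cands hna hN p7 p11 h11
  have c5 := h5.mem_cands hna hN p5 p11 h11
  rw [hG] at kA k7 k5 c7 c5
  simp only [L11, List.mem_cons, List.not_mem_nil, or_false] at hD
  rcases hD with rfl | rfl | rfl | rfl | rfl | rfl | rfl | rfl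
  · simpa using k7 _ (kA _ m22A1) _ m22s1
  · simpa using k7 _ (kA _ m22A2) _ m22s2
  · simpa using k5 _ (kA _ m22A3) _ m22f3
  · obtain ⟨rfl, D, h3, h4⟩ := k5 _ (kA _ m22A4) _ m22f4
    obtain rfl : e'' = 4 := m22c5 _ c5 rfl
    cases List.mem_singleton.1 h3
    simpa using k7 _ (h5.of_ckA hna hN p5 (by norm_num) s5 p11 h11 h4 (kA _ m22A4) (hG ▸ m22A9)) _ m22s4
  · simpa using k7 _ (kA _ m22A5) _ m22s5
  · simpa using k5 _ (kA _ m22A6) _ m22f6
  · obtain ⟨rfl, D, h3, h4⟩ := k5 _ (kA _ m22A7) _ m22f7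
    obtain ⟨rfl, D', h6, h8⟩ := k7 _ (kA _ m22A7) _ m22s7
    cases List.mem_singleton.1 h6
    refine ⟨⟨rfl, rfl, m22c7 _ c7 rfl, rfl, m22c5 _ c5 rfl, rfl⟩, h2, h8, ?_, kA _ m22A7⟩
    have h9 : ∀ w ∈ D, (w.1 % 7 == 0 || ([(45, -1), (45, 0), (55, -1), (99, 1)] : List (ℕ × ℤ)).any
        fun y => y.1 == w.1) = true := fun w hw => by
      obtain ⟨χ, k1, rfl⟩ := (mem_rws h4).1 hw
      exact h7.degs h8 χ (h5.ne1 χ k1)
    simp only [List.mem_cons, List.not_mem_nil, or_false] at h3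
    rcases h3 with rfl | rfl | rfl | rfl
    · exact absurd h9 (by decide)
    · exact absurd h9 (by decide)
    · exact h4
    · exact absurd h9 (by decide)
  · simpa using k7 _ (kA _ m22A8) _ m22s8

theorem m22count (h : KB 11 e X x T a) (h7 : KB 7 e' X' y U b) (h5 : KB 5 e'' X'' z V c) :
    Nat.card (IrrCharacter G) ≤ 12 := by
  classical
  obtain ⟨⟨rfl, rfl, rfl, rfl, rfl, rfl⟩, h1, h2, h3, -⟩ := m22core hG h h7 h5
  have k1 : ∀ χ ∈ T, deg χ.1 % 11 ≠ 0 := fun χ hχ =>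
    (by decide : ∀ w ∈ _, Prod.fst w % 11 ≠ 0) _ ((mem_rws h1).2 ⟨χ, hχ, rfl⟩)
  have k2 : ∀ χ ∈ U, deg χ.1 % 7 ≠ 0 := fun χ hχ =>
    (by decide : ∀ w ∈ _, Prod.fst w % 7 ≠ 0) _ ((mem_rws h2).2 ⟨χ, hχ, rfl⟩)
  have k3 : ∀ χ ∈ V, deg χ.1 % 5 ≠ 0 := fun χ hχ =>
    (by decide : ∀ w ∈ _, Prod.fst w % 5 ≠ 0) _ ((mem_rws h3).2 ⟨χ, hχ, rfl⟩)
  let o : IrrCharacter G := ⟨1, irr_one⟩
  have key : ∀ f : ℕ → ℕ, ∑ χ : IrrCharacter G, f (deg χ.1) = f 1 + ∑ χ ∈ T, f (deg χ.1) +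
      ∑ χ ∈ U, (if deg χ.1 % 11 = 0 then f (deg χ.1) else 0) +
      ∑ χ ∈ V, (if deg χ.1 % 77 = 0 then f (deg χ.1) else 0) +
      ∑ χ : IrrCharacter G, if deg χ.1 % 385 = 0 then f (deg χ.1) else 0 := fun f => by
    have e0 : f 1 = ∑ χ : IrrCharacter G, if χ = o then f (deg χ.1) else 0 := by
      rw [sum_ite_eq', if_pos (mem_univ _)]
      exact congrArg f deg_one.symm
    rw [e0, ← sum_ite_mem_eq T, ← sum_ite_mem_eq U, ← sum_ite_mem_eq V, ← sum_add_distrib,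
      ← sum_add_distrib, ← sum_add_distrib, ← sum_add_distrib]
    refine sum_congr rfl fun χ _ => ?_
    by_cases e1 : χ = o
    · have e2 : deg χ.1 = 1 := by rw [e1]; exact deg_one
      rw [if_pos e1, if_neg fun e => h.ne1 χ e (by rw [e1]), e2]
      simp
    have e2 : χ.1 ≠ 1 := fun e => e1 (Subtype.ext e)
    have e3 := h.mem rfl χ e2
    have e4 := h7.mem rfl χ e2
    have e5 := h5.mem rfl χ e2
    have e6 := k1 χ
    have e7 := k2 χ
    have e8 := k3 χ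
    rw [if_neg e1]
    by_cases m1 : χ ∈ T <;> by_cases m2 : χ ∈ U <;> by_cases m3 : χ ∈ V <;>
      simp only [m1, m2, m3, if_true, if_false, imp_false, not_not, forall_true_left] at * <;>
      split_ifs <;> omega
  have e1 := key fun _ => 1
  have e2 := key fun d => d * d
  rw [← sum_rws h1 fun _ => 1, ← sum_rws h2 fun d => if d % 11 = 0 then 1 else 0,
    ← sum_rws h3 fun d => if d % 77 = 0 then 1 else 0] at e1
  rw [← sum_rws h1 fun d => d * d, ← sum_rws h2 fun d => if d % 11 = 0 then d * d else 0,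
    ← sum_rws h3 fun d => if d % 77 = 0 then d * d else 0, sum_deg, hG] at e2
  have e3 : 385 * 385 * (∑ χ : IrrCharacter G, if deg χ.1 % 385 = 0 then 1 else 0) ≤
      ∑ χ : IrrCharacter G, if deg χ.1 % 385 = 0 then deg χ.1 * deg χ.1 else 0 := by
    rw [mul_sum]
    refine sum_le_sum fun χ _ => ?_
    split_ifs with e
    · have := Nat.le_of_dvd (irr_deg_pos χ.2) (Nat.dvd_of_mod_eq_zero e)
      rw [mul_one]
      exact Nat.mul_le_mul this this
    · rfl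
  rw [Nat.card_eq_fintype_card, ← card_univ, card_eq_sum_ones]
  generalize (∑ χ : IrrCharacter G, if deg χ.1 % 385 = 0 then 1 else 0) = u at e1 e3
  generalize (∑ χ : IrrCharacter G, if deg χ.1 % 385 = 0 then deg χ.1 * deg χ.1 else 0) = v at e2 e3
  generalize (∑ χ : IrrCharacter G, 1) = w at e1
  norm_num at e1 e2
  omega

theorem m22inv (h : KB 11 e X x T a) (h7 : KB 7 e' X' y U b) (h5 : KB 5 e'' X'' z V c) (s : G)
    (hs : orderOf s = 2) : cc s = 384 := by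
  classical
  have hna := Wong.not_comm (G := G) (by rw [hG]; norm_num)
  obtain ⟨⟨rfl, rfl, rfl, rfl, rfl, rfl⟩, h1, -, h3, h4⟩ := m22core hG h h7 h5
  by_contra h6
  have h8 : cc s ∈ [128, 192] := by simpa [h6] using h4 s hs
  have k1 : ∀ χ ∈ T, deg χ.1 % 11 ≠ 0 := fun χ hχ =>
    (by decide : ∀ w ∈ _, Prod.fst w % 11 ≠ 0) _ ((mem_rws h1).2 ⟨χ, hχ, rfl⟩)
  obtain ⟨r, -, r1, r2, -⟩ := h.st2 s hs
  obtain ⟨r', -, -, r3, -⟩ := h5.st2 s hs
  obtain rfl := r1 rfl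
  rw [hG] at r2 r3
  have e1 : 110 < ∑ χ ∈ T.filter fun χ => a χ ≠ 0, (iv χ.1 s).natAbs * (iv χ.1 s).natAbs := by
    by_contra e
    have := m22n1 _ h8
    rw [r2.vs' h1 fun l hl => by rw [sum_rows hl, Nat.ble_eq]; exact not_lt.1 e] at this
    cases this
  have e2 : cc s - 110 < ∑ χ ∈ V.filter fun χ => c χ ≠ 0,
      if deg χ.1 % 11 = 0 then (iv χ.1 s).natAbs * (iv χ.1 s).natAbs else 0 := by
    by_contra e
    have := m22n2 _ h8 r'
    rw [r3.vs' h3 fun l hl => by rw [sqs, sum_rows hl, Nat.ble_eq]; exact not_lt.1 e] at this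
    cases this
  have hss := Block.mul_self_of_orderOf hs
  have e3 := sum_iv (perfect hna) hss hss
  rw [if_pos (IsConj.refl s)] at e3
  have e4 : ∑ χ : IrrCharacter G, (iv χ.1 s).natAbs * (iv χ.1 s).natAbs = cc s := by
    zify
    simpa only [abs_mul_abs_self] using e3
  rw [← sum_ite_mem_eq] at e1 e2
  have e5 := add_lt_add e1 e2
  rw [← sum_add_distrib] at e5
  have e6 := e5.trans_le ((sum_le_sum fun χ _ => ?_).trans e4.le)
  · omega
  have := k1 χ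
  split_ifs with m1 m2 m3 <;> first | omega | exact absurd m3 (this (mem_filter.1 m1).1)

/-- The local data and degrees of a simple group of order `443520`. -/
theorem m22data : Nat.card (IrrCharacter G) ≤ 12 ∧ U45.NP G 5 4 ∧ U45.NP G 7 3 ∧ U45.NP G 11 5 ∧
    (∀ s : G, orderOf s = 2 → cc s = 384) ∧ Rho G 55 ∧ Rho G 77 ∧ Rho G 33 := by
  have hna := Wong.not_comm (G := G) (by rw [hG]; norm_num)
  have s11 : ¬ 11 * 11 ∣ Nat.card G := by rw [hG]; norm_num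
  have s7 : ¬ 7 * 7 ∣ Nat.card G := by rw [hG]; norm_num
  have s5 : ¬ 5 * 5 ∣ Nat.card G := by rw [hG]; norm_num
  obtain ⟨x, _, _, _, _, h⟩ := exists_KB' hna (p := 11) (by norm_num) (by norm_num) (by norm_num) s11
    (by rw [hG]; norm_num)
  obtain ⟨y, _, _, _, _, h7⟩ := exists_KB' hna (p := 7) (by norm_num) (by norm_num) (by norm_num) s7
    (by rw [hG]; norm_num)
  obtain ⟨z, _, _, _, _, h5⟩ := exists_KB' hna (p := 5) (by norm_num) (by norm_num) (by norm_num) s5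
    (by rw [hG]; norm_num)
  obtain ⟨-, -, h1, h2, -⟩ := m22core hG h h7 h5
  refine ⟨m22count hG h h7 h5, fun u hu => ?_, fun u hu => ?_, fun u hu => ?_, m22inv hG h h7 h5,
    ?_, ?_, ?_⟩
  · obtain ⟨_, _, _, _, k⟩ := exists_KB hna (by norm_num) (by norm_num) (by norm_num) s5 hu
    obtain ⟨⟨-, -, -, -, rfl, rfl⟩, -⟩ := m22core hG h h7 k
    exact ⟨k.ccx, k.nrm⟩
  · obtain ⟨_, _, _, _, k⟩ := exists_KB hna (by norm_num) (by norm_num) (by norm_num) s7 hu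
    obtain ⟨⟨-, -, rfl, rfl, -⟩, -⟩ := m22core hG h k h5
    exact ⟨k.ccx, k.nrm⟩
  · obtain ⟨_, _, _, _, k⟩ := exists_KB hna (by norm_num) (by norm_num) (by norm_num) s11 hu
    obtain ⟨⟨rfl, rfl, -⟩, -⟩ := m22core hG k h7 h5
    exact ⟨k.ccx, k.nrm⟩
  · obtain ⟨χ, -, e⟩ := (mem_rws h1 (y := (55, -1))).1 (by decide)
    exact ⟨χ.1, χ.2, by rw [(Prod.mk.inj e).1]⟩
  · obtain ⟨χ, -, e⟩ := (mem_rws h2 (y := (154, -1))).1 (by decide)
    exact ⟨χ.1, χ.2, by rw [(Prod.mk.inj e).1]; norm_num⟩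
  · obtain ⟨χ, -, e⟩ := (mem_rws h2 (y := (99, -1))).1 (by decide)
    exact ⟨χ.1, χ.2, by rw [(Prod.mk.inj e).1]; norm_num⟩

end Cfsg.Agent.MK
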