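import Cfsg.Agent.U45.B1
import Cfsg.Agent.Mat.Frob

/-!
# Congruences from products of several class sums
-/

set_option autoImplicit false
set_option linter.unusedSectionVars false

namespace Cfsg.Agent.MK

open Finset Subgroup Cfsg.Agent.Char Cfsg.Agent.Block Cfsg.Agent.Zass Cfsg.Agent.Local
  Cfsg.Agent.M11 Cfsg.Agent.Small
open scoped ComplexConjugate

variable {G : Type*} [Group G] [Fintype G]

open Classical in
/-- the number of factorisations of `g` with factors in the given classes -/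
noncomputable def FN : List G → G → ℕ
  | [], g => if g = 1 then 1 else 0
  | s :: L, g => ∑ u with IsConj s u, FN L (u⁻¹ * g)

theorem FN_conj (L : List G) : ∀ h g : G, FN L (h * g * h⁻¹) = FN L g := by
  classical
  induction L with
  | nil => intro h g; simp [FN]
  | cons s L ih =>
    intro h g
    simp only [FN]
    refine (sum_equiv (MulAut.conj h).toEquiv (fun u => ?_) fun u _ => ?_).symm
    · simp only [mem_filter, mem_univ, true_and]
      exact ⟨fun e => e.trans (isConj_iff.2 ⟨h, rfl⟩), fun e => e.trans (isConj_iff.2 ⟨h, rfl⟩).symm⟩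
    · rw [← ih h]
      congr 1
      change _ = (h * u * h⁻¹)⁻¹ * _
      group

/-- the central character -/
noncomputable def om (χ : G → ℂ) (s : G) : ℂ := Nat.card G * χ s / (cc s * χ 1)

theorem FN_irr {χ : G → ℂ} (hχ : IsIrrCharacter G χ) (L : List G) :
    ∑ g, (FN L g : ℂ) * χ g = χ 1 * (L.map (om χ)).prod := by
  classical
  induction L with
  | nil => simp [FN]
  | cons s L ih =>
    have h1 : ∀ z, ∑ u with IsConj s u, χ (u * z) = om χ s * χ z := fun z => by
      have h2 := irr_sum_conj_mul' hχ s z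
      rw [sum_conj_eq s fun u => χ (u * z)] at h2
      have h3 : (cc s : ℂ) ≠ 0 := Nat.cast_ne_zero.2 (cc_pos s).ne'
      have h4 := irr_one_ne_zero hχ
      rw [om]
      change (cc s : ℂ) * _ = _ at h2
      field_simp at h2 ⊢
      linear_combination h2
    simp only [FN, Nat.cast_sum, sum_mul]
    rw [sum_comm, sum_congr rfl fun u _ => (Fintype.sum_equiv (Equiv.mulLeft u)
      (fun g => (FN L g : ℂ) * χ (u * g)) _ fun g => by simp).symm, sum_comm]
    simp only [← mul_sum, h1, List.map_cons, List.prod_cons]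
    simp only [mul_left_comm _ (om χ s), ← mul_sum, ih]

theorem dvd_sum_conj {p : ℕ} (hp : p.Prime) {x : G} (hx : orderOf x = p) {A : Finset G} {w : G → ℕ}
    (hA : ∀ u ∈ A, ∀ r ∈ zpowers x, r * u * r⁻¹ ∈ A ∧ w (r * u * r⁻¹) = w u)
    (hf : ∀ u ∈ A, Commute u x → p ∣ w u) : p ∣ ∑ u ∈ A, w u := by
  classical
  rw [← sum_fiberwise_of_maps_to (g := w) (t := A.image w) fun u hu => mem_image_of_mem w hu]
  refine dvd_sum fun n _ => ?_
  rw [sum_congr rfl fun u hu => (mem_filter.1 hu).2, sum_const, smul_eq_mul]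
  by_cases h : p ∣ n
  · exact h.mul_left _
  refine Dvd.dvd.mul_right (Nat.dvd_of_mod_eq_zero ?_) _
  have := Mat.ncard_modEq_commute hp hx (X := ↑(A.filter fun u => w u = n)) fun u hu r hr => by
    rw [mem_coe, mem_filter] at hu ⊢
    exact ⟨(hA u hu.1 r hr).1, (hA u hu.1 r hr).2.trans hu.2⟩
  rw [Set.ncard_coe_finset, Set.eq_empty_of_forall_notMem (s := {u | _ ∧ _}) fun u hu => by
    have h1 := mem_filter.1 (mem_coe.1 hu.1)
    exact h (h1.2 ▸ hf u h1.1 hu.2)] at this
  simpa using this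

variable {p : ℕ} [hp : Fact p.Prime] {x : G} (h : PP p x)

include h in
theorem dvd_FN (L : List G) (hL : ∀ s ∈ L, (orderOf s).Coprime p) :
    ∀ g ∈ centralizer ({x} : Set G), g ∉ h.npc.compl → p ∣ FN L g := by
  classical
  induction L with
  | nil =>
    intro g _ h2
    rw [FN, if_neg (by rintro rfl; exact h2 (one_mem _))]
    exact dvd_zero p
  | cons s L ih =>
    intro g h1 h2
    rw [FN]
    refine dvd_sum_conj hp.out h.ord (fun u hu r hr => ⟨?_, ?_⟩) fun u hu hc => ?_
    · exact mem_filter.2 ⟨mem_univ _, (mem_filter.1 hu).2.trans (isConj_iff.2 ⟨r, rfl⟩)⟩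
    · obtain ⟨k, rfl⟩ := hr
      have h3 : Commute g (x ^ k) := Commute.zpow_right (mem_centralizer_singleton_iff.1 h1) k
      rw [← FN_conj L (x ^ k) (u⁻¹ * g)]
      congr 1
      calc _ = x ^ k * u⁻¹ * ((x ^ k)⁻¹ * g) := by group
        _ = _ := by rw [h3.inv_right.symm.eq]; group
    · have h3 : u ∈ h.npc.compl := ⟨mem_centralizer_singleton_iff.2 hc, by
        rw [← isConj_orderOf (mem_filter.1 hu).2]; exact hL s List.mem_cons_self⟩
      exact ih (fun t ht => hL t (List.mem_cons_of_mem _ ht)) _ (mul_mem (inv_mem h3.1) h1)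
        fun e => h2 (by simpa using mul_mem h3 e)

variable {h} {ψ : AddChar (ZMod p) ℂ} {φ θ : ZMod p → G → ℂ} (H : Phi h ψ φ θ)
  {a : ZMod p → IrrCharacter G → ℤ} (ha : ∀ k (χ : IrrCharacter G), classInner (θ k) χ = a k χ)
include H ha

/-- the moment congruence -/
theorem moment (L : List G) (hL : ∀ s ∈ L, (orderOf s).Coprime p) {Z : ℤ}
    (hZ : ∑ χ : IrrCharacter G, (a 1 χ : ℂ) * (χ.1 1 * (L.map (om χ.1)).prod) = Z) :
    ∃ f : ℕ, (Nat.card h.npc.compl : ℤ) * Z = Nat.card G * (p * f) := by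
  classical
  have := Fintype.ofFinite h.npc.compl
  have hcl : IsClassFunction G fun g => (FN L g : ℂ) := fun g u => by simp only [FN_conj]
  have h1 : ∑ g, θ 1 g * conj (FN L g : ℂ) = Z := by
    simp only [fun g => classFun_apply (gen_isClassFunction (H.gen 1)) g, map_natCast, sum_mul, ha]
    rw [sum_comm, ← hZ]
    refine sum_congr rfl fun χ _ => ?_
    rw [← FN_irr χ.2, mul_sum]
    exact sum_congr rfl fun g _ => by ring
  have h2 := H.inner 1 hcl
  rw [classInner, h1, h.cc_eq] at h2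
  set f : ZMod p → ℕ := fun i => ∑ u : h.npc.compl, FN L (x ^ i.val * u) with hf
  have hN := card_ne_zero' G
  have hX := card_ne_zero' h.npc.compl
  have hp0 : (p : ℂ) ≠ 0 := Nat.cast_ne_zero.2 hp.out.ne_zero
  have h3 : (p * Nat.card h.npc.compl * Z : ℂ) = Nat.card G * ∑ i : ZMod p, (1 - ψ i) * f i := by
    simp only [← Nat.cast_sum, map_natCast, mul_one] at h2
    push_cast at h2 ⊢
    field_simp at h2
    simp only [hf]
    push_cast
    linear_combination h2
  have hζ : IsPrimitiveRoot (ψ 1) p := by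
    have h8 : ψ 1 ≠ 1 := fun e => one_ne_zero ((H.prim.zmod_char_eq_one_iff p 1).1 e)
    have h9 : ψ 1 ^ p = 1 := by rw [← AddChar.map_nsmul_eq_pow]; simp
    have h10 := IsPrimitiveRoot.orderOf (ψ 1)
    rwa [orderOf_eq_prime h9 h8] at h10
  obtain ⟨n, rfl⟩ : ∃ n, p = n + 1 := ⟨p - 1, by have := hp.out.pos; omega⟩
  have h4 := (hζ.sum_eq_zero_iff_forall_eq_int hp.out fun i : Fin (n + 1) =>
    (if i = 0 then ((n + 1 : ℕ) * Nat.card h.npc.compl * Z - Nat.card G * ∑ j, f j : ℤ) else 0) +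
      Nat.card G * f i).1 (by
    have h5 : ∀ i : Fin (n + 1), ψ 1 ^ i.val = ψ i := fun i => by
      rw [← AddChar.map_nsmul_eq_pow, nsmul_eq_mul, mul_one]
      exact congrArg ψ (ZMod.natCast_zmod_val (n := n + 1) i)
    simp only [h5, Int.cast_add, add_mul, sum_add_distrib, Int.cast_ite, ite_mul, Int.cast_zero,
      zero_mul, sum_ite_eq', mem_univ, if_true]
    simp only [sub_mul, sum_sub_distrib, one_mul, mul_sub, mul_sum] at h3
    push_cast at h3 ⊢
    rw [show ψ (0 : Fin (n + 1)) = 1 from AddChar.map_zero_eq_one ψ, mul_one, h3, mul_sum]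
    simp only [mul_assoc, mul_comm (ψ _)]
    rw [sub_sub_cancel_left]
    exact neg_add_cancel _)
  have h10 : (1 : ZMod (n + 1)) ≠ 0 := one_ne_zero
  have hN' : (Nat.card G : ℤ) ≠ 0 := Nat.cast_ne_zero.2 Nat.card_pos.ne'
  have h6 : ∀ i : ZMod (n + 1), i ≠ 0 → f i = f 1 := fun i hi => by
    have := h4 i (1 : ZMod (n + 1))
    erw [if_neg hi, if_neg h10, zero_add, zero_add] at this
    exact_mod_cast mul_left_cancel₀ hN' this
  have h7 := h4 (0 : ZMod (n + 1)) (1 : ZMod (n + 1))
  erw [if_pos rfl, if_neg h10] at h7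
  rw [← add_sum_erase _ _ (mem_univ (0 : ZMod (n + 1))),
    sum_congr rfl fun i hi => h6 i (ne_of_mem_erase hi), sum_const, card_erase_of_mem (mem_univ _),
    card_univ, ZMod.card] at h7
  obtain ⟨k, hk⟩ : n + 1 ∣ f 1 := dvd_sum fun u _ => dvd_FN h L hL _ (h.mem_C u.2 _) fun e =>
    h10 (h.uniq (j := 0) u.2 e (by simp)).1
  refine ⟨k, mul_left_cancel₀ (a := ((n + 1 : ℕ) : ℤ)) (by positivity) ?_⟩
  rw [hk] at h7
  simp only [Nat.add_sub_cancel, smul_eq_mul] at h7
  push_cast at h7 ⊢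
  linear_combination h7

end Cfsg.Agent.MK
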