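import Cfsg.Agent.MK.Cand

/-!
# Pruned versions of the block searches
-/

set_option autoImplicit false
set_option linter.unusedSectionVars false

namespace Cfsg.Agent.MK

open Finset Subgroup Cfsg.Agent.Char Cfsg.Agent.Zass Cfsg.Agent.Local Cfsg.Agent.M11 Cfsg.Agent.Small

def anyP (s k : ℕ) (F : Row → List Row → Bool) : List Row → Bool
  | [] => false
  | x :: l => Nat.ble s (k * x.1) && (F x l || anyP s k F l)

def gp (fin : List Row → ℕ → Bool) : ℕ → List Row → ℕ → ℕ → ℤ → List Row → Bool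
  | 0, _, _, r, s, acc => s == 0 && fin acc r
  | f + 1, l, k, r, s, acc => match k with
    | 0 => s == 0 && fin acc r
    | k + 1 => fN s.natAbs fun sa => anyP sa (k + 1) (fun x tl => Nat.ble (x.1 * x.1) r &&
        (Nat.ble (x.2.1.natAbs * x.2.1.natAbs) (k + 1) &&
        fN (k + 1 - x.2.1.natAbs * x.2.1.natAbs) fun k' => fN (r - x.1 * x.1) fun r' =>
        fI (s + x.2.1 * x.1) fun s' => gp fin f (x :: tl) k' r' s' (x :: acc))) l

theorem exists_of_anyT {F : Row → List Row → Bool} {l : List Row} (h : anyT F l = true) :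
    ∃ x tl, x :: tl <:+ l ∧ F x tl = true := by
  induction l with
  | nil => cases h
  | cons y l ih =>
    rw [anyT, Bool.or_eq_true] at h
    rcases h with h | h
    · exact ⟨y, l, List.suffix_refl _, h⟩
    · obtain ⟨x, tl, h1, h2⟩ := ih h
      exact ⟨x, tl, h1.trans (List.suffix_cons _ _), h2⟩

theorem anyP_of {F : Row → List Row → Bool} {s k : ℕ} {x : Row} {tl l : List Row}
    (hl : l.Pairwise fun a b => b.1 ≤ a.1) (h : x :: tl <:+ l) (h1 : F x tl = true)
    (h2 : s ≤ k * x.1) : anyP s k F l = true := by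
  induction l with
  | nil => simp at h
  | cons y l ih =>
    rw [List.pairwise_cons] at hl
    rw [anyP, Bool.and_eq_true, Bool.or_eq_true, Nat.ble_eq]
    rcases List.suffix_cons_iff.1 h with e | e
    · obtain ⟨rfl, rfl⟩ := List.cons.inj e
      exact ⟨h2, .inl h1⟩
    · exact ⟨h2.trans (Nat.mul_le_mul_left _ (hl.1 x (e.subset List.mem_cons_self))),
        .inr (ih hl.2 e)⟩

theorem gp_of_go {fin : List Row → ℕ → Bool} (f : ℕ) : ∀ (l : List Row) (k r q : ℕ) (s sv : ℤ)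
    (acc : List Row), (l.Pairwise fun a b => b.1 ≤ a.1) → M12R.go fin f l k r q s sv acc = true →
      gp fin f l k r s acc = true ∧ ∀ D, (∀ x ∈ l, x.1 ≤ D) → s.natAbs ≤ k * D := by
  induction f with
  | zero =>
    intro l k r q s sv acc _ h
    simp only [M12R.go, Bool.and_eq_true, beq_iff_eq] at h
    simp [gp, h]
  | succ f ih =>
    intro l k r q s sv acc hl h
    rcases k with _ | k
    · simp only [M12R.go, Bool.and_eq_true, beq_iff_eq] at h
      simp [gp, h]
    rw [M12R.go] at h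
    obtain ⟨x, tl, h1, h2⟩ := exists_of_anyT h
    simp only [fN_eq, fI_eq, Bool.and_eq_true, Nat.ble_eq] at h2
    obtain ⟨h3, -, h4, h5⟩ := h2
    have h6 := hl.sublist h1.sublist
    obtain ⟨h7, h8⟩ := ih _ _ _ _ _ _ _ h6 h5
    have h9 : s.natAbs ≤ (k + 1) * x.1 := by
      have e1 := h8 x.1 fun y hy => by
        rcases List.mem_cons.1 hy with rfl | hy
        · rfl
        · exact (List.pairwise_cons.1 h6).1 y hy
      have e2 : s.natAbs ≤ (s + x.2.1 * x.1).natAbs + x.2.1.natAbs * x.1 := by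
        have := Int.natAbs_sub_le (s + x.2.1 * x.1) (x.2.1 * x.1)
        rwa [add_sub_cancel_right, Int.natAbs_mul, Int.natAbs_natCast] at this
      have e3 : x.2.1.natAbs * x.1 ≤ x.2.1.natAbs * x.2.1.natAbs * x.1 :=
        Nat.mul_le_mul_right _ (Nat.le_mul_self _)
      rw [← Nat.sub_add_cancel h4, add_mul]
      omega
    refine ⟨?_, fun D hD => h9.trans (Nat.mul_le_mul_left _ (hD x (h1.subset List.mem_cons_self)))⟩
    rw [gp, fN_eq]
    refine anyP_of hl h1 ?_ h9
    simp only [fN_eq, fI_eq, Bool.and_eq_true, Nat.ble_eq]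
    exact ⟨h3, h4, h7⟩

def srtd : List Row → Bool
  | [] => true
  | [_] => true
  | x :: y :: l => Nat.ble y.1 x.1 && srtd (y :: l)

theorem pw_of_srtd : ∀ l : List Row, srtd l = true → l.Pairwise fun a b => b.1 ≤ a.1
  | [], _ => List.Pairwise.nil
  | [_], _ => List.pairwise_singleton _ _
  | x :: y :: l, h => by
    rw [srtd, Bool.and_eq_true, Nat.ble_eq] at h
    have := pw_of_srtd (y :: l) h.2
    refine List.pairwise_cons.2 ⟨fun z hz => ?_, this⟩
    rcases List.mem_cons.1 hz with rfl | hz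
    · exact h.1
    · exact ((List.pairwise_cons.1 this).1 z hz).trans h.1

/-- the degree search with pruning; `dl` should be decreasing -/
def BP (dl : List ℕ) (N p e n : ℕ) (fin : List Row → ℕ → Bool) : Bool :=
  fR (M12R.rows dl (fun d _ => [(d : ℤ)]) p e n) fun l => !srtd l ||
  if e + 1 = p then gp fin e l e (N - 1) 1 [] else
  fN ((p - 1) / e) fun t => dl.any fun d : ℕ => Nat.ble (t * (d * d)) (N - 1) &&
    ([1, -1] : List ℤ).any fun ε => (0 :: aL).any fun b =>
      ((d : ℤ) + e * ε - b) % p == 0 &&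
      fN ((t - 1) * (b.natAbs * b.natAbs) + (b + ε).natAbs * (b + ε).natAbs) fun nb =>
      Nat.ble nb e && (decide (0 ≤ (d : ℤ) + (p - 1) * b + e * ε) &&
        gp fin e l (e - nb) (N - 1 - t * (d * d)) (1 + (t * b + ε) * d)
          ((d, b + ε, d) :: List.replicate (t - 1) (d, b, d)))

theorem BP_of_B {dl : List ℕ} {N p e n q : ℕ} {fin : List Row → ℕ → Bool}
    (h : M12R.B dl (fun d _ => [(d : ℤ)]) N p e n q fin = true) : BP dl N p e n fin = true := by
  rw [BP, fR_eq, Bool.or_eq_true, Bool.not_eq_true', ← Bool.not_eq_true, or_iff_not_imp_left, not_not]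
  intro hs
  have hs := pw_of_srtd _ hs
  rw [M12R.B, fR_eq] at h
  split_ifs at h ⊢
  · exact (gp_of_go _ _ _ _ _ _ _ _ hs h).1
  simp only [fN_eq, List.any_eq_true, Bool.and_eq_true, List.mem_singleton, exists_eq_left] at h ⊢
  obtain ⟨d, h1, h2, ε, h3, b, h4, h5, h6, h7, -, h8⟩ := h
  exact ⟨d, h1, h2, ε, h3, b, h4, h5, h6, h7, (gp_of_go _ _ _ _ _ _ _ _ hs h8).1⟩

def insD (x : ℕ) : List ℕ → List ℕ
  | [] => [x]
  | y :: l => bif Nat.ble y x then x :: y :: l else y :: insD x l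

def srtD : List ℕ → List ℕ
  | [] => []
  | x :: l => fA x fun x => insD x (srtD l)

theorem mem_insD {x y : ℕ} {l : List ℕ} : y ∈ insD x l ↔ y = x ∨ y ∈ l := by
  induction l with
  | nil => simp [insD]
  | cons z l ih => rw [insD]; cases Nat.ble z x <;> simp [ih, or_left_comm]

theorem mem_srtD {y : ℕ} {l : List ℕ} : y ∈ srtD l ↔ y ∈ l := by
  induction l with
  | nil => simp [srtD]
  | cons z l ih => simp [srtD, mem_insD, ih]

/-- first stage, pruned -/
def K1P (N p e X : ℕ) (W : ℕ → Bool) (F : List (ℕ × ℤ) → Bool) : Bool :=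
  fL (srtD (dgl N p X W)) fun dl => BP dl N p e (N / (p * X)) fun l r =>
    (X != 1 || r % (p * p) == 0) && F (prj l)

/-- the value search, last value solved directly -/
def vs2 (fin : List Row → Bool) : List (ℕ × ℤ × List ℤ) → ℕ → ℤ → List Row → Bool
  | [], _, _, acc => fin acc
  | [x], q, sv, acc => x.2.1 == 0 || fI (-sv / x.2.1) fun v => sv + x.2.1 * v == 0 &&
      (Nat.ble (v.natAbs * v.natAbs) q && (x.2.2.contains v && fin ((x.1, x.2.1, v) :: acc)))
  | x :: y :: tl, q, sv, acc => x.2.2.any fun v => Nat.ble (v.natAbs * v.natAbs) q &&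
      fI (sv + x.2.1 * v) fun sv' => fN (q - v.natAbs * v.natAbs) fun q' =>
        vs2 fin (y :: tl) q' sv' ((x.1, x.2.1, v) :: acc)

theorem vs2_of_vs {fin : List Row → Bool} : ∀ (R : List (ℕ × ℤ × List ℤ)) (q : ℕ) (sv : ℤ)
    (acc : List Row), vs fin R q sv acc = true → vs2 fin R q sv acc = true
  | [], _, _, _, h => by
    simp only [vs, Bool.and_eq_true] at h
    exact h.2
  | [x], q, sv, acc, h => by
    simp only [vs, List.any_eq_true, fI_eq, fN_eq, Bool.and_eq_true, beq_iff_eq] at h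
    obtain ⟨v, h1, -, h2, h3, h4⟩ := h
    simp only [vs2, fI_eq, Bool.or_eq_true, beq_iff_eq, Bool.and_eq_true, List.contains_eq_mem,
      decide_eq_true_eq]
    refine or_iff_not_imp_left.2 fun h0 => ?_
    have : -sv / x.2.1 = v := by
      rw [neg_eq_of_add_eq_zero_right h3, Int.mul_ediv_cancel_left _ h0]
    rw [this]
    exact ⟨h3, h2, h1, h4⟩
  | x :: y :: tl, q, sv, acc, h => by
    rw [vs] at h
    simp only [List.any_eq_true, fI_eq, fN_eq, Bool.and_eq_true] at h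
    obtain ⟨v, h1, -, h2, h3⟩ := h
    rw [vs2]
    simp only [List.any_eq_true, fI_eq, fN_eq, Bool.and_eq_true]
    exact ⟨v, h1, h2, vs2_of_vs _ _ _ _ h3⟩

/-- the value search with a value filter `vf` and a norm bound `q` -/
def VS2 (N p e X c : ℕ) (r3 : Bool) (vf : ℕ → ℤ → Bool) (q : ℕ) (l0 : List (ℕ × ℤ))
    (fin : List Row → Bool) : Bool :=
  fN (stp p c) fun st => fP (fun d => (vL N c st p false d 0).filter (vf d)) (srt N c l0) fun R =>
    vs2 (fun l => fin2 N p e X c r3 l && fin l) R q 1 []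

def killP (N p b e X : ℕ) (W : ℕ → Bool) (F : List (ℕ × ℤ) → Bool) (P : ℕ → Bool) : Bool :=
  fC ((cs N p b e X).filter fun c => P c.1) fun C => !K1P N p e X W fun l => F l &&
    C.any fun c => VS2 N p e X c.1 c.2 (fun _ _ => true) (c.1 - 1) l fun _ => true

def killAllP (N p b : ℕ) (S : ℕ × ℕ → Bool) (W : ℕ → Bool) (F : ℕ → List (ℕ × ℤ) → Bool)
    (P : ℕ → Bool) : Bool :=
  (cands N p b).all fun c => S c || fN c.1 fun e => fN c.2 fun X => killP N p b e X W (F X) P

variable {G : Type*} [Group G] [Finite G] {p e X : ℕ} {x : G} {T : Finset (IrrCharacter G)}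
  {a : IrrCharacter G → ℤ}

theorem Col.vs2 {N c : ℕ} {r3 : Bool} {v : IrrCharacter G → ℤ}
    (h : Col N p e X c r3 T (fun χ => deg χ.1) a v) {l0 : List (ℕ × ℤ)}
    (h0 : (l0 : Multiset (ℕ × ℤ)) = rws T a) {vf : ℕ → ℤ → Bool} {q : ℕ}
    (hvf : ∀ χ ∈ T, vf (deg χ.1) (v χ) = true) (hq : ∑ χ ∈ T, (v χ).natAbs * (v χ).natAbs ≤ q)
    {fin : List Row → Bool} (hf : ∀ l : List Row, (l : Multiset Row) =
      (T.filter fun χ => a χ ≠ 0).val.map (fun χ => (deg χ.1, a χ, v χ)) → fin l = true) :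
    VS2 N p e X c r3 vf q l0 fin = true := by
  have h' := h.filter
  have h1 : (srt N c l0 : Multiset (ℕ × ℤ)) =
      (T.filter fun χ => a χ ≠ 0).val.map fun χ => (deg χ.1, a χ) := by
    rw [Multiset.coe_eq_coe.2 (srt_perm N c l0), ← Multiset.filter_coe, h0, rws, Multiset.filter_map,
      filter_val]
    simp
  obtain ⟨L, h2, h3⟩ := exists_list (fun x : Row => (x.1, x.2.1)) (srt N c l0)
    ((T.filter fun χ => a χ ≠ 0).val.map fun χ => (deg χ.1, a χ, v χ))
    (by rw [h1, Multiset.map_map]; rfl)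
  have h4 : ((L.reverse ++ [] : List Row) : Multiset Row) =
      (T.filter fun χ => a χ ≠ 0).val.map fun χ => (deg χ.1, a χ, v χ) := by
    rw [List.append_nil, Multiset.coe_reverse, h2]
  rw [VS2, fN_eq, fP_eq, ← h3, List.map_map]
  refine vs2_of_vs _ _ _ _ (vs_sound (vl := fun d => (vL N c (stp p c) p false d 0).filter (vf d))
    L _ _ _ (fun x hx => ?_)
    (by rw [sum_rows h2]; exact (sum_le_sum_of_subset (filter_subset _ _)).trans hq)
    (by rw [sum_rows h2]; exact h'.orth) (by rw [h'.fin2 h4, hf _ h4]; rfl))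
  rw [← Multiset.mem_coe, h2] at hx
  obtain ⟨χ, hχ, rfl⟩ := Multiset.mem_map.1 hx
  exact List.mem_filter.2 ⟨h'.mem χ hχ, hvf χ (mem_filter.1 hχ).1⟩

variable [IsSimpleGroup G] (hna : ¬ IsMulCommutative G) (hN : Nat.card G ∣ 244823040)
include hna hN

theorem KB.k1P (h : KB p e X x T a) {W : ℕ → Bool} (hW : ∀ χ ∈ T, W (deg χ.1) = true)
    {F : List (ℕ × ℤ) → Bool} (hF : ∀ l : List (ℕ × ℤ), (l : Multiset (ℕ × ℤ)) = rws T a → F l = true) :
    K1P (Nat.card G) p e X W F = true := by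
  rw [K1P, fL_eq]
  refine BP_of_B (h.st1 _ _ (fun χ hχ => mem_srtD.2 (h.mem_dgl hna hN hW χ hχ)) fun l hl r _ hr => ?_)
  simp only [Bool.and_eq_true, Bool.or_eq_true, bne_iff_ne, beq_iff_eq]
  refine ⟨or_iff_not_imp_left.2 fun e => hr (not_ne_iff.1 e), hF _ ?_⟩
  rw [prj, ← Multiset.map_coe, hl, Multiset.map_map]
  rfl

theorem KB.not_killP (h : KB p e X x T a) (hp : p.Prime) (h2 : p ≠ 2) (hsq : ¬ p * p ∣ Nat.card G)
    {b : ℕ} (hb : b.Prime) (h11 : b ∣ Nat.card G) {W : ℕ → Bool} (hW : ∀ χ ∈ T, W (deg χ.1) = true)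
    {F : List (ℕ × ℤ) → Bool} (hF : ∀ l : List (ℕ × ℤ), (l : Multiset (ℕ × ℤ)) = rws T a → F l = true)
    {P : ℕ → Bool} (hP : ∀ s : G, orderOf s = 2 → P (cc s) = true)
    (hk : killP (Nat.card G) p b e X W F P = true) : False := by
  obtain ⟨s, hs, r, h3, h4⟩ := h.surv hna hN hp h2 hsq hb h11
  rw [killP, fC_eq, h.k1P hna hN hW fun l hl => ?_] at hk
  · cases hk
  rw [hF l hl, Bool.true_and, List.any_eq_true]
  exact ⟨(cc s, r), List.mem_filter.2 ⟨h3, hP s hs⟩,
    h4.vs2 hl (fun _ _ => rfl) h4.nrm fun _ _ => rfl⟩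

theorem KB.of_killAllP (h : KB p e X x T a) (hp : p.Prime) (h2 : p ≠ 2) (hsq : ¬ p * p ∣ Nat.card G)
    {b : ℕ} (hb : b.Prime) (h11 : b ∣ Nat.card G) {W : ℕ → Bool} (hW : ∀ χ ∈ T, W (deg χ.1) = true)
    {F : ℕ → List (ℕ × ℤ) → Bool}
    (hF : ∀ l : List (ℕ × ℤ), (l : Multiset (ℕ × ℤ)) = rws T a → F X l = true)
    {P : ℕ → Bool} (hP : ∀ s : G, orderOf s = 2 → P (cc s) = true) {S : ℕ × ℕ → Bool}
    (hk : killAllP (Nat.card G) p b S W F P = true) : S (e, X) = true := by
  simp only [killAllP, List.all_eq_true, Bool.or_eq_true, fN_eq] at hk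
  exact (hk _ (h.mem_cands hna hN hp hb h11)).resolve_right
    (h.not_killP hna hN hp h2 hsq hb h11 hW hF hP)

end Cfsg.Agent.MK
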