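import Cfsg.Agent.MK.Loc3
import Cfsg.Agent.MK.Loc1
import Cfsg.Agent.MK.Loc2

/-!
# Local lemmas for groups of order dividing `244823040` and divisible by `253`
-/

set_option autoImplicit false

namespace Cfsg.Agent.MK

open Subgroup Cfsg.Agent.M11 Cfsg.Agent.Local

variable {G : Type*} [Group G] [Finite G]

theorem mem_zp_of_prime {p : ℕ} (hp : p.Prime) {x c : G} (hx : orderOf x = p) (hc : c ∈ zpowers x)
    (h1 : c ≠ 1) : x ∈ zpowers c := by
  have := Fact.mk hp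
  obtain ⟨k, hk⟩ := mem_zpowers_of_prime_card (G := zpowers x) (p := p) (by rw [Nat.card_zpowers, hx])
    (g := ⟨c, hc⟩) (g' := ⟨x, mem_zpowers x⟩) fun e => h1 (congrArg Subtype.val e)
  exact ⟨k, congrArg Subtype.val hk⟩

theorem LD.syl {p e X : ℕ} [Fact p.Prime] {x : G} (h : LD p e X x) : ∃ P : Sylow p G,
    (P : Subgroup G) = zpowers x ∧ Nat.card (Sylow p G) * (p * X * e) = Nat.card G := by
  obtain ⟨P, h1⟩ := (syl_zp h.sq h.ord (mem_top x)).exists_sylow_of_top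
  refine ⟨P, h1, ?_⟩
  rw [Sylow.card_eq_index_normalizer P, ← h.nrm, ← Sylow.coe_coe, h1, mul_comm, card_mul_index]

/-- the fixed points of a complement on the other Sylow subgroups -/
theorem LD.fix {p q e X f Y : ℕ} {x y : G} (h : LD p e X x) (k : LD q f Y y)
    (hy : y ∈ normalizer (zpowers x : Set G)) (hc : ¬ Commute y x) (hY : ¬ p ∣ q * Y * f) :
    p * (q * Y * f / (X * e) - 1) + 1 ≤ Nat.card G / (p * X * e) := by
  have := Fact.mk h.pr
  obtain ⟨P, hP, hn⟩ := h.syl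
  have hs : ∀ g : G, g • P = P ↔ g ∈ normalizer (zpowers x : Set G) := fun g => by
    rw [Sylow.smul_eq_iff_mem_normalizer, ← Sylow.coe_coe, hP]
  have h1 : ∀ Q : Sylow p G, x • Q = Q → Q = P := fun Q hQ => by
    have h1 := P.isPGroup'.inf_normalizer_sylow Q
    rw [inf_eq_left.2 (hP.le.trans (zpowers_le_of_mem (Sylow.smul_eq_iff_mem_normalizer.1 hQ))),
      eq_comm, inf_eq_left] at h1
    exact Sylow.ext (P.is_maximal' Q.isPGroup' h1)
  set K := normalizer (zpowers y : Set G)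
  set O := MulAction.orbit K P
  have h2 : ∀ Q ∈ O, y • Q = Q := by
    rintro _ ⟨g, rfl⟩
    change y • (g : G) • P = (g : G) • P
    have h2 := (hs _).2 (zpowers_le_of_mem hy
      ((mem_normalizer_iff''.1 g.2 y).1 (mem_zpowers y)))
    rwa [mul_smul, mul_smul, inv_smul_eq_iff] at h2
  have h3 : q * Y * f / (X * e) ≤ O.ncard := by
    have h3 := card_inf_mul_relIndex (normalizer (zpowers x : Set G)) K
    have h4 : (normalizer (zpowers x : Set G)).relIndex K = O.ncard := by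
      rw [← MulAction.index_stabilizer, Subgroup.relIndex]
      congr 1
      ext g
      exact (hs g).symm
    have h5 := card_dvd_of_le (inf_le_left : normalizer (zpowers x : Set G) ⊓ K ≤ _)
    rw [k.nrm, h4] at h3
    rw [h.nrm, mul_assoc] at h5
    have h6 := Nat.le_of_dvd (Nat.mul_pos h.not_dvd.2.2.2.1 h.not_dvd.2.2.2.2)
      ((h.pr.coprime_iff_not_dvd.2 fun e => hY (h3 ▸ e.mul_right _)).symm.dvd_of_dvd_mul_left h5)
    exact Nat.div_le_of_le_mul (h3 ▸ Nat.mul_le_mul_right _ h6)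
  let Φ : zpowers x × ↥(O \ {P}) → ↥(Set.univ \ {P} : Set (Sylow p G)) := fun a =>
    ⟨(a.1 : G) • (a.2 : Sylow p G), Set.mem_univ _, fun e => a.2.2.2 (by
      rw [Set.mem_singleton_iff, smul_eq_iff_eq_inv_smul] at e
      exact e.trans ((hs _).2 (le_normalizer (Subgroup.inv_mem _ a.1.2))))⟩
  have h4 : Function.Injective Φ := by
    rintro ⟨⟨a, ha⟩, Q, hQ, hQP⟩ ⟨⟨b, hb⟩, R, hR, hRP⟩ e
    have e1 : a • Q = b • R := congrArg Subtype.val e
    have e2 : (b⁻¹ * a) • Q = R := by rw [mul_smul, e1, inv_smul_smul]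
    have hc1 : b⁻¹ * a ∈ zpowers x := Subgroup.mul_mem _ (Subgroup.inv_mem _ hb) ha
    have e3 : b⁻¹ * a = 1 := by
      generalize b⁻¹ * a = c at e2 hc1
      by_contra h5
      have h6 : c⁻¹ * (y * c * y⁻¹) = 1 := by
        by_contra h6
        obtain ⟨i, hi⟩ := mem_zp_of_prime h.pr h.ord (Subgroup.mul_mem _ (Subgroup.inv_mem _ hc1)
          ((mem_normalizer_iff.1 hy c).1 hc1)) h6
        refine hQP (h1 Q ?_)
        rw [← hi]
        refine Subgroup.zpow_mem (MulAction.stabilizer G Q) ?_ i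
        rw [MulAction.mem_stabilizer_iff, mul_smul, mul_smul, mul_smul,
          inv_smul_eq_iff.2 (h2 Q hQ).symm, e2, h2 R hR, ← e2, inv_smul_smul]
      obtain ⟨i, hi⟩ := mem_zp_of_prime h.pr h.ord hc1 h5
      rw [inv_mul_eq_one, eq_mul_inv_iff_mul_eq] at h6
      exact hc (hi ▸ Commute.zpow_right h6.symm i)
    rw [e3, one_smul] at e2
    rw [inv_mul_eq_one] at e3
    subst e2 e3
    rfl
  have h5 := Nat.card_le_card_of_injective Φ h4
  rw [Nat.card_prod, Nat.card_zpowers, h.ord, Nat.card_coe_set_eq, Nat.card_coe_set_eq,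
    Set.ncard_diff_singleton_of_mem (MulAction.mem_orbit_self P),
    Set.ncard_diff_singleton_of_mem (Set.mem_univ P), Set.ncard_univ] at h5
  have h6 : 0 < Nat.card (Sylow p G) := Nat.card_pos
  have h7 : 0 < p * X * e := h.nrm ▸ Nat.card_pos
  rw [← hn, Nat.mul_div_cancel _ h7]
  have h8 := (Nat.mul_le_mul_left p (Nat.sub_le_sub_right h3 1)).trans h5
  omega

theorem pw24 {r a b : ℕ} (hr : r.Prime) (hd : r ^ a ∣ 244823040) (hb : b < a) :
    (r ^ a % 11 = r ^ b % 11 → r = 23 ∨ 1024 ∣ r ^ a) ∧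
      (r ^ a % 5 = r ^ b % 5 → r = 11 ∨ r = 2 ∧ 16 ∣ r ^ a) := by
  have h1 : r ∣ 2 ^ 10 * 3 ^ 3 * 5 * 7 * 11 * 23 := (dvd_pow_self r (by omega)).trans hd
  have h2 : r ∈ [2, 3, 5, 7, 11, 23] := by
    simp only [hr.dvd_mul, hr.prime.dvd_pow_iff_dvd (by norm_num : 10 ≠ 0),
      hr.prime.dvd_pow_iff_dvd (by norm_num : 3 ≠ 0), Nat.prime_dvd_prime_iff_eq hr Nat.prime_two,
      Nat.prime_dvd_prime_iff_eq hr Nat.prime_three, Nat.prime_dvd_prime_iff_eq hr Nat.prime_five,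
      Nat.prime_dvd_prime_iff_eq hr Nat.prime_seven, Nat.prime_dvd_prime_iff_eq hr Nat.prime_eleven,
      Nat.prime_dvd_prime_iff_eq hr (by norm_num : Nat.Prime 23)] at h1
    simp only [List.mem_cons, List.not_mem_nil, or_false]
    omega
  have h3 : a < 11 := by
    by_contra h3
    have h4 := (pow_dvd_pow r (not_lt.1 h3)).trans hd
    clear h1 hd hr
    revert r
    decide +kernel
  clear h1 hr
  revert r a b
  have : ∀ r ∈ [2, 3, 5, 7, 11, 23], ∀ a < 11, ∀ b < a, r ^ a ∣ 244823040 →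
      (r ^ a % 11 = r ^ b % 11 → r = 23 ∨ 1024 ∣ r ^ a) ∧
      (r ^ a % 5 = r ^ b % 5 → r = 11 ∨ r = 2 ∧ 16 ∣ r ^ a) := by decide +kernel
  exact fun r a b h1 h2 h3 h4 => this r h3 a h4 b h2 h1

theorem LD.dvd_card {p e X : ℕ} {x : G} (h : LD p e X x) : p * X * e ∣ Nat.card G :=
  h.nrm ▸ card_subgroup_dvd_card _

theorem cc_cj (g z : G) : cc (g * z * g⁻¹) = cc z := (cc_eq_of_isConj (isConj_iff.mpr ⟨g, rfl⟩)).symm

/-- the action of an element of order `11` on the centraliser of an element of order `23` -/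
theorem act11 (hN : Nat.card G ∣ 244823040) {e X f Y : ℕ} {x y : G} (h : LD 23 e X x)
    (k : LD 11 f Y y) (he : 11 ∣ e) (hX : ¬ 1024 ∣ X) : ¬ 23 ∣ Y ∧ e * X ∣ 11 * Y ∧
      23 * (11 * Y * f / (X * e) - 1) + 1 ≤ Nat.card G / (23 * X * e) ∧
      ∀ z : G, (orderOf z).Prime → orderOf z ≠ 23 → Commute z x →
        ∃ g w : G, orderOf w = 11 ∧ Commute (g * z * g⁻¹) w := by
  obtain ⟨w, hw, h1, Z, h2, h3, -, h4⟩ := h.act k he
  have h5 : ¬ 11 ∣ X := fun e => k.sq ((mul_dvd_mul (e.mul_left 23) he).trans h.dvd_card)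
  have h6 : ¬ 23 ∣ Y := fun e => h5 ((h.compat k (by norm_num)).1.2 e)
  have h7 : ∀ r : ℕ, r.Prime → r ^ X.factorization r ∣ Z ∧ (r ≠ 23 → ∀ z : G, orderOf z = r →
      Commute z x → ∃ g, Commute g x ∧ Commute (g * z * g⁻¹) w) := fun r hr => by
    have h7 := Nat.ordProj_dvd X r
    obtain ⟨b, b1, b2, b3, b4⟩ := h4 r _ hr h7 (Nat.pow_succ_factorization_not_dvd
      h.not_dvd.2.2.2.1.ne' hr)
    obtain rfl : b = X.factorization r := by
      by_contra h8
      rcases (pw24 hr (h7.trans ((((dvd_mul_left X 23).mul_right e).trans h.dvd_card).trans hN))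
        (lt_of_le_of_ne b1 h8)).1 b3 with rfl | h9
      · exact h.not_dvd.1 ((dvd_pow_self 23 (by omega)).trans h7)
      · exact hX (h9.trans h7)
    exact ⟨b2, b4 rfl⟩
  have h8 : X ∣ Z := (Nat.dvd_iff_prime_pow_dvd_dvd Z X).2 fun r a hr ha =>
    (pow_dvd_pow r ((hr.pow_dvd_iff_le_factorization h.not_dvd.2.2.2.1.ne').1 ha)).trans (h7 r hr).1
  refine ⟨h6, (Nat.mul_dvd_mul_left e h8).trans h3, h.fix (k.of_ord hw) h1 (fun hc => ?_) ?_,
    fun z h9 h10 h11 => ?_⟩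
  · have := orderOf_dvd_cc hc.eq
    rw [hw, h.ccx] at this
    omega
  · have h9 := Nat.le_of_dvd (by norm_num) k.not_dvd.2.2.1
    have h10 := k.not_dvd.2.2.2.2
    simp only [(by norm_num : Nat.Prime 23).dvd_mul]
    omega
  · obtain ⟨g, -, hg⟩ := (h7 _ h9).2 h10 z rfl h11
    exact ⟨g, w, hw, hg⟩

/-- the action of an element of order `5` on the centraliser of an element of order `11` -/
theorem act5 (hN : Nat.card G ∣ 244823040) {f Y g Z : ℕ} {y u : G} (h : LD 11 f Y y)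
    (k : LD 5 g Z u) (hf : 5 ∣ f) {z w : G} (hz : (orderOf z).Prime) (h11 : orderOf z ≠ 11)
    (hw : orderOf w = 11) (hc : Commute z w) (h5 : ¬ 5 ∣ cc z) : orderOf z = 2 ∧ 16 ∣ Y := by
  replace h := h.of_ord hw
  obtain ⟨v, hv, -, Z', -, -, -, h4⟩ := h.act k hf
  have h7 := Nat.ordProj_dvd Y (orderOf z)
  obtain ⟨b, b1, -, b3, b4⟩ := h4 _ _ hz h7 (Nat.pow_succ_factorization_not_dvd
    h.not_dvd.2.2.2.1.ne' hz)
  by_cases h8 : b = Y.factorization (orderOf z)
  · obtain ⟨a, -, ha⟩ := b4 h8 h11 z rfl hc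
    have := orderOf_dvd_cc ha.symm.eq
    rw [hv, cc_cj] at this
    exact absurd this h5
  · obtain ⟨h9, h10⟩ := ((pw24 hz (h7.trans ((((dvd_mul_left Y 11).mul_right f).trans
      h.dvd_card).trans hN)) (lt_of_le_of_ne b1 h8)).2 b3).resolve_left h11
    exact ⟨h9, h10.trans h7⟩

end Cfsg.Agent.MK
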