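import Cfsg.Agent.MK.T1D

/-! Kernel checks for simple groups of order dividing `244823040`. -/

set_option autoImplicit false
set_option maxRecDepth 100000

namespace Cfsg.Agent.MK

open Cfsg.Agent.Small

theorem chk1_0 : (dv24.filter (· / 2500000 == 0)).all (fun N => fN N chk) = true := by
  decide +kernel

theorem chk1_1 : (dv24.filter (· / 2500000 == 1)).all (fun N => fN N chk) = true := by
  decide +kernel

theorem chk1_2 : (dv24.filter (· / 2500000 == 2)).all (fun N => fN N chk) = true := by
  decide +kernel

theorem chk1_3 : (dv24.filter (· / 2500000 == 3)).all (fun N => fN N chk) = true := by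
  decide +kernel

theorem chk1_4 : (dv24.filter (· / 2500000 == 4)).all (fun N => fN N chk) = true := by
  decide +kernel

theorem chk1_5 : (dv24.filter (· / 2500000 == 5)).all (fun N => fN N chk) = true := by
  decide +kernel

theorem chk1_6 : (dv24.filter (· / 2500000 == 6)).all (fun N => fN N chk) = true := by
  decide +kernel

theorem chk1_7 : (dv24.filter (· / 2500000 == 7)).all (fun N => fN N chk) = true := by
  decide +kernel

theorem chk1 (i : ℕ) (h : i < 8) :
    (dv24.filter (· / 2500000 == i)).all (fun N => fN N chk) = true := by
  interval_cases i
  exacts [chk1_0, chk1_1, chk1_2, chk1_3, chk1_4, chk1_5, chk1_6, chk1_7]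

theorem chk2 : [20401920, 22256640].all (fun N => fN N chk) = true := by decide +kernel

theorem chk2' : [24482304, 27202560, 30602880, 34974720].all (fun N => fN N chk) = true := by
  decide +kernel

end Cfsg.Agent.MK
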