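import Cfsg.Agent.MK.T1D

/-! Kernel checks for simple groups of order dividing `244823040`. -/

set_option autoImplicit false
set_option maxRecDepth 100000

namespace Cfsg.Agent.MK

open Cfsg.Agent.Small

theorem chk3 : [40803840, 48964608, 61205760].all (fun N => fN N chk) = true := by decide +kernel

theorem chk4 : [81607680, 122411520].all (fun N => fN N chk) = true := by decide +kernel

theorem chk5 : [244823040].all (fun N => fN N chk) = true := by decide +kernel

end Cfsg.Agent.MK
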