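import Cfsg.Agent.MK.T1D

/-! Kernel checks for simple groups of order dividing `244823040`. -/

set_option autoImplicit false
set_option maxRecDepth 100000

namespace Cfsg.Agent.MK

open Cfsg.Agent.Small

theorem kz2 : kz 81607680 11 10 48 (fun _ => true) [48576] = true := by decide +kernel

end Cfsg.Agent.MK
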