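import Cfsg.Agent.MK.T1A
import Cfsg.Agent.MK.T1B
import Cfsg.Agent.MK.T1E
import Cfsg.Agent.MK.T1F
import Cfsg.Agent.MK.T1G
import Cfsg.Agent.MK.T1H
import Cfsg.Agent.MK.T2
import Cfsg.Agent.BT.Main
import Cfsg.Agent.Small.NonS

/-!
# Simple groups of order dividing `244823040` and divisible by `23`
-/

set_option autoImplicit false

namespace Cfsg.Agent.MK

open Subgroup Cfsg.Agent.Char Cfsg.Agent.Zass Cfsg.Agent.Local Cfsg.Agent.M11 Cfsg.Agent.Small

universe u

theorem chk_all {N : ℕ} (h : N ∣ 244823040) : chk N = true := by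
  have h1 := mem_dv24 h
  rw [← fN_eq N chk]
  by_cases h2 : N < 20000000
  · have h3 : N / 2500000 < 8 := by omega
    exact List.all_eq_true.1 (chk1 _ h3) _ (List.mem_filter.2 ⟨h1, by simp⟩)
  have h3 : ∀ N ∈ dv24, ¬ N < 20000000 → N ∈ [20401920, 22256640] ∨
      N ∈ [24482304, 27202560, 30602880, 34974720] ∨
      N ∈ [40803840, 48964608, 61205760] ∨ N ∈ [81607680, 122411520] ∨ N ∈ [244823040] := by
    decide +kernel
  rcases h3 N h1 h2 with h | h | h | h | h
  exacts [List.all_eq_true.1 chk2 _ h, List.all_eq_true.1 chk2' _ h, List.all_eq_true.1 chk3 _ h,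
    List.all_eq_true.1 chk4 _ h, List.all_eq_true.1 chk5 _ h]

variable {G : Type u} [Group G] [Finite G] [IsSimpleGroup G] (hna : ¬ IsMulCommutative G)
  (hN : Nat.card G ∣ 244823040)
include hna hN

theorem KB.not_kz {p e X : ℕ} {x : G} {T : Finset (IrrCharacter G)} {a : IrrCharacter G → ℤ}
    (h : KB p e X x T a) {W : ℕ → Bool} (hW : ∀ χ ∈ T, W (deg χ.1) = true) {s : G}
    (hs : orderOf s = 2) {L : List ℕ} (hL : cc s ∈ L) (hk : kz (Nat.card G) p e X W L = true) :
    False := by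
  rw [kz, fC_eq, h.k1f hna hN hW fun l hl => h.k2 hs hL hl] at hk
  cases hk

theorem cent24 (ih : ∀ (S : Type u) [Group S] [Finite S] [IsSimpleGroup S], ¬ IsMulCommutative S →
      Nat.card S ∣ 244823040 → 23 ∣ Nat.card S → Nat.card S < Nat.card G →
      Nat.card S = 6072 ∨ Nat.card S = 10200960 ∨ Nat.card S = 244823040)
    {e X : ℕ} {x z : G} (h : LD 23 e X x) (hz : (orderOf z).Prime) (h23 : orderOf z ≠ 23)
    (hc : Commute z x) : ∃ m, (m = 1 ∨ m = 24) ∧
      cc z = m * Nat.card ↥(normalizer (zpowers x : Set G) ⊓ centralizer {z}) := by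
  have := Fact.mk h.pr
  obtain ⟨h1, h2⟩ := h.cent hc
  refine ⟨_, ?_, h1⟩
  rcases syl23_cent hN hz h23 with h3 | ⟨S, _, _, s1, s2, s3, s4, s5⟩
  · exact .inl h3
  have h4 : z ∉ center G := fun e =>
    ne_one_of_orderOf_eq_prime hz rfl (eq_one_of_center hna e)
  have h5 : centralizer ({z} : Set G) ≠ ⊤ := fun e => h4 (mem_center_iff.2 fun g =>
    mem_centralizer_singleton_iff.1 (e ▸ mem_top g))
  have h6 := U45.le_idx hna h.pr ((dvd_mul_of_dvd_left (dvd_mul_right 23 X) e).trans h.dvd_card) h5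
  have h7 : cc z * _ = _ := (centralizer ({z} : Set G)).card_mul_index
  have h8 := Nat.le_of_dvd (cc_pos z) s4
  have h9 := Nat.mul_le_mul_right (Nat.card S) hz.two_le
  have h10 := Nat.mul_le_mul_left (cc z) h6
  have h11 := Nat.le_of_dvd (by norm_num) hN
  have h12 : 0 < Nat.card S := Nat.card_pos
  have h13 := ih S s2 ((((dvd_mul_left _ _).trans s4).trans (cc_dvd z)).trans hN) s3 (by omega)
  obtain ⟨P⟩ : Nonempty (Sylow 23 S) := inferInstance
  have h14 := P.card_dvd_index.trans (P : Subgroup S).index_dvd_card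
  rw [show Nat.card S = 6072 by omega, s5] at h14
  have h15 : ∀ m ∈ Nat.divisors 6072, m % 23 = 1 → m = 1 ∨ m = 24 := by decide +kernel
  exact h15 _ (Nat.mem_divisors.2 ⟨h14, by norm_num⟩) h2

theorem not_row (ih : ∀ (S : Type u) [Group S] [Finite S] [IsSimpleGroup S], ¬ IsMulCommutative S →
      Nat.card S ∣ 244823040 → 23 ∣ Nat.card S → Nat.card S < Nat.card G →
      Nat.card S = 6072 ∨ Nat.card S = 10200960 ∨ Nat.card S = 244823040)
    {e X f Y : ℕ} {x y : G} {U : Finset (IrrCharacter G)} {b : IrrCharacter G → ℤ}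
    (h : LD 23 e X x) (k : KB 11 f Y y U b) (he : e = 11 ∨ e = 22) (hX : ¬ 1024 ∣ X)
    (hr : row (Nat.card G) e X f Y = true) : False := by
  have p11 : Nat.Prime 11 := by norm_num
  have s11 : ¬ 11 * 11 ∣ Nat.card G := fun e => absurd (e.trans hN) (by norm_num)
  have s7 : ¬ 7 * 7 ∣ Nat.card G := fun e => absurd (e.trans hN) (by norm_num)
  have s5 : ¬ 5 * 5 ∣ Nat.card G := fun e => absurd (e.trans hN) (by norm_num)
  have kL : LD 11 f Y y := ⟨p11, s11, k.ord, k.ccx, k.nrm⟩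
  have h23 := (dvd_mul_of_dvd_left (dvd_mul_right 23 X) e).trans h.dvd_card
  obtain ⟨a1, a2, a3, a4⟩ := act11 hN h kL (by omega) hX
  have a5 : ¬ 11 ∣ X := fun e => a1 ((h.compat kL (by norm_num)).1.1 e)
  simp only [row, Bool.cond_eq_ite, Bool.or_eq_true, Bool.and_eq_true, beq_iff_eq, bne_iff_ne,
    Nat.blt_eq] at hr
  rcases hr with hr | hr | hr | ⟨h1, h2, h3⟩ | hr
  · omega
  · exact hr (Nat.mod_eq_zero_of_dvd a2)
  · omega
  · have h4 : 5 ∣ f := by omega
    obtain ⟨u, g, Z, V, c, l⟩ := exists_KB' hna Nat.prime_five (by norm_num) (by norm_num) s5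
      ((h4.mul_left _).trans kL.dvd_card)
    have h5 : ¬ 5 ∣ X := fun e => s5 ((mul_dvd_mul ((e.mul_left _).trans a2) h4).trans kL.dvd_card)
    have h6 : ∀ r : ℕ, r.Prime → r ∣ X → r = 2 ∧ 16 ∣ Y := fun r hr hrX => by
      obtain ⟨z, hz, hc⟩ := exists_of_prime_dvd_cc hr (g := x) (h.ccx ▸ hrX.mul_left 23)
      subst hz
      have h6 : orderOf z ≠ 23 := fun e => h.not_dvd.1 (e ▸ hrX)
      obtain ⟨g, w, hw, hg⟩ := a4 z hr h6 hc
      obtain ⟨m, hm, h7⟩ := cent24 hna hN ih h hr h6 hc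
      have h8 := card_dvd_of_le (inf_le_left : normalizer (zpowers x : Set G) ⊓ centralizer {z} ≤ _)
      rw [h.nrm] at h8
      rw [← M11.orderOf_conj' g z] at hr hrX ⊢
      refine act5 hN kL ⟨Nat.prime_five, s5, l.ord, l.ccx, l.nrm⟩ h4 hr (fun e => a5 (e ▸ hrX)) hw hg ?_
      rw [cc_cj, h7, Nat.prime_five.dvd_mul]
      rintro (e | e)
      · omega
      · have := e.trans h8
        simp only [Nat.prime_five.dvd_mul] at this
        omega
    rcases h3 with h3 | h3 | h3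
    · have := h6 3 Nat.prime_three (by omega); omega
    · have := h6 7 Nat.prime_seven (by omega); omega
    · obtain ⟨r, h7, h8⟩ := Nat.exists_prime_and_dvd h2
      have := h6 r h7 h8; omega
  split_ifs at hr with c1 c2 c3 c4
  · have h4 : 7 ∣ Y := by omega
    obtain ⟨u, g, Z, V, c, l⟩ := exists_KB' hna Nat.prime_seven (by norm_num) (by norm_num) s7
      (((h4.mul_left _).mul_right _).trans kL.dvd_card)
    have h5 := l.of_killAll hna hN Nat.prime_seven (by norm_num) s7 h.pr h23 (fun _ _ => rfl)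
      (fun _ _ => rfl) (fun _ _ => rfl) hr
    obtain ⟨h6, h7⟩ := kL.compat ⟨Nat.prime_seven, s7, l.ord, l.ccx, l.nrm⟩ (by norm_num)
    obtain ⟨m, m1, m2, m3, m4, m5, m6⟩ := h7 h4
    have h8 : cm7 f Y g Z = true := by
      simp only [cm7, List.any_eq_true, Bool.and_eq_true, beq_iff_eq]
      exact ⟨m, mem_dvN (kL.dvd_card.trans hN) m3, Nat.mod_eq_zero_of_dvd m1,
        Nat.mod_eq_zero_of_dvd m2, Nat.mod_eq_zero_of_dvd m4, m5, m6⟩
    simp [h8, Nat.mod_eq_zero_of_dvd (h6.1 h4)] at h5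
  · obtain ⟨z, hz, hc, n, j, n1, n2, -, n3⟩ := h.inv_odd (by norm_num) (by omega)
    obtain ⟨g, w, hw, hg⟩ := a4 z (hz ▸ Nat.prime_two) (by omega) hc
    obtain ⟨m, hm, h7⟩ := cent24 hna hN ih h (hz ▸ Nat.prime_two) (by omega) hc
    have h8 := orderOf_dvd_cc hg.symm.eq
    have h9 := orderOf_dvd_cc hc.symm.eq
    rw [hw, cc_cj] at h8
    rw [h.ord] at h9
    have h0 : 0 < n := n3 ▸ Nat.card_pos
    have h10 : cc z ∈ zc (Nat.card G) (23 * X * e) := by
      simp only [zc, List.mem_filter, List.any_eq_true, Bool.and_eq_true, beq_iff_eq]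
      refine ⟨mem_call hna hN h.pr h23 hz, by omega, m, by simpa using hm, ?_⟩
      rw [h7, n3, Nat.mul_div_cancel_left _ (by omega), ← n1, Nat.mul_div_cancel_left _ h0]
      exact ⟨Nat.mul_mod_right _ _, Nat.mul_mod_right _ _, n2⟩
    simp only [Bool.or_eq_true, Bool.and_eq_true, beq_iff_eq] at hr
    rcases hr with ⟨e1, rfl, rfl, e2⟩ | hr
    · rw [e1, e2, show zc 81607680 2024 = [2024, 48576] by decide +kernel] at h10
      rcases List.mem_cons.1 h10 with h10 | h10
      · exact k.not_kz hna hN (fun _ _ => rfl) hz (List.mem_singleton.2 h10) (e1 ▸ kz1)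
      · exact k.not_kz hna hN (fun _ _ => rfl) hz h10 (e1 ▸ kz2)
    · exact k.not_kz hna hN (fun _ _ => rfl) hz h10 hr
  · exact k.not_kill hna hN p11 (by norm_num) s11 h.pr h23 (fun _ _ => rfl) (fun _ _ => rfl)
      (fun _ _ => rfl) hr
  · obtain ⟨z, hz, hc, n, j, n1, n2, n4, n3⟩ := kL.inv_odd (by norm_num) (by omega)
    have := Fact.mk p11
    obtain ⟨h7, h8⟩ := kL.cent hc
    have h9 := orderOf_dvd_cc hc.symm.eq
    have h0 : 0 < n := n3 ▸ Nat.card_pos
    refine k.not_kz hna hN (fun χ _ => ?_) hz ?_ hr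
    · simp only [Bool.or_eq_true, bne_iff_ne, w1, Nat.ble_eq, or_iff_not_imp_left, not_ne_iff]
      rintro rfl rfl
      obtain ⟨w, w1, w2⟩ := BT.brauer h χ.2
      simp only [Nat.cast_ofNat] at w1 w2
      clear * - w1 w2
      obtain rfl | rfl | rfl : w = -1 ∨ w = 0 ∨ w = 1 := by omega
      all_goals omega
    simp only [zo, List.mem_filter, List.any_eq_true, Bool.and_eq_true, beq_iff_eq, bne_iff_ne,
      List.mem_range]
    refine ⟨mem_call hna hN h.pr h23 hz, fun e => ?_, Nat.mod_eq_zero_of_dvd (k.ord ▸ h9), j, n4, n2, ?_⟩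
    · obtain ⟨v, hv, hc⟩ := exists_of_prime_dvd_cc h.pr (Nat.dvd_of_mod_eq_zero e)
      have := orderOf_dvd_cc hc.symm
      rw [hz, (h.of_ord hv).ccx] at this
      omega
    · rw [← n1, Nat.mul_div_cancel _ (by omega), h7, n3, Nat.mul_div_cancel _ h0]
      exact ⟨Nat.mul_mod_left _ _, Nat.mul_mod_left _ _, h8⟩
  · rw [k.k1f hna hN (fun _ _ => rfl) fun _ _ => rfl] at hr
    cases hr

theorem t1_step (h23 : 23 ∣ Nat.card G)
    (ih : ∀ (S : Type u) [Group S] [Finite S] [IsSimpleGroup S], ¬ IsMulCommutative S →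
      Nat.card S ∣ 244823040 → 23 ∣ Nat.card S → Nat.card S < Nat.card G →
      Nat.card S = 6072 ∨ Nat.card S = 10200960 ∨ Nat.card S = 244823040) :
    (∃ x : G, LD 23 11 1 x) ∧
      (Nat.card G = 6072 ∨ Nat.card G = 10200960 ∨ Nat.card G = 244823040) := by
  have p11 : Nat.Prime 11 := by norm_num
  have p23 : Nat.Prime 23 := by norm_num
  have s11 : ¬ 11 * 11 ∣ Nat.card G := fun e => absurd (e.trans hN) (by norm_num)
  have s23 : ¬ 23 * 23 ∣ Nat.card G := fun e => absurd (e.trans hN) (by norm_num)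
  obtain ⟨x, e, X, T, a, h⟩ := exists_KB' hna p23 (by norm_num) (by norm_num) s23 h23
  have hL : LD 23 e X x := ⟨p23, s23, h.ord, h.ccx, h.nrm⟩
  have he : e = 11 ∨ e = 22 := by
    have h1 : e ≠ 2 := by rintro rfl; exact t1a hna hN h
    have h2 : ∀ e ∈ Nat.divisors 22, e ≠ 1 → e ≠ 2 → e = 11 ∨ e = 22 := by decide
    exact h2 e (Nat.mem_divisors.2 ⟨h.dvd, by norm_num⟩) h.ne h1
  have h11 : 11 ∣ Nat.card G := ((by omega : 11 ∣ e).mul_left _).trans hL.dvd_card
  obtain ⟨y, f, Y, U, b, k⟩ := exists_KB' hna p11 (by norm_num) (by norm_num) s11 h11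
  have h4 := four_dvd hna
  have hc := chk_all hN
  simp only [chk, Bool.or_eq_true, bne_iff_ne, List.all_eq_true, fN_eq, Bool.and_eq_true,
    beq_iff_eq] at hc
  rcases hc.resolve_left (by omega) _ (h.mem_cands hna hN p23 p23 h23) with
    hc | ⟨rfl, rfl, hc⟩ | ⟨h1, h2⟩ | ⟨h1, hc⟩
  · omega
  · exact ⟨⟨x, hL⟩, by simpa using hc⟩
  · have := Fact.mk p23
    obtain ⟨P, hP, hn⟩ := hL.syl
    have h3 : pPrimeCore 23 G = ⊥ := (IsSimpleGroup.eq_bot_or_eq_top_of_normal _ inferInstance).resolve_right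
      fun e => by
        have := coprime_card_pPrimeCore (G := G) 23
        rw [e, card_top] at this
        exact (p23.coprime_iff_not_dvd.1 this.symm) h23
    have h5 := cc_of_sylow s23 h3 (Nat.eq_of_mul_eq_mul_right (hL.nrm ▸ Nat.card_pos) (hn.trans h1))
      h.ord hP
    rw [h.ccx] at h5
    omega
  · exact (not_row hna hN ih hL k he (by omega) (hc _ (k.mem_cands hna hN p11 p23 h23))).elim

omit hna hN in
theorem t1 (S : Type u) [Group S] [Finite S] [IsSimpleGroup S] (hna : ¬ IsMulCommutative S)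
    (hN : Nat.card S ∣ 244823040) (h23 : 23 ∣ Nat.card S) : (∃ x : S, LD 23 11 1 x) ∧
      (Nat.card S = 6072 ∨ Nat.card S = 10200960 ∨ Nat.card S = 244823040) := by
  induction' hn : Nat.card S using Nat.strong_induction_on with n ih generalizing S
  subst hn
  exact t1_step hna hN h23 fun S' _ _ _ h1 h2 h3 h4 => (ih _ h4 S' h1 h2 h3 rfl).2

end Cfsg.Agent.MK
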