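import Cfsg.Agent.MK.Cand2

/-!
# The case `e = 2` for the prime `23`: two leftover orders
-/

set_option autoImplicit false
set_option maxRecDepth 100000

namespace Cfsg.Agent.MK

def t1D : List (ℕ × ℤ) := [(21, 1), (22, -1)] ++ List.replicate 10 (21, 0)

theorem t1q : killAll 45540 5 23 (fun c => c.2 % 23 == 0) (fun _ => true) (fun _ _ => true)
    (fun _ => true) = true := by decide +kernel

theorem t1r : kill 6120576 23 23 2 1 (fun _ => true) (notIn [t1D]) (fun _ => true) = true := by
  decide +kernel

theorem t1s : killAll 6120576 11 23 (fun c => c.2 % 23 == 0)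
    (fun d => d % 23 == 0 || t1D.any fun y => y.1 == d) (fun _ _ => true) (fun _ => true) = true := by
  decide +kernel

end Cfsg.Agent.MK
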