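import Cfsg.Agent.MK.T1AA
import Cfsg.Agent.MK.T1AB
import Cfsg.Agent.MK.T1AC
import Cfsg.Agent.MK.T1AE
import Cfsg.Agent.MK.T2

/-!
# The case `e = 2` for the prime `23` is impossible
-/

set_option autoImplicit false

namespace Cfsg.Agent.MK

open Subgroup Cfsg.Agent.Char Cfsg.Agent.Zass Cfsg.Agent.Local Cfsg.Agent.M11 Cfsg.Agent.Small

theorem t1k_all {N : ℕ} (h : N ∈ dv24) : t1k N = true := by
  have h1 : dv24 = (List.range 11).flatMap fun i => (dv24.drop (64 * i)).take 64 := by decide +kernel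
  rw [h1, List.mem_flatMap] at h
  obtain ⟨i, h2, h3⟩ := h
  have h4 : t1p i = true := by
    rw [List.mem_range] at h2
    interval_cases i
    exacts [t1p_0, t1p_1, t1p_2, t1p_3, t1p_4, t1p_5, t1p_6, t1p_7, t1p_8, t1p_9, t1p_10]
  rw [← fN_eq N t1k]
  exact List.all_eq_true.1 h4 N h3

theorem t1a {G : Type*} [Group G] [Finite G] [IsSimpleGroup G] (hna : ¬ IsMulCommutative G)
    (hN : Nat.card G ∣ 244823040) {X : ℕ} {x : G} {T : Finset (IrrCharacter G)}
    {a : IrrCharacter G → ℤ} (h : KB 23 2 X x T a) : False := by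
  have p23 : Nat.Prime 23 := by norm_num
  have p11 : Nat.Prime 11 := by norm_num
  have s23 : ¬ 23 * 23 ∣ Nat.card G := fun e => absurd (e.trans hN) (by norm_num)
  have s11 : ¬ 11 * 11 ∣ Nat.card G := fun e => absurd (e.trans hN) (by norm_num)
  have h23 : 23 ∣ Nat.card G := h.ord ▸ orderOf_dvd_natCard x
  have h4 := four_dvd hna
  have h1 := t1k_all (mem_dv24 hN)
  rw [t1k, Bool.or_eq_true] at h1
  rcases h1 with h1 | h1
  · rw [bne_iff_ne] at h1; omega
  have h2 := h.of_killAll hna hN p23 (by norm_num) s23 p23 h23 (fun _ _ => rfl) (fun _ _ => rfl)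
    (fun _ _ => rfl) h1
  simp only [bne_self_eq_false, Bool.false_or, Bool.and_eq_true, Bool.or_eq_true, beq_iff_eq] at h2
  obtain ⟨rfl, h2 | h2⟩ := h2
  · have p5 : Nat.Prime 5 := by norm_num
    have s5 : ¬ 5 * 5 ∣ Nat.card G := by rw [h2]; norm_num
    obtain ⟨y, _, _, _, _, k⟩ := exists_KB' hna p5 (by norm_num) (by norm_num) s5 (by rw [h2]; norm_num)
    have h3 := k.of_killAll hna hN p5 (by norm_num) s5 p23 h23 (fun _ _ => rfl) (fun _ _ => rfl)
      (fun _ _ => rfl) (h2 ▸ t1q)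
    exact h.not_dvd p23 s23 p5 (by norm_num) k.ord (by norm_num)
      (k.ccx ▸ (Nat.dvd_of_mod_eq_zero (by simpa using h3)).mul_left 5)
  · obtain ⟨D, h5, h6⟩ := exists_of_notIn (L := [t1D]) (M := rws T a) fun hF =>
      h.not_kill hna hN p23 (by norm_num) s23 p23 h23 (fun _ _ => rfl) hF (fun _ _ => rfl) (h2 ▸ t1r)
    cases List.mem_singleton.1 h5
    obtain ⟨y, _, _, _, _, k⟩ := exists_KB' hna p11 (by norm_num) (by norm_num) s11 (by rw [h2]; norm_num)
    have h3 := k.of_killAll hna hN p11 (by norm_num) s11 p23 h23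
      (fun χ hχ => h.degs h6 χ (k.ne1 χ hχ)) (fun _ _ => rfl) (fun _ _ => rfl) (h2 ▸ t1s)
    exact h.not_dvd p23 s23 p11 (by norm_num) k.ord (by norm_num)
      (k.ccx ▸ (Nat.dvd_of_mod_eq_zero (by simpa using h3)).mul_left 11)

end Cfsg.Agent.MK
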