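import Cfsg.Agent.MK.T1AD

/-!
# The case `e = 2` for the prime `23`: kernel searches
-/

set_option autoImplicit false
set_option maxRecDepth 100000

namespace Cfsg.Agent.MK

theorem t1p_0 : t1p 0 = true := by decide +kernel

theorem t1p_1 : t1p 1 = true := by decide +kernel

theorem t1p_2 : t1p 2 = true := by decide +kernel

theorem t1p_3 : t1p 3 = true := by decide +kernel

theorem t1p_4 : t1p 4 = true := by decide +kernel

theorem t1p_5 : t1p 5 = true := by decide +kernel

end Cfsg.Agent.MK
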