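import Cfsg.Agent.MK.Go2

/-!
# The case `e = 2` for the prime `23`: the test
-/

set_option autoImplicit false

namespace Cfsg.Agent.MK

open Cfsg.Agent.Small

def t1k (N : ℕ) : Bool := N % 92 != 0 ||
  killAll N 23 23 (fun c => c.1 != 2 || (c.2 == 1 && (N == 45540 || N == 6120576))) (fun _ => true)
    (fun _ _ => true) fun _ => true

def t1p (i : ℕ) : Bool := ((dv24.drop (64 * i)).take 64).all fun N => fN N t1k

end Cfsg.Agent.MK
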