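import Cfsg.Agent.MK.Go2

/-!
# The checks for simple groups of order dividing `244823040` and divisible by `253`
-/

set_option autoImplicit false

namespace Cfsg.Agent.MK

open Cfsg.Agent.Small

def kz (N p e X : ℕ) (W : ℕ → Bool) (C : List ℕ) : Bool :=
  fC (bools e C) fun C => !K1f N p e X W fun l => K2 N p e X C l

/-- centraliser orders of an involution commuting with an element of order `23` -/
def zc (N A : ℕ) : List ℕ := (call N 23).filter fun c => c % 253 == 0 &&
  [1, 24].any fun m => c % m == 0 && (A % (c / m) == 0 && A / (c / m) % 2 == 1)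

/-- centraliser orders of an involution commuting with an element of order `11` -/
def zo (N f Y : ℕ) : List ℕ := (call N 23).filter fun c => c % 23 != 0 && (c % 11 == 0 &&
  (List.range Y).any fun k => k % 2 == 1 && (11 * Y * f % k == 0 &&
    (c % (11 * Y * f / k) == 0 && c / (11 * Y * f / k) % 11 == 1)))

def w1 (d : ℕ) : Bool := Nat.ble ((d + 1) % 23) 2

def cm7 (f Y g Z : ℕ) : Bool := (dvN (11 * Y * f)).any fun m => m % (11 * 7 * g) == 0 &&
  (m % (11 * 7 * f) == 0 && (7 * Z * g % m == 0 && (7 * Z * g / m % 11 == 1 && 11 * Y * f / m % 7 == 1)))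

def part7 (N f Y : ℕ) : Bool :=
  killAll N 7 23 (fun c => c.2 % 11 != 0 || !cm7 f Y c.1 c.2) (fun _ => true) (fun _ _ => true)
    fun _ => true

def row (N e X f Y : ℕ) : Bool :=
  Y % 23 == 0 || (11 * Y % (e * X) != 0 ||
    (Nat.blt (N / (23 * X * e)) (23 * (11 * Y * f / (X * e) - 1) + 1) ||
    ((f % 5 == 0 && (X != 1 && (X % 3 == 0 || (X % 7 == 0 || Y % 16 != 0)))) ||
  bif Y % 7 == 0 && (f != 2 || N == 22770 * Y) then part7 N f Y else
  bif X % 2 == 0 then (N == 81607680 && (f == 10 && (Y == 48 && 23 * X * e == 2024))) ||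
    kz N 11 f Y (fun _ => true) (zc N (23 * X * e)) else
  bif f == 2 then kill N 11 23 f Y (fun _ => true) (fun _ => true) fun _ => true else
  bif Y % 2 == 0 then kz N 11 f Y (fun d => e != 22 || (X != 1 || w1 d)) (zo N f Y) else
  !K1f N 11 f Y (fun _ => true) fun _ => true)))

def chk (N : ℕ) : Bool :=
  N % 1012 != 0 || (cands N 23 23).all fun c => fN c.1 fun e => fN c.2 fun X =>
    e == 2 || ((e == 11 && (X == 1 && [6072, 10200960, 244823040].contains N)) ||
    ((N == 24 * (23 * X * e) && X != 1) || (X % 1024 != 0 &&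
      (cands N 11 23).all fun d => fN d.1 fun f => fN d.2 fun Y => row N e X f Y)))

end Cfsg.Agent.MK
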