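import Cfsg.Agent.MK.Loc1
import Cfsg.Agent.Small.B0b
import Cfsg.Agent.Zass.Even

/-!
# Character values at rational and semirational elements of prime order
-/

set_option autoImplicit false
set_option linter.unusedSectionVars false

namespace Cfsg.Agent.MK

open Finset Subgroup Cfsg.Agent.Char Cfsg.Agent.Zass Cfsg.Agent.Local Cfsg.Agent.M11 Cfsg.Agent.Small
open scoped ComplexConjugate

variable {G : Type*} [Group G] [Finite G] {p e X : ℕ} {x : G}

theorem LD.ee [Fact p.Prime] [Fintype G] (h : LD p e X x) (h2 : p ≠ 2) : (EE p x).card = e := by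
  have hp : PP p x := ⟨h2, h.ord, h.sq⟩
  have := hp.card_norm
  rw [h.nrm, h.ccx] at this
  exact Nat.eq_of_mul_eq_mul_left (Nat.mul_pos h.pr.pos h.not_dvd.2.2.2.1) this

/-- a rational element of prime order -/
theorem LD.rval (h : LD p e X x) (h2 : p ≠ 2) (he : e + 1 = p) :
    ∃ u : IrrCharacter G → ℤ, (∀ χ, χ.1 x = u χ) ∧ (∀ χ, (p : ℤ) ∣ u χ - deg χ.1) ∧
      (∀ χ, 0 ≤ (deg χ.1 : ℤ) + e * u χ) ∧ ∑ χ, u χ ^ 2 = p * X := by
  classical
  have := Fintype.ofFinite G
  have := Fact.mk h.pr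
  have hp : PP p x := ⟨h2, h.ord, h.sq⟩
  have hE : EE p x = univ.erase 0 := eq_of_subset_of_card_le (fun i hi =>
    mem_erase.2 ⟨fun e => hp.E0 (e ▸ hi), mem_univ _⟩) (by
      rw [card_erase_of_mem (mem_univ _), card_univ, ZMod.card, h.ee h2]; omega)
  have he0 := h.not_dvd.2.2.2.2
  have key : ∀ χ : IrrCharacter G, ∃ u : ℤ, χ.1 x = u ∧ (p : ℤ) ∣ u - deg χ.1 ∧
      0 ≤ (deg χ.1 : ℤ) + e * u := fun χ => by
    obtain ⟨m, hm⟩ := char_param_mult (irr_isCharacter χ.2) (fun i : ZMod p => x ^ i.val) hp.add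
      (fun _ => 1) (fun _ _ => by simp)
    simp only [one_mul, ZMod.card] at hm
    rw [← add_sum_erase _ _ (mem_univ 0), ← hE, sum_congr rfl fun i hi =>
      (classFun_of_isConj (irr_isClassFunction χ.2) (mem_EE.1 hi)).symm, sum_const, h.ee h2,
      ZMod.val_zero, pow_zero, irr_deg χ.2, nsmul_eq_mul] at hm
    obtain ⟨u, hu⟩ := int_of_isIntegral_of_mul (char_isIntegral (irr_isCharacter χ.2) x)
      (a := p * m - deg χ.1) (b := e) (by exact_mod_cast he0.ne') (by push_cast; linear_combination hm)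
    rw [hu] at hm
    have h3 : (deg χ.1 : ℤ) + e * u = p * m := by exact_mod_cast hm
    have h4 : (p : ℤ) = e + 1 := by exact_mod_cast he.symm
    exact ⟨u, hu, ⟨u - m, by linear_combination -h3 - u * h4⟩, by rw [h3]; positivity⟩
  choose u h3 h4 h5 using key
  refine ⟨u, h3, h4, h5, ?_⟩
  have h6 := sum_irr_mul_conj x x
  rw [if_pos (IsConj.refl x), ← cc, h.ccx] at h6
  simp only [h3, map_intCast, ← pow_two] at h6
  exact_mod_cast h6

/-- a non-real element of prime order whose powers fall into two classes -/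
theorem LD.uval (h : LD p e X x) (he : 2 * e + 1 = p) (ho : e % 2 = 1) :
    ∃ u : IrrCharacter G → ℤ, (∀ χ, χ.1 x + χ.1 x⁻¹ = u χ) ∧ (∀ χ, (p : ℤ) ∣ u χ - 2 * deg χ.1) ∧
      (∀ χ, 0 ≤ (deg χ.1 : ℤ) + e * u χ) ∧ ∑ χ, u χ ^ 2 = 2 * (p * X) := by
  classical
  have := Fintype.ofFinite G
  have := Fact.mk h.pr
  have h2 : p ≠ 2 := by omega
  have hp : PP p x := ⟨h2, h.ord, h.sq⟩
  have hc := h.ee h2
  have hne : ∀ i ∈ EE p x, i ≠ 0 := fun i hi e => hp.E0 (e ▸ hi)
  have hm1 : (-1 : ZMod p) ∉ EE p x := fun hm => by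
    have h3 : ∑ _i ∈ EE p x, (1 : ZMod 2) = 0 := by
      refine sum_involution (fun i _ => -i) (fun _ _ => rfl) (fun i hi _ e => ?_)
        (fun i hi => by simpa using hp.Emul _ hm _ hi) fun i _ => neg_neg i
      have h4 : (2 : ZMod p) * i = 0 := by linear_combination -e
      rcases mul_eq_zero.1 h4 with h5 | h5
      · exact h2 ((Nat.prime_dvd_prime_iff_eq h.pr Nat.prime_two).1
          ((ZMod.natCast_eq_zero_iff 2 p).1 (by exact_mod_cast h5)))
      · exact hne i hi h5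
    rw [sum_const, hc, nsmul_eq_mul, mul_one, ZMod.natCast_eq_zero_iff] at h3
    omega
  have hd : Disjoint (EE p x) ((EE p x).image fun i => -i) := by
    rw [disjoint_left]
    intro i hi hj
    obtain ⟨j, hk, rfl⟩ := mem_image.1 hj
    have := hp.Emul _ hi _ (hp.Einv _ hk)
    rw [neg_mul, mul_inv_cancel₀ (hne j hk)] at this
    exact hm1 this
  have hE : EE p x ∪ (EE p x).image (fun i => -i) = univ.erase 0 := eq_of_subset_of_card_le
    (fun i hi => mem_erase.2 ⟨by
      rcases mem_union.1 hi with hi | hi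
      · exact hne i hi
      · obtain ⟨j, hj, rfl⟩ := mem_image.1 hi
        exact neg_ne_zero.2 (hne j hj), mem_univ _⟩) (by
      rw [card_erase_of_mem (mem_univ _), card_univ, ZMod.card, card_union_of_disjoint hd,
        card_image_of_injective _ neg_injective, hc]; omega)
  have he0 := h.not_dvd.2.2.2.2
  have key : ∀ χ : IrrCharacter G, ∃ u : ℤ, χ.1 x + χ.1 x⁻¹ = u ∧ (p : ℤ) ∣ u - 2 * deg χ.1 ∧
      0 ≤ (deg χ.1 : ℤ) + e * u := fun χ => by
    have hχ := irr_isCharacter χ.2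
    obtain ⟨m, hm⟩ := char_param_mult hχ (fun i : ZMod p => x ^ i.val) hp.add
      (fun _ => 1) (fun _ _ => by simp)
    simp only [one_mul, ZMod.card] at hm
    have h3 : ∀ i ∈ EE p x, χ.1 (x ^ i.val) = χ.1 x := fun i hi =>
      (classFun_of_isConj (irr_isClassFunction χ.2) (mem_EE.1 hi)).symm
    have h4 : ∀ i ∈ EE p x, χ.1 (x ^ (-i).val) = χ.1 x⁻¹ := fun i hi => by
      rw [hp.neg, char_apply_inv hχ, h3 i hi, char_apply_inv hχ]
    rw [← add_sum_erase _ _ (mem_univ 0), ← hE, sum_union hd,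
      sum_image fun _ _ _ _ e => neg_injective e, sum_congr rfl h3, sum_congr rfl h4, sum_const,
      sum_const, hc, ZMod.val_zero, pow_zero, irr_deg χ.2, nsmul_eq_mul, nsmul_eq_mul] at hm
    obtain ⟨u, hu⟩ := int_of_isIntegral_of_mul ((char_isIntegral hχ x).add (char_isIntegral hχ x⁻¹))
      (a := p * m - deg χ.1) (b := e) (by exact_mod_cast he0.ne') (by push_cast; linear_combination hm)
    rw [← mul_add, hu] at hm
    have h3 : (deg χ.1 : ℤ) + e * u = p * m := by exact_mod_cast hm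
    have h4 : (p : ℤ) = 2 * e + 1 := by exact_mod_cast he.symm
    exact ⟨u, hu, ⟨u - 2 * m, by linear_combination -2 * h3 - u * h4⟩, by rw [h3]; positivity⟩
  choose u h3 h4 h5 using key
  refine ⟨u, h3, h4, h5, ?_⟩
  have hn : ¬ IsConj x x⁻¹ := fun hh => hm1 (mem_EE.2 (by rwa [hp.neg, hp.one']))
  have h6 := sum_irr_mul_conj x x
  have h7 := sum_irr_mul_conj x x⁻¹
  have h8 := sum_irr_mul_conj x⁻¹ x
  rw [if_pos (IsConj.refl x), ← cc, h.ccx] at h6
  rw [if_neg hn] at h7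
  rw [if_neg fun hh => hn hh.symm] at h8
  have h9 : ∀ χ : IrrCharacter G, ((u χ : ℂ)) ^ 2 = 2 * (χ.1 x * conj (χ.1 x)) +
      χ.1 x⁻¹ * conj (χ.1 x) + χ.1 x * conj (χ.1 x⁻¹) := fun χ => by
    rw [← h3, char_apply_inv (irr_isCharacter χ.2), Complex.conj_conj]
    ring
  have h10 : ∑ χ, ((u χ : ℂ)) ^ 2 = 2 * (p * X) := by
    simp only [h9, sum_add_distrib, ← mul_sum]
    rw [h6, h7, h8]
    push_cast
    ring
  exact_mod_cast h10

end Cfsg.Agent.MK
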