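import Cfsg.Agent.MK.T23D
import Cfsg.Agent.MK.Cand2
import Cfsg.Agent.MK.UVal

/-!
# Tools for the degree tables at order `10200960`
-/

set_option autoImplicit false
set_option linter.unusedSectionVars false

namespace Cfsg.Agent.MK.T23

open Finset Subgroup Cfsg.Agent.Char Cfsg.Agent.Zass Cfsg.Agent.Local Cfsg.Agent.M11 Cfsg.Agent.Small

variable {G : Type*} [Group G] [Finite G] {p e X : ℕ} {x : G} {T : Finset (IrrCharacter G)}
  {a : IrrCharacter G → ℤ}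

theorem ld (h : KB p e X x T a) (hp : p.Prime) (hsq : ¬ p * p ∣ Nat.card G) : LD p e X x :=
  ⟨hp, hsq, h.ord, h.ccx, h.nrm⟩

theorem srw {β : Type} [AddCommMonoid β] {D : List (ℕ × ℤ)} (hD : (D : Multiset (ℕ × ℤ)) = rws T a)
    (f : ℕ × ℤ → β) : (D.map f).sum = ∑ χ ∈ T, f (deg χ.1, a χ) := by
  rw [← Multiset.sum_coe, ← Multiset.map_coe, hD, rws, Multiset.map_map]
  rfl

/-- the number of characters of degree `d` in `T` -/
noncomputable def cn (T : Finset (IrrCharacter G)) (d : ℕ) : ℕ := (T.filter fun χ => deg χ.1 = d).card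

theorem cnt_eq {D : List (ℕ × ℤ)} (hD : (D : Multiset (ℕ × ℤ)) = rws T a) (d : ℕ) :
    cnt d D = cn T d := by
  rw [cnt, srw hD, cn, card_filter]

theorem cn_le (h : KB p e 1 x T a) {U : Finset (IrrCharacter G)} (hU : ∀ χ ∈ U, χ.1 ≠ 1) {d : ℕ}
    (hd : ¬ p ∣ d) : cn U d ≤ cn T d := card_le_card fun χ hχ => by
  obtain ⟨h1, h2⟩ := mem_filter.1 hχ
  exact mem_filter.2 ⟨h.mem rfl χ (hU χ h1) (h2 ▸ hd), h2⟩

theorem wdata {k : ℕ} (h : LD p e 1 x) (hp : p = 23 ∧ e = 11 ∧ k = 6 ∨ p = 11 ∧ e = 5 ∧ k = 4) :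
    (∀ χ : IrrCharacter G, χ.1 x + χ.1 x⁻¹ = wt p (deg χ.1)) ∧
    (∀ χ : IrrCharacter G, WW p k (deg χ.1) = true) ∧
    ∑ χ : IrrCharacter G, wt p (deg χ.1) ^ 2 = 2 * p := by
  obtain ⟨u, h1, h2, h3, h4⟩ := h.uval (by omega) (by omega)
  have h5 : ∀ χ, -(k : ℤ) ≤ u χ ∧ u χ ≤ k := fun χ => by
    have := single_le_sum (f := fun χ => u χ ^ 2) (fun _ _ => sq_nonneg _) (mem_univ χ)
    rw [h4] at this
    rcases hp with ⟨rfl, rfl, rfl⟩ | ⟨rfl, rfl, rfl⟩ <;> push_cast at this ⊢ <;>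
      constructor <;> nlinarith
  have h6 : ∀ χ, wt p (deg χ.1) = u χ := fun χ => by
    have e1 := h2 χ
    have e2 := h5 χ
    rw [wt]
    rcases hp with ⟨rfl, rfl, rfl⟩ | ⟨rfl, rfl, rfl⟩ <;> omega
  refine ⟨fun χ => by rw [h6, h1], fun χ => ?_, by simpa only [h6, Nat.cast_one, mul_one] using h4⟩
  have e1 := h3 χ
  have e2 := h5 χ
  rw [WW, fI_eq, h6, Bool.and_eq_true, Nat.ble_eq, decide_eq_true_eq]
  rcases hp with ⟨rfl, rfl, rfl⟩ | ⟨rfl, rfl, rfl⟩ <;> omega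

theorem ff {k : ℕ} (h : LD p e 1 x) (hp : p = 23 ∧ e = 11 ∧ k = 6 ∨ p = 11 ∧ e = 5 ∧ k = 4)
    {q f Y : ℕ} {y : G} (h' : KB q f Y y T a) (hc : p.Coprime q) {l : List (ℕ × ℤ)}
    (hl : (l : Multiset (ℕ × ℤ)) = rws T a) : FF p l = true := by
  classical
  obtain ⟨h1, -, h2⟩ := wdata h hp
  have h3 : wt p 1 = 2 := by rcases hp with ⟨rfl, -⟩ | ⟨rfl, -⟩ <;> rfl
  have ho : (⟨1, irr_one⟩ : IrrCharacter G) ∉ T := fun e => h'.ne1 _ e rfl
  have h4 := h'.reg x (h.ord ▸ hc)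
  have h5 := h'.reg x⁻¹ (by rw [orderOf_inv, h.ord]; exact hc)
  have h6 : ∑ χ : IrrCharacter G, a χ * wt p (deg χ.1) = 0 := by
    have : ∑ χ : IrrCharacter G, (a χ : ℂ) * wt p (deg χ.1) = 0 := by
      simp only [← h1, mul_add, sum_add_distrib, h4, h5, add_zero]
    exact_mod_cast this
  rw [← sum_subset (subset_univ (insert ⟨1, irr_one⟩ T)) fun χ _ hχ => ?_, sum_insert ho, h'.a1,
    deg_one, h3] at h6
  · have h7 := sum_le_sum_of_subset_of_nonneg (f := fun χ : IrrCharacter G => wt p (deg χ.1) ^ 2)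
      (subset_univ (insert ⟨1, irr_one⟩ T)) fun _ _ _ => sq_nonneg _
    rw [sum_insert ho, deg_one, h3, h2] at h7
    rw [FF, srw hl, srw hl, Bool.and_eq_true, beq_iff_eq, decide_eq_true_eq]
    exact ⟨by linarith, by linarith⟩
  · rw [mem_insert, not_or] at hχ
    rw [not_not.1 fun e => hχ.2 (h'.a0 χ (fun e => hχ.1 (Subtype.ext e)) e), zero_mul]

theorem m5_le {z : G} (h : LD 5 4 3 z) : ∑ χ : IrrCharacter G, m5 (deg χ.1) ≤ 15 := by
  obtain ⟨u, -, h2, -, h4⟩ := h.rval (by norm_num) rfl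
  have h5 : ∑ χ : IrrCharacter G, (m5 (deg χ.1) : ℤ) ≤ ∑ χ, u χ ^ 2 := sum_le_sum fun χ _ => by
    have e1 := h2 χ
    rw [m5]
    split_ifs with e2 e3
    · exact sq_nonneg _
    · have : u χ ≤ -1 ∨ 1 ≤ u χ := by omega
      rcases this with e | e <;> push_cast <;> nlinarith
    · have : u χ ≤ -2 ∨ 2 ≤ u χ := by omega
      rcases this with e | e <;> push_cast <;> nlinarith
  rw [h4] at h5
  exact_mod_cast h5

theorem c6 : ∀ c ∈ dvN 10200960, c % 5 ≠ 0 → c % 11 ≠ 0 → c % 23 ≠ 0 → 10200960 / c % 2 ≠ 0 →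
    c ∈ [128, 384, 896, 1152, 2688, 8064] := by decide +kernel

end Cfsg.Agent.MK.T23
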