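import Cfsg.Agent.MK.Prune

/-!
# Filters for the degree tables at order `10200960`
-/

set_option autoImplicit false

namespace Cfsg.Agent.MK.T23

open Cfsg.Agent.Small

/-- balanced residue of `2 d` -/
def wt (p d : ℕ) : ℤ := ((2 * d + p / 2) % p : ℕ) - (p / 2 : ℕ)

def WW (p k d : ℕ) : Bool :=
  fI (wt p d) fun w => Nat.ble w.natAbs k && decide (0 ≤ (d : ℤ) + (p / 2 : ℕ) * w)

def FF (p : ℕ) (l : List (ℕ × ℤ)) : Bool :=
  2 + (l.map fun x => x.2 * wt p x.1).sum == 0 &&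
    decide (4 + (l.map fun x => wt p x.1 ^ 2).sum ≤ 2 * p)

def cnt (d : ℕ) (l : List (ℕ × ℤ)) : ℕ := (l.map fun y => if y.1 = d then 1 else 0).sum

def C4 : List ℕ := [128, 384, 896, 2688]

def ok5 (c : ℕ) (l : List (ℕ × ℤ)) : Bool :=
  (Nat.ble 1 (cnt 896 l) && Nat.ble 1 (cnt 644 l)) || (C4.contains c && (Nat.ble 1 (cnt 736 l) ||
    (Nat.ble 2 (cnt 896 l) && (Nat.ble 1 (cnt 231 l) && Nat.ble 1 (cnt 2024 l)))))

def D11 : List (ℕ × ℤ) := [(896, 0), (896, -1), (1035, 1), (230, -1), (45, 1), (45, 1)]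

def V11 : List Row := [(896, -1, 0), (45, 1, -3), (45, 1, -3), (1035, 1, 27), (230, -1, 22)]

def m5 (d : ℕ) : ℕ := if d % 5 = 0 then 0 else if d % 5 = 1 ∨ d % 5 = 4 then 1 else 4

def good (l : List (ℕ × ℤ)) : Bool :=
  cnt 22 l == 1 && l.all fun y => Nat.ble 253 y.1 || [22, 45, 231].contains y.1

end Cfsg.Agent.MK.T23
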