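import Cfsg.Agent.MK.Prune
import Cfsg.Agent.MK.T23D

/-!
# Searches for the centraliser of an element of order `11` at order `244823040`
-/

set_option autoImplicit false

namespace Cfsg.Agent.MK.T24

open Cfsg.Agent.Small

def W23 (d : ℕ) : Bool := [0, 1, 22, 11, 12].contains (d % 23)

/-- centraliser orders of an involution commuting with the element of order `11` -/
def cz (e X : ℕ) : List ℕ := (call 244823040 23).filter fun c => c % 23 != 0 &&
  [1, 3, 5, 9, 15, 27, 45, 135].any fun k => (11 * X * e) % k == 0 && Nat.blt k X &&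
    fN (11 * X * e / k) fun n => c % n == 0 && (c / n % 11 == 1 &&
      ((e % 5 != 0 || X % 16 == 0 || n % 5 == 0) && (887040 % c != 0 || c / n != 672)))

def kc (e X c : ℕ) : Bool :=
  !K1P 244823040 11 e X (fun d => W23 d && !(vL 244823040 c (stp 11 c) 11 false d 0).isEmpty) fun l =>
    T23.FF 23 l && (VS2 244823040 11 e X c false (fun _ _ => true) (c - 1) l (fun _ => true) ||
      (e % 2 == 0 && VS2 244823040 11 e X c true (fun _ _ => true) (c - 1) l fun _ => true))

def kz (e X : ℕ) : Bool := (cz e X).all fun c => fN c fun c => kc e X c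

def s7 (c : ℕ × ℕ) : Bool := c.2 % 11 != 0 || c.2 % 23 == 0

def s11 (c : ℕ × ℕ) : Bool := c.2 % 2 == 0 || c.2 % 7 == 0 || c.2 % 23 == 0 || c == (10, 1)

def rz : List (ℕ × ℕ) := (cands 244823040 11 23).filter fun c =>
  c.2 % 2 == 0 && (c.2 % 7 != 0 && c.2 % 23 != 0)

end Cfsg.Agent.MK.T24
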