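import Cfsg.Agent.MK.T24D

/-! Kernel checks for the centraliser of an element of order `11` at order `244823040`. -/

set_option autoImplicit false

namespace Cfsg.Agent.MK.T24

theorem k7 : killAllP 244823040 7 23 s7 W23 (fun _ => T23.FF 23) (fun c => c % 23 != 0) = true := by
  decide +kernel

theorem k11 : killAllP 244823040 11 23 s11 W23 (fun _ => T23.FF 23) (fun c => c % 23 != 0) = true := by
  decide +kernel

theorem rz_eq : rz = [(2, 2304), (2, 8640), (5, 3456), (10, 1728), (2, 192), (2, 720), (5, 288),
    (10, 144), (2, 16), (2, 60), (5, 24), (10, 12), (5, 2)] := by decide +kernel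

theorem kz_2_2304 : kz 2 2304 = true := by decide +kernel

theorem kz_2_8640 : kz 2 8640 = true := by decide +kernel

theorem kz_5_3456 : kz 5 3456 = true := by decide +kernel

theorem kz_10_1728 : kz 10 1728 = true := by decide +kernel

theorem kz_2_192 : kz 2 192 = true := by decide +kernel

theorem kz_2_720 : kz 2 720 = true := by decide +kernel


end Cfsg.Agent.MK.T24
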