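import Cfsg.Agent.MK.T24D

/-! Kernel checks for the centraliser of an element of order `11` at order `244823040`. -/

set_option autoImplicit false

namespace Cfsg.Agent.MK.T24

theorem kz_5_288 : kz 5 288 = true := by decide +kernel

theorem kz_10_144 : kz 10 144 = true := by decide +kernel

theorem kz_2_16 : kz 2 16 = true := by decide +kernel

theorem kz_2_60 : kz 2 60 = true := by decide +kernel

theorem kz_5_24 : kz 5 24 = true := by decide +kernel

theorem kz_5_2 : kz 5 2 = true := by decide +kernel


end Cfsg.Agent.MK.T24
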