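import Cfsg.Agent.MK.T24D

/-! Kernel checks for the centraliser of an element of order `11` at order `244823040`. -/

set_option autoImplicit false

namespace Cfsg.Agent.MK.T24

theorem cz_eq : cz 10 12 = [440, 1320, 5280, 15840, 24640, 73920, 63360, 190080, 760320, 3548160,
    10644480] := by decide +kernel

theorem kc_440 : kc 10 12 440 = true := by decide +kernel

theorem kc_1320 : kc 10 12 1320 = true := by decide +kernel

theorem kc_5280 : kc 10 12 5280 = true := by decide +kernel

theorem kc_15840 : kc 10 12 15840 = true := by decide +kernel

theorem kc_24640 : kc 10 12 24640 = true := by decide +kernel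

theorem kc_73920 : kc 10 12 73920 = true := by decide +kernel

theorem kc_63360 : kc 10 12 63360 = true := by decide +kernel

theorem kc_190080 : kc 10 12 190080 = true := by decide +kernel

theorem kc_760320 : kc 10 12 760320 = true := by decide +kernel

theorem kc_3548160 : kc 10 12 3548160 = true := by decide +kernel

theorem kc_10644480 : kc 10 12 10644480 = true := by decide +kernel

theorem kz_10_12 : kz 10 12 = true := by
  simp only [kz, cz_eq, List.all_cons, List.all_nil, Small.fN_eq, kc_440, kc_1320, kc_5280, kc_15840,
    kc_24640, kc_73920, kc_63360, kc_190080, kc_760320, kc_3548160, kc_10644480, Bool.and_self]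

end Cfsg.Agent.MK.T24
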