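import Cfsg.Agent.MK.Loc3
import Cfsg.Agent.MK.Loc1
import Cfsg.Agent.MK.T2
import Cfsg.Agent.MK.M22H

/-!
# The number of Sylow `11`-subgroups of a group of order dividing `|M₂₂|`
-/

set_option autoImplicit false
set_option linter.unusedSectionVars false

namespace Cfsg.Agent.MK.T24

open Subgroup Cfsg.Agent.M11 Cfsg.Agent.Local

universe u

theorem arith11 {r a b : ℕ} (hr : r.Prime) (hd : r ^ a ∣ 443520) (h11 : r ≠ 11) (hb : b ≤ a)
    (h : r ^ a ≡ r ^ b [MOD 11]) : a = b := by
  rcases Nat.eq_zero_or_pos a with rfl | ha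
  · omega
  have h1 : r ∣ 2 ^ 7 * 3 ^ 2 * 5 * 7 * 11 := (dvd_pow_self r ha.ne').trans hd
  have key : ∀ s k : ℕ, ¬ s ^ (k + 1) ∣ 443520 → r = s → a ≤ k := fun s k hs e => by
    by_contra hk
    exact hs ((pow_dvd_pow s (by omega)).trans (e ▸ hd))
  unfold Nat.ModEq at h
  simp only [hr.dvd_mul] at h1
  rcases h1 with (((h1 | h1) | h1) | h1) | h1
  · obtain rfl := (Nat.prime_dvd_prime_iff_eq hr Nat.prime_two).1 (hr.dvd_of_dvd_pow h1)
    have := key 2 7 (by norm_num) rfl
    interval_cases a <;> interval_cases b <;> first | rfl | omega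
  · obtain rfl := (Nat.prime_dvd_prime_iff_eq hr Nat.prime_three).1 (hr.dvd_of_dvd_pow h1)
    have := key 3 2 (by norm_num) rfl
    interval_cases a <;> interval_cases b <;> first | rfl | omega
  · obtain rfl := (Nat.prime_dvd_prime_iff_eq hr (by norm_num)).1 h1
    have := key 5 1 (by norm_num) rfl
    interval_cases a <;> interval_cases b <;> first | rfl | omega
  · obtain rfl := (Nat.prime_dvd_prime_iff_eq hr (by norm_num)).1 h1
    have := key 7 1 (by norm_num) rfl
    interval_cases a <;> interval_cases b <;> first | rfl | omega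
  · exact absurd ((Nat.prime_dvd_prime_iff_eq hr (by norm_num)).1 h1) h11

theorem cent11 [Fact (Nat.Prime 11)] {H : Type*} [Group H] [Finite H]
    (hd : Nat.card H ∣ 443520) (K : Subgroup H) [K.Normal] (hK : ¬ 11 ∣ Nat.card K)
    (P : Sylow 11 H) : K ≤ centralizer (P : Set H) := by
  refine le_of_forall_exists_isSylowIn_le fun r hr hrK => ?_
  have := Fact.mk hr
  have hcop : (Nat.card (P : Subgroup H)).Coprime (Nat.card K) := by
    obtain ⟨k, hk⟩ := P.isPGroup'.exists_card_eq
    rw [hk]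
    exact Nat.Coprime.pow_left _ ((Fact.out : Nat.Prime 11).coprime_iff_not_dvd.2 hK)
  obtain ⟨R, hR, hPR⟩ := exists_invariant_isSylowIn (A := (P : Subgroup H)) (N := K)
    (by rw [normalizer_eq_top]; exact le_top) hcop (.inl (isSolvable_of_isPGroup P.isPGroup')) r
  refine ⟨R, hR, ?_⟩
  have h1 := card_modEq_cen3 P.isPGroup' hPR
  obtain ⟨a, ha⟩ := hR.isPGroup.exists_card_eq
  have h2 : Nat.card ↥(R ⊓ centralizer ((P : Subgroup H) : Set H)) ∣ r ^ a :=
    ha ▸ card_dvd_of_le inf_le_left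
  obtain ⟨b, hb, e⟩ := (Nat.dvd_prime_pow hr).1 h2
  rw [ha, e] at h1
  have h3 := arith11 hr (ha ▸ (card_subgroup_dvd_card R).trans hd)
    (fun e => hK (e ▸ hrK)) hb h1
  have h4 : R ⊓ centralizer ((P : Subgroup H) : Set H) = R :=
    eq_of_le_of_card_ge inf_le_left (by rw [ha, e, h3])
  exact h4 ▸ inf_le_right

theorem syl11_aux [Fact (Nat.Prime 11)] (n : ℕ) : ∀ {H : Type u} [Group H] [Finite H],
    Nat.card H = n → Nat.card H ∣ 443520 →
    Nat.card (Sylow 11 H) = 1 ∨ ∃ (S : Type u) (_ : Group S) (_ : Finite S), IsSimpleGroup S ∧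
      ¬ IsMulCommutative S ∧ 11 ∣ Nat.card S ∧ Nat.card S ∣ Nat.card H ∧
      Nat.card (Sylow 11 S) = Nat.card (Sylow 11 H) := by
  induction n using Nat.strong_induction_on with
  | _ n ih =>
  intro H _ _ hn hd
  by_cases h11 : 11 ∣ Nat.card H
  swap
  · left
    have h1 := card_sylow_normal (p := 11) (⊥ : Subgroup H) (by rwa [index_bot])
    rw [← h1]
    obtain ⟨P⟩ := (Sylow.nonempty : Nonempty (Sylow 11 (⊥ : Subgroup H)))
    have : Unique (Sylow 11 (⊥ : Subgroup H)) := Sylow.unique_of_normal P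
      ⟨fun x hx g => by rwa [Subsingleton.elim (g * x * g⁻¹) x]⟩
    exact Nat.card_unique
  by_cases hs : IsSimpleGroup H
  · by_cases hc : IsMulCommutative H
    · left
      obtain ⟨P⟩ := (Sylow.nonempty : Nonempty (Sylow 11 H))
      have : Unique (Sylow 11 H) := Sylow.unique_of_normal P
        ⟨fun x hx g => by rwa [hc.1.comm g x, mul_inv_cancel_right]⟩
      exact Nat.card_unique
    · exact .inr ⟨H, inferInstance, inferInstance, hs, hc, h11, dvd_rfl, rfl⟩
  have hnt : Nontrivial H := by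
    rw [← Finite.one_lt_card_iff_nontrivial]
    have := Nat.le_of_dvd Nat.card_pos h11
    omega
  obtain ⟨K, hKn, hK1, hK2⟩ : ∃ K : Subgroup H, K.Normal ∧ K ≠ ⊥ ∧ K ≠ ⊤ := by
    by_contra hne
    push Not at hne
    exact hs ⟨fun K hK => by
      by_cases hb : K = ⊥
      · exact .inl hb
      · exact .inr (hne K hK hb)⟩
  have hm := K.card_mul_index
  have hK3 : 1 < Nat.card K := (K.one_lt_card_iff_ne_bot).2 hK1
  have hK4 : 1 < K.index := one_lt_index_of_ne_top hK2
  by_cases hK : 11 ∣ Nat.card K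
  · have hi : ¬ 11 ∣ K.index := fun hi => by
      have := (hm ▸ mul_dvd_mul hK hi).trans hd
      norm_num at this
    have h1 := card_sylow_normal (p := 11) K hi
    rcases ih (Nat.card K) (by nlinarith) (H := K) rfl ((card_subgroup_dvd_card K).trans hd) with
      h | ⟨S, _, _, s1, s2, s3, s4, s5⟩
    · exact .inl (h1 ▸ h)
    · exact .inr ⟨S, inferInstance, inferInstance, s1, s2, s3,
        s4.trans (card_subgroup_dvd_card K), s5.trans h1⟩
  · have h1 := card_sylow_quot (p := 11) K hK (cent11 hd K hK)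
    have hq : Nat.card (H ⧸ K) ∣ Nat.card H := K.index_dvd_card
    rcases ih (Nat.card (H ⧸ K)) (by change K.index < n; nlinarith) (H := H ⧸ K) rfl
      (hq.trans hd) with h | ⟨S, _, _, s1, s2, s3, s4, s5⟩
    · exact .inl (h1 ▸ h)
    · exact .inr ⟨S, inferInstance, inferInstance, s1, s2, s3, s4.trans hq, s5.trans h1⟩

/-- Loc3 : same, for a centralizer (the simple section avoids the central element) -/
theorem syl11_cent [Fact (Nat.Prime 11)] {H : Type u} [Group H] [Finite H]
    {z : H} (hz : (orderOf z).Prime) (h11 : orderOf z ≠ 11) (hd : cc z ∣ orderOf z * 443520) :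
    Nat.card (Sylow 11 (centralizer ({z} : Set H))) = 1 ∨ ∃ (S : Type u) (_ : Group S) (_ : Finite S),
      IsSimpleGroup S ∧ ¬ IsMulCommutative S ∧ 11 ∣ Nat.card S ∧ orderOf z * Nat.card S ∣ cc z ∧
      Nat.card (Sylow 11 S) = Nat.card (Sylow 11 (centralizer ({z} : Set H))) := by
  set C := centralizer ({z} : Set H)
  have hzC : z ∈ C := mem_centralizer_singleton_iff.2 rfl
  let K : Subgroup C := zpowers ⟨z, hzC⟩
  have hcen : K ≤ center C := by
    rw [zpowers_le, mem_center_iff]
    exact fun g => Subtype.ext (mem_centralizer_singleton_iff.1 g.2)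
  have hKn : K.Normal := ⟨fun x hx g => by
    rwa [mem_center_iff.1 (hcen hx) g, mul_inv_cancel_right]⟩
  have hKc : Nat.card K = orderOf z := by
    rw [Nat.card_zpowers, ← orderOf_coe]
  have hK : ¬ 11 ∣ Nat.card K := fun h => by
    rw [hKc] at h
    exact h11 ((Nat.prime_dvd_prime_iff_eq Fact.out hz).1 h).symm
  have h1 := card_sylow_quot (p := 11) K hK fun P => hcen.trans (center_le_centralizer _)
  have hm : orderOf z * Nat.card (C ⧸ K) = cc z := hKc ▸ K.card_mul_index
  have hq : Nat.card (C ⧸ K) ∣ 443520 := Nat.dvd_of_mul_dvd_mul_left hz.pos (hm ▸ hd)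
  rcases syl11_aux _ rfl hq with h | ⟨S, _, _, s1, s2, s3, s4, s5⟩
  · exact .inl (h1 ▸ h)
  · exact .inr ⟨S, inferInstance, inferInstance, s1, s2, s3,
      hm ▸ mul_dvd_mul_left _ s4, s5.trans h1⟩

theorem ne672 [Fact (Nat.Prime 11)] {H : Type u} [Group H] [Finite H] {z : H} (hz : orderOf z = 2)
    (hd : cc z ∣ 887040) : Nat.card (Sylow 11 (centralizer ({z} : Set H))) ≠ 672 := fun e => by
  rcases syl11_cent (z := z) (hz ▸ Nat.prime_two) (by omega) (hz ▸ hd) with h | ⟨S, _, _, s1, s2, s3, s4, s5⟩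
  · omega
  have h1 : Nat.card S ∣ 443520 := Nat.dvd_of_mul_dvd_mul_left two_pos ((hz ▸ s4).trans hd)
  obtain ⟨y, hy⟩ := exists_prime_orderOf_dvd_card' (G := S) 11 s3
  have hq : ¬ 11 * 11 ∣ Nat.card S := fun e => absurd (e.trans h1) (by norm_num)
  have h2 := Sylow.card_eq_index_normalizer (syl_zp hq hy (mem_top y)).toSylow
  have h3 : Nat.card (normalizer (zpowers y : Set S)) * 672 = Nat.card S := by
    rw [← e, ← s5, Sylow.card_eq_index_normalizer
      (⟨zpowers y, isPGroup_zpowers_of_orderOf_eq hy, fun {Q} hQ hle =>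
        ((syl_zp hq hy (mem_top y)).eq_of_le hQ hle le_top)⟩ : Sylow 11 S)]
    exact card_mul_index _
  have h4 : 11 ∣ Nat.card (normalizer (zpowers y : Set S)) :=
    hy ▸ orderOf_dvd_card_of_mem (le_normalizer (mem_zpowers y))
  have h5 : 0 < Nat.card S := Nat.card_pos
  rcases t2 S s2 h1 s3 with h | h | h
  · omega
  · omega
  · have := ((m22data h).2.2.2.1 y hy).2
    omega

end Cfsg.Agent.MK.T24
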