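import Cfsg.Agent.MK.T24KA
import Cfsg.Agent.MK.T24KB
import Cfsg.Agent.MK.T24KC
import Cfsg.Agent.MK.T24S
import Cfsg.Agent.MK.T23A
import Cfsg.Agent.MK.Loc2
import Cfsg.Agent.BT.Main

/-!
# The centraliser of an element of order `11` at order `244823040`
-/

set_option autoImplicit false
set_option linter.unusedSectionVars false

namespace Cfsg.Agent.MK.T24

open Finset Subgroup Cfsg.Agent.Char Cfsg.Agent.Zass Cfsg.Agent.Local Cfsg.Agent.M11 Cfsg.Agent.Small

variable {G : Type*} [Group G] [Finite G]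

theorem w23 {x : G} (h : LD 23 11 1 x) (χ : IrrCharacter G) : W23 (deg χ.1) = true := by
  obtain ⟨w, h1, h2⟩ := BT.brauer h χ.2
  simp only [W23, List.contains_cons, List.contains_nil, Bool.or_false, Bool.or_eq_true, beq_iff_eq]
  push_cast at h1 h2
  have h3 : w = -2 ∨ w = -1 ∨ w = 0 ∨ w = 1 ∨ w = 2 := by omega
  rcases h3 with rfl | rfl | rfl | rfl | rfl <;> omega

theorem five {e X f Y : ℕ} {y w z : G} (h : LD 11 e X y) (k : LD 5 f Y w) (he : 5 ∣ e)
    (hX : ¬ 16 ∣ X) (hz : orderOf z = 2) (hc : Commute z y) :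
    5 ∣ Nat.card ↥(normalizer (zpowers y : Set G) ⊓ centralizer {z}) := by
  obtain ⟨u, u5, uN, Z, -, -, -, H⟩ := h.act k he
  have h0 : X ≠ 0 := h.not_dvd.2.2.2.1.ne'
  obtain ⟨b, hb, -, h1, h2⟩ := H 2 (X.factorization 2) Nat.prime_two (Nat.ordProj_dvd X 2)
    (Nat.pow_succ_factorization_not_dvd h0 Nat.prime_two)
  have h3 : X.factorization 2 < 4 := by
    by_contra hh
    exact hX ((pow_dvd_pow 2 (show 4 ≤ X.factorization 2 by omega)).trans (Nat.ordProj_dvd X 2))
  have h4 : b = X.factorization 2 := by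
    generalize X.factorization 2 = a at hb h1 h3
    interval_cases a <;> interval_cases b <;> first | rfl | omega
  obtain ⟨g, g1, g2⟩ := h2 h4 (by norm_num) z hz hc
  have gN : g ∈ normalizer (zpowers y : Set G) := cen_le_nrm y (mem_centralizer_singleton_iff.2 g1)
  have h5 : orderOf (g⁻¹ * u * g) = 5 := by simpa [u5] using Local.orderOf_conj' g⁻¹ u
  refine h5 ▸ orderOf_dvd_card_of_mem (mem_inf.2 ⟨mul_mem (mul_mem (inv_mem gN) uN) gN,
    mem_centralizer_singleton_iff.2 ?_⟩)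
  calc _ = g⁻¹ * (u * (g * z * g⁻¹)) * g := by group
    _ = _ := by rw [← g2.eq]; group

theorem odd_k : ∀ k ∈ dv24, k % 2 = 1 → k % 7 ≠ 0 → k % 11 ≠ 0 → k % 23 ≠ 0 →
    k ∈ [1, 3, 5, 9, 15, 27, 45, 135] := by decide +kernel

theorem kz_all : ∀ c ∈ rz, kz c.1 c.2 = true := by
  simp only [rz_eq, List.forall_mem_cons, kz_2_2304, kz_2_8640, kz_5_3456, kz_10_1728, kz_2_192,
    kz_2_720, kz_5_288, kz_10_144, kz_2_16, kz_2_60, kz_5_24, kz_10_12, kz_5_2, true_and]
  simp

variable [IsSimpleGroup G] (hna : ¬ IsMulCommutative G) (hG : Nat.card G = 244823040) {x : G}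
  (hx : LD 23 11 1 x)
include hna hG hx

theorem c23 {s : G} (hs : orderOf s = 2) : cc s % 23 ≠ 0 := fun e => by
  obtain ⟨y, hy, hc⟩ := exists_of_prime_dvd_cc (by norm_num : Nat.Prime 23) (Nat.dvd_of_mod_eq_zero e)
  have := orderOf_dvd_cc hc.symm
  rw [hs, (hx.of_ord hy).ccx] at this
  omega

theorem main {e X : ℕ} {y : G} {T : Finset (IrrCharacter G)} {a : IrrCharacter G → ℤ}
    (h : KB 11 e X y T a) : e = 10 ∧ X = 1 := by
  have p11 : Nat.Prime 11 := by norm_num
  have p23 : Nat.Prime 23 := by norm_num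
  have := Fact.mk p11
  have hN : Nat.card G ∣ 244823040 := hG ▸ dvd_rfl
  have d23 : 23 ∣ Nat.card G := by rw [hG]; norm_num
  have s11 : ¬ 11 * 11 ∣ Nat.card G := by rw [hG]; norm_num
  have s7 : ¬ 7 * 7 ∣ Nat.card G := by rw [hG]; norm_num
  have s5 : ¬ 5 * 5 ∣ Nat.card G := by rw [hG]; norm_num
  have hy := T23.ld h p11 s11
  have hP : ∀ s : G, orderOf s = 2 → (cc s % 23 != 0) = true := fun s hs => by
    simpa using c23 hna hG hx hs
  have hF : ∀ l : List (ℕ × ℤ), (l : Multiset (ℕ × ℤ)) = rws T a → T23.FF 23 l = true := fun l hl =>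
    T23.ff hx (.inl ⟨rfl, rfl, rfl⟩) h (by norm_num) hl
  have n23 : ¬ 23 ∣ X := fun e => by simpa using (hy.compat hx (by norm_num)).1.1 e
  have n7 : ¬ 7 ∣ X := fun e => by
    obtain ⟨w, f, Y, _, _, k⟩ := exists_KB' hna (p := 7) (by norm_num) (by norm_num) (by norm_num) s7
      (by rw [hG]; norm_num)
    have hw := T23.ld k (by norm_num) s7
    have h1 := k.of_killAllP hna hN (by norm_num) (by norm_num) s7 p23 d23 (fun χ _ => w23 hx χ)
      (F := fun _ => T23.FF 23) (fun l hl => T23.ff hx (.inl ⟨rfl, rfl, rfl⟩) k (by norm_num) hl) hP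
      (hG ▸ k7)
    have h2 := (hy.compat hw (by norm_num)).1.1 e
    have h3 : ¬ 23 ∣ Y := fun e => by simpa using (hw.compat hx (by norm_num)).1.1 e
    simp only [T24.s7, Bool.or_eq_true, bne_iff_ne, beq_iff_eq] at h1
    omega
  by_cases h2 : 2 ∣ X
  swap
  · have h1 := h.of_killAllP hna hN p11 (by norm_num) s11 p23 d23 (fun χ _ => w23 hx χ)
      (F := fun _ => T23.FF 23) hF hP (hG ▸ k11)
    simp only [T24.s11, Bool.or_eq_true, beq_iff_eq, Prod.mk.injEq] at h1
    omega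
  exfalso
  have h1 := kz_all (e, X) (List.mem_filter.2 ⟨hG ▸ h.mem_cands hna hN p11 p23 d23, by
    simp only [Bool.and_eq_true, beq_iff_eq, bne_iff_ne]; omega⟩)
  obtain ⟨z, hz, hc, n, k, h3, h4, h5, h6⟩ := hy.inv_odd (by norm_num) h2
  obtain ⟨h7, h8⟩ := hy.cent hc
  rw [h6] at h7
  have h9 : 11 ∣ n := h6 ▸ h.ord ▸ orderOf_dvd_card_of_mem
    ⟨le_normalizer (mem_zpowers y), mem_centralizer_singleton_iff.2 hc.symm⟩
  have h10 : n * k ∣ Nat.card G := h3 ▸ h.nrm ▸ card_subgroup_dvd_card _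
  have h0 : 0 < n := h6 ▸ Nat.card_pos
  have he : e = 2 ∨ e = 5 ∨ e = 10 := by
    have h1 := h.dvd
    have h2 := h.ne
    have h3 := Nat.le_of_dvd (by norm_num) h1
    interval_cases e <;> omega
  have hk : ∀ q : ℕ, q.Prime → q ∣ k → q ∣ 11 ∨ q ∣ X ∨ q ∣ e := fun q hq e => by
    have := h3 ▸ e.mul_left n
    rwa [hq.dvd_mul, hq.dvd_mul, or_assoc] at this
  have h11 : k ∈ [1, 3, 5, 9, 15, 27, 45, 135] := by
    refine odd_k k (mem_dv24 ((Dvd.intro_left n rfl).trans (h10.trans hN))) h4 (fun e => ?_)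
      (fun e => s11 ((mul_dvd_mul h9 (Nat.dvd_of_mod_eq_zero e)).trans h10)) fun e => ?_
    · have := hk 7 (by norm_num) (Nat.dvd_of_mod_eq_zero e)
      omega
    · have := hk 23 p23 (Nat.dvd_of_mod_eq_zero e)
      omega
  have h12 : cc z / n = Nat.card (Sylow 11 (centralizer ({z} : Set G))) := by
    rw [h7, Nat.mul_div_cancel _ h0]
  have h13 : cc z ∈ cz e X := by
    simp only [cz, List.mem_filter, Bool.and_eq_true, bne_iff_ne, List.any_eq_true, beq_iff_eq,
      fN_eq, Bool.or_eq_true, Nat.blt_eq]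
    refine ⟨hG ▸ mem_call hna hN p23 d23 hz, c23 hna hG hx hz, k, h11, ⟨by rw [← h3]; simp, h5⟩, ?_⟩
    rw [← h3, Nat.mul_div_cancel _ (by omega), h12]
    refine ⟨by rw [h7]; simp, h8, ?_, or_iff_not_imp_left.2 fun e =>
      ne672 hz (Nat.dvd_of_mod_eq_zero (not_ne_iff.1 e))⟩
    by_contra hh
    obtain ⟨w, f, Y, _, _, k⟩ := exists_KB' hna (p := 5) (by norm_num) (by norm_num) (by norm_num) s5
      (by rw [hG]; norm_num)
    have := five hy (T23.ld k (by norm_num) s5) (by omega) (by omega) hz hc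
    omega
  have h14 := List.all_eq_true.1 h1 _ h13
  obtain ⟨r, -, r2, r3, -⟩ := h.st2 z hz
  rw [fN_eq, kc, ← hG, h.k1P hna hN (fun χ hχ => ?_) fun l hl => ?_] at h14
  · cases h14
  · rw [w23 hx χ, Bool.true_and, Bool.not_eq_true', List.isEmpty_eq_false_iff]
    exact List.ne_nil_of_mem (r3.mem χ hχ)
  · have := r3.vs2 hl (vf := fun _ _ => true) (fin := fun _ => true) (fun _ _ => rfl) r3.nrm
      fun _ _ => rfl
    rw [hF l hl, Bool.true_and]
    cases r
    · rw [this, Bool.true_or]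
    · have h15 : e % 2 = 0 := by
        by_contra hh
        simpa using r2 (by omega)
      rw [this, h15]
      simp

end T24

variable {G : Type*} [Group G] [Finite G]

theorem t24a [IsSimpleGroup G] (hna : ¬ IsMulCommutative G) (hG : Nat.card G = 244823040) {x : G}
    (hx : LD 23 11 1 x) : ∃ u : G, LD 11 10 1 u := by
  have s11 : ¬ 11 * 11 ∣ Nat.card G := by rw [hG]; norm_num
  obtain ⟨u, e, X, _, _, h⟩ := exists_KB' hna (p := 11) (by norm_num) (by norm_num) (by norm_num) s11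
    (by rw [hG]; norm_num)
  obtain ⟨rfl, rfl⟩ := T24.main hna hG hx h
  exact ⟨u, T23.ld h (by norm_num) s11⟩

end Cfsg.Agent.MK
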