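import Cfsg.Agent.MK.Cand

/-!
# Kernel searches for simple groups of order dividing `443520`
-/

set_option autoImplicit false
set_option maxRecDepth 100000

namespace Cfsg.Agent.MK

open Cfsg.Agent.Small

def t2a (N : ℕ) : Bool := N % 44 != 0 || ([660, 7920, 443520, 4620, 36960, 73920].contains N ||
  killAll N 11 11 (fun c => N == 110880 && c == (10, 7)) (fun _ => true) (fun _ _ => true) fun _ => true)

theorem t2k1 : ((dvN 443520).filter (· < 40000)).all (fun N => fN N t2a) = true := by decide +kernel

theorem t2k2 : ((dvN 443520).filter (40000 ≤ ·)).all (fun N => fN N t2a) = true := by decide +kernel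

theorem t2k3 : [4620, 36960, 73920].all (fun N =>
    killAll N 7 11 (fun _ => false) (fun _ => true) (fun _ _ => true) fun _ => true) = true := by
  decide +kernel

theorem t2k4 : killAll 110880 7 11 (fun c => c.2 % 11 != 0) (fun _ => true) (fun _ _ => true)
    (fun _ => true) = true := by decide +kernel

end Cfsg.Agent.MK
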